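import Cfsg.Agent.OddCharTwelve.CoreShape
import Cfsg.Agent.Coprime.Hall

/-!
# The orbits on the dual of the part of `N_σ'` prime to `p`
-/

set_option autoImplicit false
set_option linter.unusedSectionVars false
set_option linter.style.haveILetI false

namespace Cfsg.Agent.OddCharTwelve

open Subgroup Cfsg
open scoped commutatorElement

universe u

variable {G : Type u} [Group G]

/-- The action of a normalising subgroup on the dual. -/
@[reducible] def dualAction {N Q : Subgroup G} (hn : N ≤ normalizer (Q : Set G)) :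
    MulAction N (↥Q →* ℂˣ) where
  smul n θ := θ.comp (OddLocal.NilpotentPrimeAction.conjHom hn n⁻¹).toMonoidHom
  one_smul θ := MonoidHom.ext fun v => by
    show θ (OddLocal.NilpotentPrimeAction.conjHom hn (1 : N)⁻¹ v) = θ v
    rw [inv_one, map_one, MulAut.one_apply]
  mul_smul n m θ := MonoidHom.ext fun v => by
    show θ (OddLocal.NilpotentPrimeAction.conjHom hn (n * m)⁻¹ v) =
      θ (OddLocal.NilpotentPrimeAction.conjHom hn m⁻¹
        (OddLocal.NilpotentPrimeAction.conjHom hn n⁻¹ v))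
    rw [mul_inv_rev, map_mul, MulAut.mul_apply]

/-- The stabiliser of a linear character, inside `G`. -/
def stabG {N Q : Subgroup G} (hn : N ≤ normalizer (Q : Set G)) (θ : ↥Q →* ℂˣ) : Subgroup G :=
  letI := dualAction hn
  (MulAction.stabilizer N θ).map N.subtype

theorem stabG_le {N Q : Subgroup G} (hn : N ≤ normalizer (Q : Set G)) (θ : ↥Q →* ℂˣ) :
    stabG hn θ ≤ N := map_subtype_le _

theorem mem_stabG {N Q : Subgroup G} (hn : N ≤ normalizer (Q : Set G)) (θ : ↥Q →* ℂˣ)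
    {v : G} (hv : v ∈ N) :
    v ∈ stabG hn θ ↔ ∀ u : Q,
      θ (OddLocal.NilpotentPrimeAction.conjHom hn ⟨v, hv⟩⁻¹ u) = θ u := by
  constructor
  · rintro ⟨w, hw, e⟩ u
    obtain rfl : w = ⟨v, hv⟩ := Subtype.ext e
    exact DFunLike.congr_fun hw u
  · intro h
    exact ⟨⟨v, hv⟩, MonoidHom.ext h, rfl⟩

/-- A coprime group fixing a nontrivial character fixes a nontrivial element. -/
theorem inf_centralizer_ne_bot [Finite G] {N Q R : Subgroup G}
    (hn : N ≤ normalizer (Q : Set G)) (hQ : ∀ u ∈ Q, ∀ v ∈ Q, Commute u v) {θ : ↥Q →* ℂˣ}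
    (hθ : θ ≠ 1) (hR : R ≤ stabG hn θ) (hcop : (Nat.card R).Coprime (Nat.card Q)) :
    Q ⊓ centralizer (R : Set G) ≠ ⊥ := by
  classical
  have := Fintype.ofFinite R
  letI : CommGroup Q := { (inferInstance : Group Q) with
    mul_comm := fun s t => Subtype.ext (hQ s s.2 t t.2).eq }
  have hRN : R ≤ N := hR.trans (stabG_le hn θ)
  let c : R →* MulAut Q := (OddLocal.NilpotentPrimeAction.conjHom hn).comp (inclusion hRN)
  obtain ⟨v, hv⟩ : ∃ v, θ v ≠ 1 := by
    by_contra h
    push Not at h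
    exact hθ (MonoidHom.ext h)
  set π : Q := ∏ r : R, c r v with hπ
  have hfix : ∀ r : R, c r π = π := by
    intro r
    rw [hπ, map_prod]
    refine Fintype.prod_equiv (Equiv.mulLeft r) _ _ fun s => ?_
    show c r (c s v) = c (r * s) v
    rw [map_mul, MulAut.mul_apply]
  have hθπ : θ π = θ v ^ Nat.card R := by
    rw [hπ, map_prod, Nat.card_eq_fintype_card, ← Finset.card_univ, ← Finset.prod_const]
    refine Finset.prod_congr rfl fun r _ => ?_
    have h1 := (mem_stabG hn θ (hRN (R.inv_mem r.2))).1 (hR (R.inv_mem r.2)) v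
    rw [show ((⟨(r : G)⁻¹, hRN (R.inv_mem r.2)⟩ : N)⁻¹) = inclusion hRN r from
      Subtype.ext (inv_inv (r : G))] at h1
    exact h1
  intro hbot
  have hπmem : (π : G) ∈ Q ⊓ centralizer (R : Set G) := by
    refine ⟨π.2, mem_centralizer_iff.2 fun r hr => ?_⟩
    have h1 : r * (π : G) * r⁻¹ = π := congrArg Subtype.val (hfix ⟨r, hr⟩)
    exact mul_inv_eq_iff_eq_mul.1 h1
  rw [hbot, mem_bot] at hπmem
  rw [show π = 1 from Subtype.ext hπmem, map_one] at hθπ
  have h2 : θ v ^ Nat.card Q = 1 := by rw [← map_pow, pow_card_eq_one', map_one]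
  exact hv (orderOf_eq_one_iff.1 (Nat.eq_one_of_dvd_coprimes hcop
    (orderOf_dvd_of_pow_eq_one hθπ.symm) (orderOf_dvd_of_pow_eq_one h2)))

variable [Finite G] {M N E A W O : Subgroup G} {p : ℕ} [hp : Fact p.Prime] {x a : G}
  (S : Setting M N E A p x a)

include S

set_option maxHeartbeats 1000000 in
theorem Setting.shape_core (h : OddLocal.CoreData N W) (hW : IsComplIn W (sigmaCore N) N)
    (hO : IsPCompl N O p) (he : Nat.card W ≤ p) :
    ∃ P, IsSyl N P p ∧ W ≤ normalizer (P : Set G) ∧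
      Shape N O P (O ⊓ derK N) p (Nat.card W) ∧
      (⁅P, P⁆ = ⊥ → derK N ⊓ centralizer ({x} : Set G) = ⊥) := by
  classical
  have hG := S.minSimple
  have hN := S.coatomN
  obtain ⟨D, P, hcs⟩ := S.exists_coreSyl h hO
  have hP := hcs.syl
  set Q1 := O ⊓ derK N with hQ1
  have hQQ : Q1 ≤ OddLocal.coreSylow N W := S.derK_O_le_coreSylow h hcs hO
  have hcent : ⁅P, P⁆ ≤ centralizer (OddLocal.coreSylow N W : Set G) :=
    S.derived_D h hcs hO ▸ h.compl_derived_le hcs.compl hcs.normD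
  have hcomm : ∀ u ∈ Q1, ∀ v ∈ Q1, Commute u v := fun u hu v hv =>
    S.coreSylow_comm h hcs hO u (hQQ hu) v (hQQ hv)
  have hn : N ≤ normalizer (Q1 : Set G) := Coprime.le_normalizer_inf hO.normal (derK_normal N)
  have hfixP : Q1 ⊓ centralizer (P : Set G) = ⊥ := S.fixedP_core h hcs hO
  have hcard : Nat.card (derK N) = Nat.card Q1 * Nat.card ↥⁅P, P⁆ := by
    conv_lhs => rw [hO.derK_eq hP]
    refine Coprime.card_sup_eq_mul (((commutator_le_self P).trans hP.1).trans
      ((OddLocal.sigmaCore_le N).trans hn)) ?_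
    rw [eq_bot_iff, ← hO.inf_syl hP]
    exact inf_le_inf inf_le_left (commutator_le_self P)
  refine ⟨P, hP, hcs.normW, ⟨inf_le_left, inf_le_right, hcard, hcomm, hn,
    hcent.trans (centralizer_le hQQ), hfixP, fun hreg θ hθ => ?_⟩, S.derK_free h hcs hO⟩
  letI := dualAction hn
  haveI : Fintype N := Fintype.ofFinite N
  have hcopQ : ∀ R : Subgroup G, IsPGroup p R → (Nat.card R).Coprime (Nat.card Q1) := by
    intro R hR
    obtain ⟨j, hj⟩ := IsPGroup.iff_card.1 hR
    rw [hj]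
    exact (hp.out.coprime_iff_not_dvd.2 fun hd =>
      hO.not_dvd (hd.trans (card_dvd_of_le inf_le_left))).pow_left j
  have hne : ∀ n : N, n • θ ≠ 1 := fun n e => hθ (by
    rw [← inv_smul_smul n θ, e]
    rfl)
  have hidx : ∀ φ : ↥Q1 →* ℂˣ,
      (Finset.univ.image fun n : N => n • φ).card = (stabG hn φ).relIndex N := by
    intro φ
    rw [stabG, relIndex, subgroupOf, comap_map_eq_self_of_injective N.subtype_injective,
      MulAction.index_stabilizer, ← Set.ncard_coe_finset]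
    congr 1
    ext ψ
    simp [MulAction.mem_orbit_iff]
  have hmem : ∀ φ ∈ (Finset.univ.image fun n : N => n • θ), ∃ n : N,
      φ = θ.comp (OddLocal.NilpotentPrimeAction.conjHom hn n).toMonoidHom := fun φ hφ => by
    obtain ⟨n, -, rfl⟩ := Finset.mem_image.1 hφ
    exact ⟨n⁻¹, rfl⟩
  have hconj : ∀ {g : G} (hg : g ∈ N) {R : Subgroup G}, R ≤ stabG hn θ →
      R.map (MulAut.conj g).toMonoidHom ≤ stabG hn ((⟨g, hg⟩ : N) • θ) := by
    rintro g hg R hR _ ⟨r, hr, rfl⟩
    obtain ⟨w, hw, rfl⟩ := hR hr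
    refine ⟨⟨g, hg⟩ * w * (⟨g, hg⟩ : N)⁻¹, ?_, rfl⟩
    show (_ : N) • _ = _
    rw [mul_smul, inv_smul_smul, mul_smul, (hw : w • θ = θ)]
  have hσsol := OddLocal.isSolvable_coatom hG hN
  have hTsol : Group.IsSolvable (stabG hn θ) := Core.isSolvable_mono hσsol (stabG_le hn θ)
  -- `p` divides the length of the orbit
  have hpi : p ∣ (stabG hn θ).relIndex N := by
    by_contra hpi
    obtain ⟨R, hR⟩ := Coprime.exists_isPiHallOf hTsol ({p} : Set ℕ)
    have hRp : IsPGroup p R := OddLocal.isPGroup_of_singleton fun r hr hd => hR.2.1 r hr hd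
    have hRσ : R ≤ sigmaCore N := OddLocal.le_sigmaCore_of_isPGroup hG hN
      (hR.1.trans (stabG_le hn θ)) hRp S.sigmaN
    have hRsyl : IsSyl N R p := by
      refine ⟨hRσ, hR.2.1, fun r hr hrp hd => ?_⟩
      have h1 : r ∣ R.relIndex N :=
        hd.trans (Dvd.intro _ (relIndex_mul_relIndex _ _ _ hRσ (OddLocal.sigmaCore_le N)))
      rw [← relIndex_mul_relIndex _ _ _ hR.1 (stabG_le hn θ)] at h1
      rcases hr.dvd_mul.1 h1 with h2 | h2
      · exact hR.2.2 r hr hrp h2
      · exact hpi ((show r = p by simpa using hrp) ▸ h2)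
    obtain ⟨k, hk, hkP⟩ := S.syl_conj hRsyl hP
    have hkN := OddLocal.sigmaCore_le N hk
    exact inf_centralizer_ne_bot hn hcomm (hne ⟨k, hkN⟩) (hkP ▸ hconj hkN hR.1)
      (hcopQ P hP.isPGroup) hfixP
  set e := Nat.card W with hedef
  have hep : e.Prime := h.card_K_prime
  have hWσ : (Nat.card W).Coprime (Nat.card (sigmaCore N)) := S.coprime_W hW
  have hne' : p ≠ e := fun e' => hp.out.one_lt.ne' (Nat.eq_one_of_dvd_coprimes hWσ
    (e'.dvd) ((orderOf_eq_prime S.pair.pow S.pair.ne).symm.dvd.trans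
      (Subgroup.orderOf_dvd_natCard _ (S.A_le S.mem_A))))
  by_cases hei : e ∣ (stabG hn θ).relIndex N
  · refine ⟨_, ?_, hmem⟩
    rw [hidx]
    exact Nat.le_of_dvd (Nat.pos_of_ne_zero Subgroup.index_ne_zero_of_finite)
      (((Nat.coprime_primes hp.out hep).2 hne').mul_dvd_of_dvd_of_dvd hpi hei)
  -- a conjugate of `W` fixes `θ`
  obtain ⟨R, hR⟩ := Coprime.exists_isPiHallOf hTsol ({e} : Set ℕ)
  have hRN : IsPiHallOf ({e} : Set ℕ) R N := by
    refine ⟨hR.1.trans (stabG_le hn θ), hR.2.1, fun r hr hre hd => ?_⟩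
    rw [← relIndex_mul_relIndex _ _ _ hR.1 (stabG_le hn θ)] at hd
    rcases hr.dvd_mul.1 hd with h2 | h2
    · exact hR.2.2 r hr hre h2
    · exact hei ((show r = e by simpa using hre) ▸ h2)
  have hWN : IsPiHallOf ({e} : Set ℕ) W N := by
    refine ⟨hW.1, fun r hr hd => ?_, fun r hr hre hd => ?_⟩
    · exact (Nat.prime_dvd_prime_iff_eq hr hep).1 hd
    · have hre' : r = e := by simpa using hre
      have h1 := Coprime.card_mul_relIndex_of_le hW.1
      rw [card_eq (N := N), card_core, idx_eq_card_compl hW] at h1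
      rw [Nat.eq_of_mul_eq_mul_left Nat.card_pos h1, hre'] at hd
      exact hep.one_lt.ne' (Nat.eq_one_of_dvd_coprimes hWσ dvd_rfl hd)
  obtain ⟨g, hg, hgW⟩ := Coprime.exists_conj_isPiHallOf hσsol hRN hWN
  set φ := (⟨g, hg⟩ : N) • θ with hφ
  have hWφ : W ≤ stabG hn φ := hgW ▸ hconj hg hR.1
  refine ⟨Finset.univ.image fun n : N => n • φ, ?_, fun ψ hψ => hmem ψ ?_⟩
  swap
  · obtain ⟨n, -, rfl⟩ := Finset.mem_image.1 hψ
    refine Finset.mem_image.2 ⟨n * (⟨g, hg⟩ : N), Finset.mem_univ _, ?_⟩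
    rw [hφ]
    exact mul_smul n (⟨g, hg⟩ : N) θ
  rw [hidx]
  set R₁ := stabG hn φ ⊓ P with hR₁
  have hPN : P ≤ N := hP.1.trans (OddLocal.sigmaCore_le N)
  refine le_trans (b := (stabG hn φ).relIndex P) ?_
    (relIndex_le_of_le_right hPN Subgroup.index_ne_zero_of_finite)
  rw [← inf_relIndex_right, ← hR₁]
  have hdR : R₁ ≤ P := inf_le_right
  have hP'R : ⁅P, P⁆ ≤ R₁ := fun v hv => by
    have hvP : v ∈ P := commutator_le_self P hv
    refine ⟨(mem_stabG hn φ (hPN hvP)).2 fun u => ?_, hvP⟩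
    rw [show OddLocal.NilpotentPrimeAction.conjHom hn (⟨v, hPN hvP⟩ : N)⁻¹ = 1 from
      (OddLocal.NilpotentPrimeAction.conjHom_eq_one _ _).2 (by
        simpa using (centralizer_le hQQ (hcent hv))), MulAut.one_apply]
  obtain ⟨i, hi⟩ := IsPGroup.iff_card.1 hP.isPGroup
  obtain ⟨j, -, hj⟩ := (Nat.dvd_prime_pow hp.out).1 (hi ▸ (Dvd.intro_left _
    (Coprime.card_mul_relIndex_of_le hdR) : R₁.relIndex P ∣ Nat.card P))
  have hsq : p * e ≤ p ^ 2 := by rw [pow_two]; exact Nat.mul_le_mul_left p he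
  refine hsq.trans ?_
  rw [hj]
  refine Nat.pow_le_pow_right hp.out.pos ?_
  by_contra hj2
  have hRp := hP.isPGroup.to_le hdR
  have hfixR := inf_centralizer_ne_bot hn hcomm (hne ⟨g, hg⟩)
    (inf_le_left : R₁ ≤ stabG hn φ) (hcopQ R₁ hRp)
  rcases (by omega : j = 0 ∨ j = 1) with rfl | rfl
  · rw [pow_zero, relIndex_eq_one] at hj
    exact hfixR (by rw [← hR₁, le_antisymm hdR hj]; exact hfixP)
  -- index `p`
  set Q := OddLocal.coreSylow N W with hQdef
  have hPR : P ≤ normalizer (R₁ : Set G) := by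
    intro v hv
    refine OddLocal.mem_normalizer_of_map_conj (eq_of_le_of_card_ge ?_
      (OddLocal.card_map_conj _ _).ge)
    rintro _ ⟨r, hr, rfl⟩
    have h1 : ⁅v, r⁆ * r ∈ R₁ := R₁.mul_mem (hP'R (commutator_mem_commutator hv (hdR hr))) hr
    simpa [commutatorElement_def] using h1
  have hDR : D ≤ normalizer (R₁ : Set G) := by
    intro d hd
    obtain ⟨o, ho, y, hy, rfl⟩ := hO.exists_mul hP (hcs.compl.2.1 hd)
    have hoD : o ∈ D := by simpa using D.mul_mem hd (D.inv_mem (hcs.le hy))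
    refine mul_mem (centralizer_le_normalizer _ (mem_centralizer_iff.2 fun r hr => ?_)) (hPR hy)
    exact (S.commute_O_syl hO hP (h.compl_facts hcs.compl).1 hoD ho (hcs.le (hdR hr))
      (hdR hr)).eq.symm
  have hWR : W ≤ normalizer (R₁ : Set G) :=
    Coprime.le_normalizer_inf (hWφ.trans Subgroup.le_normalizer) hcs.normW
  rcases h.dichotomy hcs.compl hcs.normD (X := Q ⊓ centralizer (R₁ : Set G))
      (inf_le_inf le_rfl (centralizer_le (hdR.trans hcs.le))) inf_le_left
      (Coprime.le_normalizer_inf (h.le_normalizer_coreSylow' hcs.compl.2.1)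
        (Coprime.le_normalizer_centralizer hDR))
      (Coprime.le_normalizer_inf (h.le_M.trans (OddLocal.le_normalizer_coreSylow N W))
        (Coprime.le_normalizer_centralizer hWR)) with e' | e'
  · refine hfixR (eq_bot_iff.2 ?_)
    rw [← S.derK_O_inf h hcs hO, ← e']
    exact le_inf inf_le_left (inf_le_inf hQQ le_rfl)
  · have hle : R₁ ≤ ⁅P, P⁆ := fun r hr => hreg ⟨hdR hr,
      centralizer_le hQQ (le_centralizer_iff.1 (e'.ge.trans inf_le_right) hr)⟩
    have h1 := S.sq_le_relIndex hP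
    have h2 : ⁅P, P⁆.relIndex P ≤ R₁.relIndex P :=
      Nat.le_of_dvd (Nat.pos_of_ne_zero Subgroup.index_ne_zero_of_finite)
        (relIndex_dvd_of_le_left _ hle)
    rw [hj, pow_one] at h2
    have h3 : p < p ^ 2 := by rw [pow_two]; exact lt_mul_of_one_lt_left hp.out.pos hp.out.one_lt
    omega

end Cfsg.Agent.OddCharTwelve
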