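import Cfsg.Agent.OddCharTwelve.Assemble
import Cfsg.Agent.OddCharTwelve.CoreOrbit

/-!
# A maximal subgroup with empty `κ` has empty `τ₂`
-/

set_option autoImplicit false
set_option linter.unusedSectionVars false
set_option linter.style.haveILetI false

namespace Cfsg.Agent.OddCharTwelve

open Subgroup Cfsg
open scoped commutatorElement

universe u

section

variable {G : Type u} [Group G] [Finite G] {M N E A W O P : Subgroup G} {p : ℕ}
  [hp : Fact p.Prime] {x a : G} (S : Setting M N E A p x a)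

include S

/-- A Sylow subgroup with its structure and the shape of `N_σ'`. -/
theorem Setting.exists_shape (hW : IsComplIn W (sigmaCore N) N)
    (hcase : (Group.IsNilpotent (sigmaCore N) ∧
        ∀ w ∈ W, w ≠ 1 → sigmaCore N ⊓ centralizer ({w} : Set G) = ⊥) ∨
      (W ≠ ⊥ ∧ IsPiHallOf (Cfsg.kappa N) W N ∧ IsSigmaDecomposition N W ⊥ ∧
        (Group.IsNilpotent (sigmaCore N) ∨ OddLocal.CoreData N W)))
    (hO : IsPCompl N O p) (he : Nat.card W ≤ p) :
    ∃ P Q, IsSyl N P p ∧ W ≤ normalizer (P : Set G) ∧ Shape N O P Q p (Nat.card W) ∧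
      (⁅P, P⁆ = ⊥ → derK N ⊓ centralizer ({x} : Set G) = ⊥) := by
  have hnil : Group.IsNilpotent (sigmaCore N) →
      ∃ P Q, IsSyl N P p ∧ W ≤ normalizer (P : Set G) ∧ Shape N O P Q p (Nat.card W) ∧
        (⁅P, P⁆ = ⊥ → derK N ⊓ centralizer ({x} : Set G) = ⊥) := fun hn => by
    obtain ⟨P, hP, hWP⟩ := S.exists_inv_syl (p := p) hW
    obtain ⟨hs, hd⟩ := S.shape_nilpotent hO hP hn (Nat.card W)
    exact ⟨P, ⊥, hP, hWP, hs, fun hc => by rw [hd, hc, bot_inf_eq]⟩
  rcases hcase with ⟨hn, -⟩ | ⟨-, -, -, hn | h⟩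
  · exact hnil hn
  · exact hnil hn
  · obtain ⟨P, hP, hWP, hs, hf⟩ := S.shape_core h hW hO he
    exact ⟨P, O ⊓ derK N, hP, hWP, hs, hf⟩

/-- In the nonabelian case `p` divides the index of `C(x)` in `N_σ`. -/
theorem Setting.le_relIndex_cent (hP : IsSyl N P p) (hc : ⁅P, P⁆ ≠ ⊥) :
    p ≤ (centralizer ({x} : Set G)).relIndex (sigmaCore N) := by
  refine Nat.le_of_dvd (Nat.pos_of_ne_zero Subgroup.index_ne_zero_of_finite) ?_
  by_contra hd
  set C := centralizer ({x} : Set G) ⊓ sigmaCore N with hC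
  obtain ⟨R, hR⟩ := Coprime.exists_isPiHallOf
    (Core.isSolvable_mono S.solvable_core (inf_le_right : C ≤ sigmaCore N)) ({p} : Set ℕ)
  have hRs : IsSyl N R p := by
    refine ⟨hR.1.trans inf_le_right, hR.2.1, fun r hr hrp h => ?_⟩
    rw [← relIndex_mul_relIndex _ _ _ hR.1 inf_le_right] at h
    rcases hr.dvd_mul.1 h with h1 | h1
    · exact hR.2.2 r hr hrp h1
    · rw [inf_relIndex_right, show r = p by simpa using hrp] at h1
      exact hd h1
  have hcR : ⁅R, R⁆ ≠ ⊥ := fun e => hc ((S.sylow_comm_iff hP).1 ((S.sylow_comm_iff hRs).2 e))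
  refine S.syl_not_le_M hRs hcR 1 ?_
  rw [OddLocal.map_conj_eq_self_of_mem (one_mem _)]
  exact hR.1.trans (inf_le_left.trans S.pair.cent)

theorem Setting.card_E_le (hW : IsComplIn W (sigmaCore N) N)
    (hEx : E ⊓ sigmaCore N ≤ centralizer ({x} : Set G)) :
    (centralizer ({x} : Set G)).relIndex (sigmaCore N) * Nat.card E ≤ Nat.card N ∧
      (E ≤ sigmaCore N → Nat.card W * (centralizer ({x} : Set G)).relIndex (sigmaCore N) *
        Nat.card E ≤ Nat.card N) := by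
  set C := centralizer ({x} : Set G) with hC
  set n := C.relIndex (sigmaCore N) with hn
  have hN : Nat.card N = Nat.card W * Nat.card (sigmaCore N) := by
    rw [card_eq (N := N), card_core, idx_eq_card_compl hW]
  have hCn : Nat.card ↥(C ⊓ sigmaCore N) * n = Nat.card (sigmaCore N) := by
    rw [hn, ← inf_relIndex_right]
    exact Coprime.card_mul_relIndex_of_le inf_le_right
  have hle : Nat.card ↥(E ⊓ sigmaCore N) ≤ Nat.card ↥(C ⊓ sigmaCore N) :=
    Nat.le_of_dvd Nat.card_pos (card_dvd_of_le (le_inf hEx inf_le_right))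
  refine ⟨?_, fun hEσ => ?_⟩
  · have h1 : Nat.card ↥(E ⊓ sigmaCore N) * (sigmaCore N).relIndex E = Nat.card E := by
      rw [inf_comm, ← inf_relIndex_right (sigmaCore N) E]
      exact Coprime.card_mul_relIndex_of_le inf_le_right
    have h2 : (sigmaCore N).relIndex E ≤ Nat.card W := by
      rw [← OddLocal.compl_relIndex hW]
      exact relIndex_le_of_le_right (fun v hv => (S.eqE ▸ hv : v ∈ N ⊓ M).1)
        Subgroup.index_ne_zero_of_finite
    rw [hN, ← hCn, ← h1]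
    calc n * (Nat.card ↥(E ⊓ sigmaCore N) * (sigmaCore N).relIndex E)
        ≤ n * (Nat.card ↥(C ⊓ sigmaCore N) * Nat.card W) :=
          Nat.mul_le_mul_left _ (Nat.mul_le_mul hle h2)
      _ = _ := by ring
  · rw [inf_eq_left.2 hEσ] at hle
    rw [hN, ← hCn, mul_assoc]
    refine Nat.mul_le_mul_left _ ?_
    rw [mul_comm _ n]
    exact Nat.mul_le_mul_left _ hle

end

/-- A maximal subgroup with empty `κ` has empty `τ₂`. -/
theorem tau2_eq_empty {G : Type u} [Group G] [Finite G] (hG : IsMinSimpleOddOrder G)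
    {M : Subgroup G} (hM : IsCoatom M) (hκ : Cfsg.kappa M = ∅) : Cfsg.tau2 M = ∅ := by
  classical
  by_contra hne
  obtain ⟨r₀, hr₀⟩ := Set.nonempty_iff_ne_empty.2 hne
  have hex : ∃ r, ∃ L : Subgroup G, IsCoatom L ∧ Cfsg.kappa L = ∅ ∧ r ∈ Cfsg.tau2 L :=
    ⟨r₀, M, hM, hκ, hr₀⟩
  set p := Nat.find hex with hpdef
  obtain ⟨L, hL, hκL, hpL⟩ := Nat.find_spec hex
  haveI : Fact p.Prime := ⟨hpL.1⟩
  obtain ⟨N, E, A, x, a, S⟩ := exists_setting (p := p) hG hL hκL hpL
    fun L' r hL' hκ' hr => Nat.find_min' hex ⟨L', hL', hκ', hr⟩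
  haveI := Fintype.ofFinite G
  haveI := Fintype.ofFinite N
  haveI := Fintype.ofFinite (core N)
  haveI := Fintype.ofFinite L
  haveI := Fintype.ofFinite (core L)
  obtain ⟨W, hW, hZ, hfix, hcase⟩ := S.exists_W
  obtain ⟨O, hO⟩ := S.exists_pCompl
  have h3 : 3 ≤ Nat.card W := idx_eq_card_compl hW ▸ (S.idx_three_le hW).1
  obtain ⟨P, hP, hWP⟩ := S.exists_inv_syl (p := p) hW
  have hp1 := (Fact.out : p.Prime).two_le
  by_cases hc : ⁅P, P⁆ = ⊥
  · -- abelian Sylow subgroups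
    have hb : 2 * Nat.card W ≤ p + 1 := S.bound_caseB hO hW hfix hP hc
    obtain ⟨P₁, Q, hP₁, -, -, hfree⟩ := S.exists_shape hW hcase hO (by omega)
    obtain ⟨Ψ, φ₀, F, V⟩ := S.exists_vals hW hfix hO hP hb
    obtain ⟨hEK, hEx⟩ := S.caseB hP hc hO hW hfix
    exact S.false_of_full V hW hO hP hb h3 hEK hEx
      (hfree ((S.sylow_comm_iff hP₁).1 ((S.sylow_comm_iff hP).2 hc)))
  -- nonabelian Sylow subgroups
  have hn := S.le_relIndex_cent hP hc
  obtain ⟨hr1, hre⟩ := S.card_E_le hW (S.commute_of_caseA hP hc)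
  rcases S.bound_caseA hO hW hfix hZ hcase hP hWP hc with hb | ⟨hEK, hb, hnil, hP'⟩
  · obtain ⟨P₁, Q, hP₁, -, hs, -⟩ := S.exists_shape hW hcase hO (by omega)
    obtain ⟨Ψ, φ₀, F, V⟩ := S.exists_vals hW hfix hO hP₁ (by omega)
    exact S.false_of_shape V hW hO hP₁
      (fun e => hc ((S.sylow_comm_iff hP).1 ((S.sylow_comm_iff hP₁).2 e))) hb hs hn hr1
  · obtain ⟨Ψ, φ₀, F, V⟩ := S.exists_vals hW hfix hO hP hb
    obtain ⟨-, hd⟩ := S.shape_nilpotent hO hP hnil (Nat.card W)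
    exact S.false_of_small V hW hO hP hb h3 (by rw [hd, hP']) hP' hn (hre hEK)

end Cfsg.Agent.OddCharTwelve
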