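import Cfsg.Agent.OddCharTwelve.Sylows
import Cfsg.Agent.OddLocal.SmallAction
import Cfsg.Agent.OddLocal.LinTwo
import Cfsg.Agent.OddLocal.NonTIAction
import Cfsg.Agent.OddLocal.NarrowAction
import Cfsg.Agent.OddLocal.BetaCore
import Cfsg.Agent.OddLocal.FittingCoreShape
import Cfsg.Agent.Core.FPF
import Cfsg.Agent.S1412
import Cfsg.Agent.S1373

/-!
# The bound on the index `e`
-/

set_option autoImplicit false
set_option linter.unusedSectionVars false
set_option linter.style.haveILetI false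

namespace Cfsg.Agent.OddCharTwelve

open Subgroup Cfsg
open scoped commutatorElement

universe u

variable {G : Type u} [Group G] [Finite G] {M N E A W P O : Subgroup G} {p : ℕ}
  [hp : Fact p.Prime] {x a : G} (S : Setting M N E A p x a)

theorem two_mul_add_one_le {n q : ℕ} (hn : Odd n) (hq : q.Prime) (hq2 : q ≠ 2) (h : n ∣ q - 1) :
    2 * n + 1 ≤ q := by
  obtain ⟨t, ht⟩ := h
  have hev : Even (q - 1) := Nat.Prime.even_sub_one hq hq2
  rw [ht, Nat.even_mul] at hev
  have hpos := hq.two_le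
  rcases hev with h1 | h1
  · exact absurd h1 (Nat.not_even_iff_odd.2 hn)
  · obtain ⟨s, rfl⟩ := h1
    rcases s with _ | s
    · omega
    · have : n * 2 ≤ n * (s + 1 + (s + 1)) := Nat.mul_le_mul_left _ (by omega)
      omega

theorem two_mul_le_succ {n q : ℕ} (hn : Odd n) (hq : q.Prime) (hq2 : q ≠ 2) (h : n ∣ q + 1) :
    2 * n ≤ q + 1 := by
  obtain ⟨t, ht⟩ := h
  have hev : Even (q + 1) := by
    rw [Nat.even_add_one, Nat.not_even_iff_odd]
    exact hq.odd_of_ne_two hq2
  rw [ht, Nat.even_mul] at hev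
  rcases hev with h1 | h1
  · exact absurd h1 (Nat.not_even_iff_odd.2 hn)
  · obtain ⟨s, rfl⟩ := h1
    rcases s with _ | s
    · omega
    · have : n * 2 ≤ n * (s + 1 + (s + 1)) := Nat.mul_le_mul_left _ (by omega)
      omega

variable (hO : IsPCompl N O p) (hW : IsComplIn W (sigmaCore N) N)
  (hfix : ∀ w ∈ W, w ≠ 1 → sigmaCore N ⊓ centralizer ({w} : Set G) ≤ derK N)

include S hW

theorem Setting.coprime_mem_W {w : G} (hw : w ∈ W) : (orderOf w).Coprime p :=
  ((S.coprime_W hW).coprime_dvd_left (Subgroup.orderOf_dvd_natCard _ hw)).coprime_dvd_right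
    (((dvd_pow_self p two_ne_zero).trans S.tauPair.card.symm.dvd).trans (card_dvd_of_le S.A_le))

theorem Setting.odd_card_W : Odd (Nat.card W) :=
  Odd.of_dvd_nat S.minSimple.1 (card_subgroup_dvd_card W)

include hO hfix

/-- Elements of `W` fixing a point outside `P'` are trivial. -/
theorem Setting.eq_one_of_fix (hP : IsSyl N P p) {w v : G} (hw : w ∈ W) (hv : v ∈ P)
    (hv' : v ∉ ⁅P, P⁆) (hc : Commute w v) : w = 1 := by
  by_contra hw1
  refine hv' (S.fpf_syl hO hP hW hfix hw hw1 hv ?_)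
  rw [commutatorElement_eq_one_iff_commute.2 hc]
  exact one_mem _

theorem Setting.bound_caseB (hP : IsSyl N P p) (hc : ⁅P, P⁆ = ⊥) :
    2 * Nat.card W ≤ p + 1 := by
  classical
  obtain ⟨Q, hQ, hWQ⟩ := S.exists_inv_syl (p := p) hW
  have hQc : ⁅Q, Q⁆ = ⊥ := (S.sylow_comm_iff hQ).1 ((S.sylow_comm_iff hP).2 hc)
  obtain ⟨k, hk, hBQ, hBo⟩ := S.exists_plane_of_comm hQ hQc
  set B := A.map (MulAut.conj k).toMonoidHom with hB
  have hBe : IsElementaryAbelian p B :=
    ⟨@Subgroup.map_isMulCommutative _ _ _ _ A _ S.tauPair.elem.1, by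
      rintro _ ⟨v, hv, rfl⟩
      rw [← map_pow, S.tauPair.elem.2 v hv, map_one]⟩
  have hBc : Nat.card B = p ^ 2 := by
    rw [hB, OddLocal.card_map_conj, S.tauPair.card]
  have hWB : W ≤ normalizer (B : Set G) := by
    intro w hw
    refine OddLocal.mem_normalizer_of_map_conj (eq_of_le_of_card_ge ?_
      (OddLocal.card_map_conj _ _).ge)
    rintro _ ⟨v, hv, rfl⟩
    refine hBo _ ((mem_normalizer_iff.1 (hWQ hw) v).1 (hBQ hv)) ?_
    rw [← map_pow, hBe.2 v hv, map_one]
  haveI := hBe.1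
  letI : CommGroup B :=
    { (inferInstance : Group B) with mul_comm := fun u v => IsMulCommutative.is_comm.comm u v }
  haveI : Nontrivial B := Finite.one_lt_card_iff_nontrivial.1
    (by rw [hBc]; exact Nat.one_lt_pow two_ne_zero hp.out.one_lt)
  set φ := OddLocal.NilpotentPrimeAction.conjHom hWB with hφ
  have hexp : ∀ v : B, v ^ p = 1 := fun v => Subtype.ext (by simpa using hBe.2 v v.2)
  have hfree : ∀ (w : W) (v : B), (w : G) * v * (w : G)⁻¹ = v → v ≠ 1 → w = 1 := by
    intro w v h hv1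
    refine Subtype.ext (S.eq_one_of_fix hO hW hfix hQ w.2 (hBQ v.2) ?_ (mul_inv_eq_iff_eq_mul.1 h))
    rw [hQc, mem_bot]
    exact fun e => hv1 (Subtype.ext e)
  have hfpf : Core.IsFPF φ := fun w hw v hv => by
    by_contra hv1
    exact hw (hfree w v (congrArg Subtype.val hv) hv1)
  have hinj : Function.Injective φ := (injective_iff_map_eq_one _).2 fun w hw => by
    obtain ⟨v, hv⟩ := exists_ne (1 : B)
    refine hfree w v ?_ hv
    exact congrArg Subtype.val (DFunLike.congr_fun hw v)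
  have hab : IsMulCommutative W := by
    haveI : Group.IsSolvable W := Core.isSolvable_mono
      (OddLocal.isSolvable_coatom S.minSimple S.coatomN) hW.1
    refine ⟨⟨fun u v => commutatorElement_eq_one_iff_mul_comm.1 ?_⟩⟩
    have h := OddLocal.pow_eq_one_mulAut S.p_odd hexp hBc (S.odd_card_W hW) φ hinj
      (y := ⁅u, v⁆) (commutator_mem_commutator (mem_top u) (mem_top v))
    have hcop : (orderOf ⁅u, v⁆).Coprime p := by
      rw [← orderOf_coe]; exact S.coprime_mem_W hW ⁅u, v⁆.2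
    exact orderOf_eq_one_iff.1 (Nat.eq_one_of_dvd_coprimes hcop dvd_rfl
      (orderOf_dvd_of_pow_eq_one h))
  haveI := hfpf.isCyclic_of_comm hab
  obtain ⟨w₀, hw₀⟩ := IsCyclic.exists_ofOrder_eq_natCard (α := W)
  have hcop₀ : (orderOf (φ w₀)).Coprime p :=
    ((by rw [← orderOf_coe]; exact S.coprime_mem_W hW w₀.2 : (orderOf w₀).Coprime p)).coprime_dvd_left
      (orderOf_map_dvd φ w₀)
  have hodd := S.odd_card_W hW
  have hp2 := S.p_odd
  rcases OddLocal.mulAut_two_order hexp hBc (φ w₀) hcop₀ with h | ⟨i, h⟩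
  · have h1 : w₀ ^ (p - 1) = 1 := hinj (by rw [map_pow, h, map_one])
    have := two_mul_add_one_le hodd hp.out hp2 (hw₀ ▸ orderOf_dvd_of_pow_eq_one h1)
    omega
  · refine two_mul_le_succ hodd hp.out hp2 (hw₀ ▸ orderOf_dvd_of_pow_eq_one (Subtype.ext ?_))
    set w := ((w₀ ^ (p + 1) : W) : G) with hw
    by_contra hne
    have hnorm : k⁻¹ * w * k * x * (k⁻¹ * w * k)⁻¹ ∈ zpowers x := by
      have hxB : k * x * k⁻¹ ∈ B := ⟨x, S.mem_A, rfl⟩
      have h1 := congrArg Subtype.val (h ⟨_, hxB⟩)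
      rw [← map_pow] at h1
      change w * (k * x * k⁻¹) * w⁻¹ = _ at h1
      rw [SubmonoidClass.coe_pow, conj_pow] at h1
      refine ⟨(i : ℤ), ?_⟩
      show x ^ (i : ℤ) = _
      rw [zpow_natCast]
      calc x ^ i = k⁻¹ * (k * x ^ i * k⁻¹) * k := by group
        _ = k⁻¹ * (w * (k * x * k⁻¹) * w⁻¹) * k := by rw [h1]
        _ = _ := by group
    have hkN : k ∈ N := OddLocal.sigmaCore_le N hk
    have hwN : w ∈ N := hW.1 (w₀ ^ (p + 1)).2
    have hmem := (S.caseB hP hc hO hW hfix).1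
      (S.mem_E_of_normalizes (mul_mem (mul_mem (inv_mem hkN) hwN) hkN) hnorm)
    have hwσ : w ∈ sigmaCore N := by
      have := mul_mem (mul_mem hk hmem) (inv_mem hk)
      simpa [mul_assoc] using this
    have h3 : w ∈ W ⊓ sigmaCore N := ⟨(w₀ ^ (p + 1)).2, hwσ⟩
    rw [hW.2.2.1, mem_bot] at h3
    exact hne h3

omit hO in
/-- `Ω₁(Z(P))` is normalised by `W`. -/
theorem Setting.exists_omega_center (hWP : W ≤ normalizer (P : Set G)) :
    ∃ Z : Subgroup G, (∀ v, v ∈ Z ↔ v ∈ P ∧ v ^ p = 1 ∧ ∀ u ∈ P, Commute u v) ∧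
      W ≤ normalizer (Z : Set G) := by
  let Z : Subgroup G :=
    { carrier := {v | v ∈ P ∧ v ^ p = 1 ∧ ∀ u ∈ P, Commute u v}
      one_mem' := ⟨one_mem _, one_pow _, fun u _ => Commute.one_right u⟩
      mul_mem' := fun {u v} hu hv => ⟨mul_mem hu.1 hv.1, by
        rw [(hv.2.2 u hu.1).mul_pow, hu.2.1, hv.2.1, one_mul],
        fun t ht => (hu.2.2 t ht).mul_right (hv.2.2 t ht)⟩
      inv_mem' := fun {u} hu => ⟨inv_mem hu.1, by rw [inv_pow, hu.2.1, inv_one],
        fun t ht => (hu.2.2 t ht).inv_right⟩ }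
  refine ⟨Z, fun v => Iff.rfl, fun w hw => OddLocal.mem_normalizer_of_map_conj
    (eq_of_le_of_card_ge ?_ (OddLocal.card_map_conj _ _).ge)⟩
  rintro _ ⟨v, ⟨hv, hvp, hvc⟩, rfl⟩
  refine ⟨(mem_normalizer_iff.1 (hWP hw) v).1 hv, by rw [← map_pow, hvp, map_one], fun u hu => ?_⟩
  have hu' : w⁻¹ * u * w ∈ P := by
    simpa using (mem_normalizer_iff.1 (hWP (inv_mem hw)) u).1 hu
  have h := congrArg (fun t => w * t * w⁻¹) (hvc _ hu').eq
  show u * (w * v * w⁻¹) = w * v * w⁻¹ * u
  simpa [mul_assoc] using h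

/-- A large Sylow subgroup forces `e ∣ p - 1`. -/
theorem Setting.dvd_pred_of_large (hZ : IsZGroup W) (hP : IsSyl N P p)
    (hWP : W ≤ normalizer (P : Set G)) (hr : ¬ PRankLE p 2 P) : Nat.card W ∣ p - 1 := by
  haveI := hZ
  rw [← IsZGroup.exponent_eq_card, Monoid.exponent_dvd_iff_forall_pow_eq_one]
  intro w
  refine Subtype.ext ?_
  rw [SubmonoidClass.coe_pow, OneMemClass.coe_one]
  have hG := S.minSimple
  have hN := S.coatomN
  have hPN : P ≤ N := hP.1.trans (OddLocal.sigmaCore_le N)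
  have hidx : ¬ p ∣ (P.subgroupOf N).index := by
    intro hd
    change p ∣ P.relIndex N at hd
    rw [← relIndex_mul_relIndex _ _ _ hP.1 (OddLocal.sigmaCore_le N)] at hd
    rcases hp.out.dvd_mul.1 hd with h | h
    · exact hP.2.2 p hp.out rfl h
    · exact (OddLocal.isPiHallOf_sigmaCore hG hN).2.2 p hp.out S.sigmaN h
  have hPp : IsPGroup p (P.subgroupOf N) :=
    hP.isPGroup.of_equiv (Subgroup.subgroupOfEquivOfLe hPN).symm
  have hnar := OddLocal.sylow_narrow_of_not_beta hG hN S.sigmaN.2.1 S.not_betaN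
    (hPp.toSylow hidx)
  rw [IsPGroup.toSylow_coe] at hnar
  set X := W ⊔ P with hX
  have hPX : P ≤ X := le_sup_right
  haveI : (P.subgroupOf X).Normal :=
    normal_subgroupOf_of_le_normalizer (sup_le hWP Subgroup.le_normalizer)
  have hnar' : IsNarrow p (P.subgroupOf X) :=
    OddLocal.isNarrow_congr ((Subgroup.subgroupOfEquivOfLe hPN).trans
      (Subgroup.subgroupOfEquivOfLe hPX).symm) hnar
  have hrX : ¬ PRankLE p 2 (P.subgroupOf X) := fun h => hr
    (OddLocal.pRankLE_of_injective (Subgroup.subgroupOfEquivOfLe hPX).symm.toMonoidHom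
      (Subgroup.subgroupOfEquivOfLe hPX).symm.injective h)
  have h1 := OddLocal.mem_centralizer_of_narrow (R := P.subgroupOf X) S.p_odd
    (hP.isPGroup.of_equiv (Subgroup.subgroupOfEquivOfLe hPX).symm) hrX hnar'
    (y := (⟨w, mem_sup_left w.2⟩ : X) ^ (p - 1))
    (by
      rw [← orderOf_coe, SubmonoidClass.coe_pow]
      exact (S.coprime_mem_W hW w.2).coprime_dvd_left (orderOf_pow_dvd _))
    (OddLocal.trivialOnSmallFactors_pow _)
  obtain ⟨v, hv, hv'⟩ : ∃ v ∈ P, v ∉ ⁅P, P⁆ := by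
    refine SetLike.not_le_iff_exists.1 fun h => ?_
    have h2 := S.sq_le_relIndex hP
    rw [relIndex_eq_one.2 h] at h2
    nlinarith [hp.out.two_le]
  refine S.eq_one_of_fix hO hW hfix hP (pow_mem w.2 _) hv hv' ?_
  have := congrArg Subtype.val ((mem_centralizer_iff.1 h1) ⟨v, hPX hv⟩ hv)
  simp only [Subgroup.coe_mul, SubmonoidClass.coe_pow] at this
  exact this.symm

theorem Setting.bound_caseA (hZ : IsZGroup W)
    (hcase : (Group.IsNilpotent (sigmaCore N) ∧
        ∀ w ∈ W, w ≠ 1 → sigmaCore N ⊓ centralizer ({w} : Set G) = ⊥) ∨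
      (W ≠ ⊥ ∧ IsPiHallOf (Cfsg.kappa N) W N ∧ IsSigmaDecomposition N W ⊥ ∧
        (Group.IsNilpotent (sigmaCore N) ∨ OddLocal.CoreData N W)))
    (hP : IsSyl N P p) (hWP : W ≤ normalizer (P : Set G)) (hc : ⁅P, P⁆ ≠ ⊥) :
    2 * Nat.card W + 1 ≤ p ∨
      (E ≤ sigmaCore N ∧ 2 * Nat.card W ≤ p + 1 ∧ Group.IsNilpotent (sigmaCore N) ∧
        Nat.card ↥⁅P, P⁆ = p) := by
  have hG := S.minSimple
  have hN := S.coatomN
  have hodd := S.odd_card_W hW
  have hp2 := S.p_odd
  by_cases hr : PRankLE p 2 P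
  swap
  · exact Or.inl (two_mul_add_one_le hodd hp.out hp2 (S.dvd_pred_of_large hO hW hfix hZ hP hWP hr))
  obtain ⟨Z, hZmem, hWZ⟩ := S.exists_omega_center (p := p) hW hfix hWP
  have hZP : Z ≤ P := fun v hv => ((hZmem v).1 hv).1
  -- a noncentral element of order `p`
  obtain ⟨x', hx', hx'p, hx'Z⟩ : ∃ x', x' ∈ P ∧ x' ^ p = 1 ∧ x' ∉ Z := by
    obtain ⟨P₀, hAP, hP₀⟩ := exists_syl N A S.A_pgroup S.A_le
    obtain ⟨k, -, rfl⟩ := S.syl_conj hP₀ hP
    refine ⟨k * x * k⁻¹, ⟨x, hAP S.mem_A, rfl⟩, by rw [conj_pow, S.pair.pow]; group, fun h => ?_⟩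
    refine S.syl_not_le_M hP₀ ?_ 1 ?_
    · intro e
      exact hc (by rw [← map_commutator, e, Subgroup.map_bot])
    · rw [OddLocal.map_conj_eq_self_of_mem (one_mem _)]
      intro v hv
      refine S.pair.cent (mem_centralizer_singleton_iff.2 ?_)
      have := ((hZmem _).1 h).2.2 (k * v * k⁻¹) ⟨v, hv, rfl⟩
      have h2 := congrArg (fun t => k⁻¹ * t * k) this.eq
      simpa [mul_assoc] using h2
  have hZcomm : IsMulCommutative Z :=
    ⟨⟨fun u v => Subtype.ext (((hZmem _).1 v.2).2.2 u (hZP u.2)).eq⟩⟩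
  have hZ1 : Z ≠ ⊥ := by
    haveI : Nontrivial P := (Subgroup.nontrivial_iff_ne_bot _).2 fun e => hc (by
      rw [e]; exact eq_bot_iff.2 (commutator_le_self _))
    haveI := hP.isPGroup.center_nontrivial
    obtain ⟨j, hj⟩ := IsPGroup.iff_card.1 (hP.isPGroup.to_subgroup (center P))
    have hd : p ∣ Nat.card (center P) := by
      rcases j with _ | j
      · exact absurd (Finite.one_lt_card (α := center P)) (by rw [hj, pow_zero]; omega)
      · rw [hj]; exact dvd_pow_self p j.succ_ne_zero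
    obtain ⟨z, hz⟩ := exists_prime_orderOf_dvd_card' p hd
    intro e
    have : ((z : P) : G) ∈ Z := (hZmem _).2 ⟨(z : P).2, by
      have := congrArg (fun u : center P => ((u : P) : G)) (pow_orderOf_eq_one z)
      rw [hz] at this
      simpa using this, fun u hu => congrArg Subtype.val (mem_center_iff.1 z.2 ⟨u, hu⟩)⟩
    rw [e, mem_bot] at this
    rw [show z = 1 from Subtype.ext (Subtype.ext this), orderOf_one] at hz
    exact hp.out.ne_one hz.symm
  have hZp : IsPGroup p Z := hP.isPGroup.to_le hZP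
  have hZcard : Nat.card Z = p := by
    obtain ⟨j, hj⟩ := IsPGroup.iff_card.1 hZp
    have hx'c : x' ∈ centralizer (Z : Set G) :=
      mem_centralizer_iff.2 fun z hz => (((hZmem z).1 hz).2.2 x' hx').eq.symm
    have hcard := OddLocal.card_sup_zpowers_of_not_mem (T := Z) hx'p hx'c hx'Z
    have hle : Z ⊔ zpowers x' ≤ P := sup_le hZP (zpowers_le.2 hx')
    have hel : IsElementaryAbelian p (Z ⊔ zpowers x' : Subgroup G) :=
      OddLocal.isElementaryAbelian_sup_zpowers ⟨hZcomm, fun v hv => ((hZmem v).1 hv).2.1⟩ hx'p hx'c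
    have h2 := hr ((Z ⊔ zpowers x').subgroupOf P)
      (⟨⟨fun u v => Subtype.ext (Subtype.ext (Coprime.ea_comm hel u.2 v.2))⟩⟩)
      (fun v hv => Subtype.ext (by simpa using hel.2 _ hv))
    rw [Coprime.card_subgroupOf hle, hcard, hj, ← pow_succ] at h2
    have hj2 := (Nat.pow_le_pow_iff_right hp.out.one_lt).1 h2
    have hj0 : j ≠ 0 := fun e => hZ1 (Subgroup.card_eq_one.1 (by rw [hj, e, pow_zero]))
    rw [hj, show j = 1 by omega, pow_one]
  haveI : IsCyclic Z := isCyclic_of_prime_card hZcard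
  by_cases hfree : ∀ w ∈ W, w ∈ centralizer (Z : Set G) → w = 1
  · left
    refine two_mul_add_one_le hodd hp.out hp2 ?_
    have hinj : Function.Injective (OddLocal.NilpotentPrimeAction.conjHom hWZ) :=
      (injective_iff_map_eq_one _).2 fun w hw => Subtype.ext
        (hfree w w.2 ((OddLocal.NilpotentPrimeAction.conjHom_eq_one hWZ w).1 hw))
    have := Subgroup.card_dvd_of_injective _ hinj
    rwa [IsCyclic.card_mulAut, hZcard, Nat.totient_prime hp.out] at this
  push Not at hfree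
  obtain ⟨w₀, hw₀, hw₀c, hw₀1⟩ := hfree
  obtain ⟨z, hzZ, hz1⟩ := (bot_or_exists_ne_one Z).resolve_left hZ1
  have hzw : z ∈ sigmaCore N ⊓ centralizer ({w₀} : Set G) :=
    ⟨hP.1 (hZP hzZ), mem_centralizer_singleton_iff.2 (mem_centralizer_iff.1 hw₀c z hzZ)⟩
  rcases hcase with ⟨-, hff⟩ | ⟨hW1, hhall, hdec, hnd⟩
  · rw [hff w₀ hw₀ hw₀1, mem_bot] at hzw
    exact absurd hzw hz1
  have hkprime : (Nat.card (OddLocal.kStar N W)).Prime :=
    Cfsg.Agent.S1373.result hG N hN W ⊥ hdec hW1 rfl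
  have hzk : z ∈ OddLocal.kStar N W := OddLocal.fixed_le_kStar hG hN hhall hW1 hw₀ hw₀1 hzw
  have hzo : orderOf z = p := orderOf_eq_prime ((hZmem z).1 hzZ).2.1 hz1
  have hkp : Nat.card (OddLocal.kStar N W) = p :=
    ((Nat.prime_dvd_prime_iff_eq hp.out hkprime).1
      (hzo ▸ Subgroup.orderOf_dvd_natCard _ hzk)).symm
  have hnil : Group.IsNilpotent (sigmaCore N) := by
    rcases hnd with h | h
    · exact h
    · exact absurd (hkp ▸ h.mem_beta) S.not_betaN
  have hkZ : OddLocal.kStar N W = Z := by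
    have h1 : zpowers z = OddLocal.kStar N W := eq_of_le_of_card_ge (zpowers_le.2 hzk)
      (by rw [hkp, Nat.card_zpowers, hzo])
    have h2 : zpowers z = Z := eq_of_le_of_card_ge (zpowers_le.2 hzZ)
      (by rw [hZcard, Nat.card_zpowers, hzo])
    rw [← h1, h2]
  have hWcent : W ≤ centralizer (Z : Set G) := fun w hw => mem_centralizer_iff.2 fun v hv => by
    rw [← hkZ] at hv
    exact (mem_centralizer_iff.1 hv.2 w hw).symm
  -- the structure of the small Sylow subgroup
  obtain ⟨T, hT⟩ : ∃ T : Sylow p G, (T : Subgroup G) = P := by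
    obtain ⟨T, hT⟩ := hP.isPGroup.exists_le_sylow
    obtain ⟨g, hg⟩ := S.le_syl hP T.2
    refine ⟨T, (eq_of_le_of_card_ge hT ?_).symm⟩
    exact (Nat.le_of_dvd Nat.card_pos (card_dvd_of_le hg)).trans
      (OddLocal.card_map_conj _ _).le
  obtain hab | ⟨P₁, P₂, hsup, hcomm, -, hc1, hexp, hcyc, hcl⟩ :=
    S1412.result hG p T (hT.symm ▸ hr)
  · rw [hT] at hab
    exact absurd ((S.sylow_comm_iff hP).1 ⟨T, hT.symm ▸ hab⟩) hc
  rw [hT] at hsup
  haveI := hcyc
  have hP₁ : P₁ ≤ P := hsup ▸ le_sup_left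
  have hP₂ : P₂ ≤ P := hsup ▸ le_sup_right
  have h21 : P₂ ≤ centralizer (P₁ : Set G) := fun b hb =>
    mem_centralizer_iff.mpr fun v hv => hcomm v hv b hb
  have hexp1 : ∀ v ∈ P₁, v ^ p = 1 := fun v hv => by
    have := Monoid.pow_exponent_eq_one (G := P₁) ⟨v, hv⟩
    rw [hexp] at this
    exact congrArg Subtype.val this
  have hdec2 : ∀ v ∈ P, ∃ b ∈ P₁, ∃ c ∈ P₂, b * c = v := fun v hv =>
    (Coprime.mem_sup_of_le_normalizer (h21.trans (centralizer_le_normalizer _))).1 (hsup.ge hv)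
  have homega : ∀ v ∈ P, v ^ p = 1 → v ∈ P₁ := by
    intro v hv hvp
    obtain ⟨b, hb, c, hc', rfl⟩ := hdec2 v hv
    rw [(show Commute b c from hcomm b hb c hc').mul_pow, hexp1 b hb, one_mul] at hvp
    have : c ∈ P₁ ⊓ centralizer (P₁ : Set G) := hcl ▸ subset_closure ⟨hc', hvp⟩
    exact mul_mem hb this.1
  have hWP₁ : W ≤ normalizer (P₁ : Set G) := fun w hw =>
    OddLocal.mem_normalizer_of_map_conj (eq_of_le_of_card_ge (by
      rintro _ ⟨v, hv, rfl⟩
      exact homega _ ((mem_normalizer_iff.1 (hWP hw) v).1 (hP₁ hv))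
        (by rw [← map_pow, hexp1 v hv, map_one])) (OddLocal.card_map_conj _ _).ge)
  have hZP₁ : Z ≤ P₁ := fun v hv => homega v (hZP hv) ((hZmem v).1 hv).2.1
  have hcomm1 : ∀ u ∈ P₁, ∀ v ∈ P₁, ⁅u, v⁆ ∈ Z := by
    intro u hu v hv
    have huv : ⁅u, v⁆ ∈ P₁ := commutator_le_self P₁ (commutator_mem_commutator hu hv)
    refine (hZmem _).2 ⟨hP₁ huv, hexp1 _ huv, fun t ht => ?_⟩
    obtain ⟨b, hb, c, hc', rfl⟩ := hdec2 t ht
    refine Commute.mul_left ?_ (mem_centralizer_iff.1 (h21 hc') _ huv).symm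
    exact congrArg Subtype.val (mem_center_iff.mp
      (OddLocal.commutator_mem_center_of_card hc1 (⟨u, hu⟩ : P₁) ⟨v, hv⟩) ⟨b, hb⟩)
  have hder : ⁅P, P⁆ = Z := by
    refine eq_of_le_of_card_ge ?_ ?_
    · conv_lhs => rw [← hsup]
      exact (OddLocal.commutator_sup_le_commutator inferInstance h21).trans
        (commutator_le.2 hcomm1)
    · obtain ⟨j, hj⟩ := IsPGroup.iff_card.1 (hP.isPGroup.to_le (commutator_le_self P))
      rcases j with _ | j
      · exact absurd (Subgroup.card_eq_one.1 (by rw [hj, pow_zero])) hc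
      · rw [hZcard, hj]; exact Nat.le_self_pow j.succ_ne_zero p
  set X := W ⊔ P₁ with hX
  have hP₁X : P₁ ≤ X := le_sup_right
  haveI : (P₁.subgroupOf X).Normal :=
    normal_subgroupOf_of_le_normalizer (sup_le hWP₁ Subgroup.le_normalizer)
  have hP₁Z : P₁ ≤ centralizer (Z : Set G) := fun b hb =>
    mem_centralizer_iff.2 fun v hv => (((hZmem v).1 hv).2.2 b (hP₁ hb)).eq.symm
  haveI : (Z.subgroupOf X).Normal := normal_subgroupOf_of_le_normalizer
    (sup_le (hWcent.trans (centralizer_le_normalizer _)) (hP₁Z.trans (centralizer_le_normalizer _)))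
  haveI := hdec.cyclic
  obtain ⟨w, hw⟩ := IsCyclic.exists_ofOrder_eq_natCard (α := W)
  set wX : X := ⟨w, mem_sup_left w.2⟩ with hwX
  have hwo : orderOf wX = Nat.card W := by rw [hwX, Subgroup.orderOf_mk, orderOf_coe, hw]
  have hfree1 : ∀ n : ℕ, wX ^ n ∈ centralizer (P₁.subgroupOf X : Set X) → wX ^ n = 1 := by
    intro n hn
    refine Subtype.ext ?_
    rw [SubmonoidClass.coe_pow, OneMemClass.coe_one]
    by_contra hne
    have hle : P₁ ≤ OddLocal.kStar N W := fun v hv =>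
      OddLocal.fixed_le_kStar hG hN hhall hW1 (pow_mem w.2 n) hne ⟨hP.1 (hP₁ hv),
        mem_centralizer_singleton_iff.2 (by
          have := congrArg Subtype.val (mem_centralizer_iff.1 hn ⟨v, hP₁X hv⟩ hv)
          simpa [hwX] using this)⟩
    have := Nat.le_of_dvd Nat.card_pos (card_dvd_of_le hle)
    rw [hkp, hc1] at this
    nlinarith [hp.out.two_le, sq_nonneg (p : ℤ), Nat.le_self_pow (two_ne_zero) p]
  rcases OddLocal.orderOf_dvd_pred_or_succ (p := p) (R := P₁.subgroupOf X) (L := Z.subgroupOf X)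
      (fun v hv => hZP₁ hv) (by rw [Coprime.card_subgroupOf (hZP₁.trans hP₁X), hZcard])
      (by rw [Coprime.card_subgroupOf hP₁X, hc1])
      (fun v hv => Subtype.ext (by simpa using hexp1 v hv))
      (fun u hu v hv => by
        rw [mem_subgroupOf, show ((⁅u, v⁆ : X) : G) = ⁅(u : G), (v : G)⁆ from
          map_commutatorElement X.subtype u v]
        exact hcomm1 u hu v hv)
      (fun v hv => mem_centralizer_iff.2 fun l hl =>
        Subtype.ext (mem_centralizer_iff.1 (hP₁Z hv) l hl))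
      (fun h => hc (by
        rw [hder]
        by_contra hne
        refine hne (eq_bot_iff.2 ?_)
        rw [← hder]
        conv_lhs => rw [← hsup]
        refine (OddLocal.commutator_sup_le_commutator inferInstance h21).trans (le_of_eq ?_)
        rw [commutator_eq_bot_iff_le_centralizer, le_centralizer_iff_isMulCommutative]
        exact ⟨⟨fun u v => Subtype.ext (congrArg (fun t : P₁.subgroupOf X => ((t : X) : G))
          (mul_comm' (⟨⟨u, hP₁X u.2⟩, u.2⟩ : P₁.subgroupOf X) ⟨⟨v, hP₁X v.2⟩, v.2⟩))⟩⟩))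
      (k := wX)
      (mem_centralizer_iff.2 fun l hl =>
        Subtype.ext (mem_centralizer_iff.1 (hWcent w.2) l hl))
      (by rw [Subgroup.orderOf_mk]; exact S.coprime_mem_W hW w.2)
      (by rw [hwo]; exact hodd) hfree1 with hd | hd
  · exact Or.inl (two_mul_add_one_le hodd hp.out hp2 (hwo ▸ hd))
  · rw [hwo] at hd
    refine Or.inr ⟨?_, two_mul_le_succ hodd hp.out hp2 hd, hnil, hder ▸ hZcard⟩
    by_contra hE
    obtain ⟨s, hs, hsp, hsn⟩ := S.exists_outside hE
    have hsN : s ∈ N := (S.eqE ▸ hs : s ∈ N ⊓ M).1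
    set r := orderOf s with hrdef
    haveI := Fact.mk hsp
    have hrW : r ∣ Nat.card W := by
      rw [OddLocal.dvd_compl_iff hG hN hW]
      refine ⟨orderOf_dvd_natCard _ hsN |>.trans dvd_rfl, fun hσ => hsn ?_⟩
      exact OddLocal.le_sigmaCore_of_isPGroup hG hN (zpowers_le.2 hsN)
        (IsPGroup.of_card (n := 1) (by rw [Nat.card_zpowers, pow_one])) hσ (mem_zpowers s)
    have hnorm : zpowers s ≤ normalizer (zpowers x : Set G) :=
      zpowers_le.2 ((S.caseA hP hc).2 hs)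
    have hinj : Function.Injective (OddLocal.NilpotentPrimeAction.conjHom hnorm) := by
      refine (injective_iff_map_eq_one _).2 fun t ht => ?_
      by_contra ht1
      have htc := (OddLocal.NilpotentPrimeAction.conjHom_eq_one hnorm t).1 ht
      have htx : Commute x (t : G) := mem_centralizer_iff.1 htc x (mem_zpowers x)
      have hgen : s ∈ zpowers (t : G) := by
        have he : zpowers (t : G) = zpowers s := eq_of_le_of_card_ge (zpowers_le.2 t.2) (by
          rw [Nat.card_zpowers, Nat.card_zpowers]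
          have hd' := Subgroup.orderOf_dvd_natCard _ t.2
          rw [Nat.card_zpowers] at hd'
          rcases (Nat.dvd_prime hsp).1 hd' with h | h
          · exact absurd (Subtype.ext (orderOf_eq_one_iff.1 h)) ht1
          · exact h.ge)
        rw [he]; exact mem_zpowers s
      obtain ⟨i, hi⟩ := mem_zpowers_iff.1 hgen
      have hsx : Commute s x := hi ▸ (htx.symm.zpow_left i)
      refine S.x_not_derK ((S.nside hW hfix).fpf s hsN hsn x (S.A_le S.mem_A) ?_)
      rw [commutatorElement_eq_one_iff_commute.2 hsx]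
      exact one_mem _
    have h1 := Subgroup.card_dvd_of_injective _ hinj
    rw [IsCyclic.card_mulAut, Nat.card_zpowers, Nat.card_zpowers,
      orderOf_eq_prime S.pair.pow S.pair.ne, Nat.totient_prime hp.out, ← hrdef] at h1
    have h2 : r ∣ 2 := by
      have := Nat.dvd_sub (hrW.trans hd) h1
      have hp1 := hp.out.one_le
      rwa [show p + 1 - (p - 1) = 2 by omega] at this
    have h3 := (Nat.prime_dvd_prime_iff_eq hsp Nat.prime_two).1 h2
    exact hG.1.not_two_dvd_nat (h3 ▸ hrdef ▸ _root_.orderOf_dvd_natCard s)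

end Cfsg.Agent.OddCharTwelve
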