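import Cfsg.Agent.OddCharTwelve.Twist
import Cfsg.Agent.OddCharTwelve.EBound

/-!
# The configuration with `2 e + 1 ≤ p`
-/

set_option autoImplicit false
set_option linter.unusedSectionVars false
set_option linter.style.haveILetI false

namespace Cfsg.Agent.OddCharTwelve

open Subgroup Cfsg
open scoped commutatorElement

universe u

variable {G : Type u} [Group G] [Fintype G] {M N E A W O P Q : Subgroup G} {p : ℕ}
  [hp : Fact p.Prime] {x a : G} [Fintype N] [Fintype (core N)]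
  {Ψ : (↥N → ℂ) → G → ℂ} {φ₀ : ↥N → ℂ} {F : core N → ℤ}
  (S : Setting M N E A p x a) (V : Vals N p Ψ φ₀ F) {e : ℕ} (H : Shape N O P Q p e)

/-- The number `(p - 1) (1 - 1 / L)` is large. -/
theorem two_mul_sub_one_le_mul {p e L : ℕ} (he : 2 * e + 1 ≤ p) (hL : p + 1 ≤ L) :
    2 * (e : ℝ) - 1 ≤ ((p : ℝ) - 1) * (((L : ℝ) - 1) / L) := by
  have he' : 2 * (e : ℝ) + 1 ≤ p := by exact_mod_cast he
  have hL' : (p : ℝ) + 1 ≤ L := by exact_mod_cast hL
  have hL0 : (0 : ℝ) < L := by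
    have := Nat.cast_nonneg (α := ℝ) p
    linarith
  rw [← mul_div_assoc, le_div_iff₀ hL0]
  nlinarith [mul_le_mul_of_nonneg_left (show (1 : ℝ) ≤ p - 2 * e by linarith) hL0.le]

include H

/-- The image of `P` in `Aut Q` fixes some nontrivial element by an element off `[P, P]`. -/
theorem Shape.exists_fix (hP : IsSyl N P p) (hc : ⁅P, P⁆ ≠ ⊥)
    (hreg : P ⊓ centralizer (Q : Set G) ≤ ⁅P, P⁆) :
    ∃ y ∈ P, y ∉ ⁅P, P⁆ ∧ Q ⊓ centralizer ({y} : Set G) ≠ ⊥ := by
  by_contra hcon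
  push Not at hcon
  rcases eq_or_ne Q ⊥ with hQ | hQ
  · refine hc (eq_bot_iff.2 fun y hy => ?_)
    exfalso
    have hPle : P ≤ ⁅P, P⁆ := fun z hz => hreg ⟨hz, mem_centralizer_iff.2 fun w hw => by
      rw [SetLike.mem_coe, hQ, mem_bot] at hw
      rw [hw, one_mul, mul_one]⟩
    have h2 := MaxClass.sq_dvd_index_commutator hP.isPGroup (p := p) fun e => hc (by
      rw [← map_subtype_commutator P, e, Subgroup.map_bot])
    have h3 : commutator P = ⊤ := by
      rw [← (map_injective P.subtype_injective).eq_iff, map_subtype_commutator P,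
        ← MonoidHom.range_eq_map, Subgroup.range_subtype]
      exact le_antisymm (commutator_le_self P) hPle
    rw [h3, index_top] at h2
    have := hp.out.two_le
    have := Nat.le_of_dvd one_pos h2
    nlinarith
  haveI : Nontrivial Q := (Subgroup.nontrivial_iff_ne_bot Q).2 hQ
  letI : CommGroup Q := { (inferInstance : Group Q) with
    mul_comm := fun s t => Subtype.ext (H.comm s s.2 t t.2).eq }
  have hPN : P ≤ normalizer (Q : Set G) :=
    hP.1.trans ((OddLocal.sigmaCore_le N).trans H.normal)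
  set c := OddLocal.NilpotentPrimeAction.conjHom hPN with hcdef
  have hker : ∀ v : P, c v = 1 ↔ v ∈ commutator P := fun v => by
    rw [hcdef, OddLocal.NilpotentPrimeAction.conjHom_eq_one, ← mem_map_iff_mem
      P.subtype_injective, map_subtype_commutator P]
    exact ⟨fun h => hreg ⟨v.2, h⟩, fun h => H.cent h⟩
  have hfpf : Core.IsFPF c.range.subtype := by
    rintro ⟨_, v, rfl⟩ hne u hu
    have hv : (v : G) ∉ ⁅P, P⁆ := fun h => hne (Subtype.ext ((hker v).2 (by
      rwa [← mem_map_iff_mem P.subtype_injective, map_subtype_commutator P])))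
    have h1 : (u : G) ∈ Q ⊓ centralizer ({(v : G)} : Set G) := by
      refine ⟨u.2, mem_centralizer_singleton_iff.2 ?_⟩
      have h2 : (v : G) * u * (v : G)⁻¹ = u := congrArg Subtype.val hu
      exact (mul_inv_eq_iff_eq_mul.1 h2).symm
    rw [hcon v v.2 hv, mem_bot] at h1
    exact Subtype.ext h1
  have hab : IsMulCommutative c.range := ⟨⟨by
    rintro ⟨_, s, rfl⟩ ⟨_, t, rfl⟩
    refine Subtype.ext ?_
    show c s * c t = c t * c s
    rw [← commutatorElement_eq_one_iff_mul_comm, ← map_commutatorElement, hker]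
    exact commutator_mem_commutator (mem_top s) (mem_top t)⟩⟩
  haveI := hfpf.isCyclic_of_comm hab
  have hk : c.ker = commutator P := Subgroup.ext fun v => by rw [MonoidHom.mem_ker, hker]
  haveI : IsCyclic (↥P ⧸ c.ker) :=
    isCyclic_of_surjective _ (QuotientGroup.quotientKerEquivRange c).symm.surjective
  refine MaxClass.not_isCyclic_quotient_commutator hP.isPGroup (fun e => hc (by
      rw [← map_subtype_commutator P, e, Subgroup.map_bot])) ?_
  exact isCyclic_of_surjective _ (QuotientGroup.quotientMulEquivOfEq hk).surjective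

/-- The fixed points on `Q` of an element off `[P, P]` are many, if there are any. -/
theorem Shape.card_fix (hP : IsSyl N P p) {y : G} (hy : y ∈ P)
    (hy1 : Q ⊓ centralizer ({y} : Set G) ≠ ⊥) :
    p + 1 ≤ Nat.card ↥(Q ⊓ centralizer ({y} : Set G)) := by
  set L := Q ⊓ centralizer ({y} : Set G) with hL
  have hPL : P ≤ normalizer (L : Set G) := by
    intro h hh
    refine OddLocal.mem_normalizer_of_map_conj (eq_of_le_of_card_ge ?_ (OddLocal.card_map_conj _ _).ge)
    rintro _ ⟨u, hu, rfl⟩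
    have hc : h⁻¹ * y * h * y⁻¹ ∈ ⁅P, P⁆ := by
      have := commutator_mem_commutator (P.inv_mem hh) hy
      rwa [commutatorElement_def, inv_inv] at this
    have hQh : ∀ g : G, g ∈ N → g * u * g⁻¹ ∈ Q := fun g hg =>
      (mem_normalizer_iff.1 (H.normal hg) u).1 hu.1
    refine ⟨hQh h (OddLocal.sigmaCore_le N (hP.1 hh)), mem_centralizer_singleton_iff.2 ?_⟩
    have e1 : (h⁻¹ * y * h * y⁻¹) * u = u * (h⁻¹ * y * h * y⁻¹) :=
      (mem_centralizer_iff.1 (H.cent hc) u hu.1).symm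
    have e2 : y * u = u * y := (mem_centralizer_singleton_iff.1 hu.2).symm
    show h * u * h⁻¹ * y = y * (h * u * h⁻¹)
    have e3 : (h⁻¹ * y * h) * u = u * (h⁻¹ * y * h) := by
      calc (h⁻¹ * y * h) * u = (h⁻¹ * y * h * y⁻¹) * (y * u) := by group
        _ = (h⁻¹ * y * h * y⁻¹) * (u * y) := by rw [e2]
        _ = ((h⁻¹ * y * h * y⁻¹) * u) * y := by group
        _ = (u * (h⁻¹ * y * h * y⁻¹)) * y := by rw [e1]
        _ = u * (h⁻¹ * y * h) := by group
    calc h * u * h⁻¹ * y = h * (u * (h⁻¹ * y * h)) * h⁻¹ := by group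
      _ = h * ((h⁻¹ * y * h) * u) * h⁻¹ := by rw [e3]
      _ = y * (h * u * h⁻¹) := by group
  letI : MulAction P L := MulAction.compHom L (OddLocal.NilpotentPrimeAction.conjHom hPL)
  have hmod := hP.isPGroup.card_modEq_card_fixedPoints L
  have hfix : MulAction.fixedPoints P L = {1} := by
    refine Set.eq_singleton_iff_unique_mem.2 ⟨fun v => map_one (OddLocal.NilpotentPrimeAction.conjHom hPL v), fun u hu => Subtype.ext ?_⟩
    have h1 : (u : G) ∈ Q ⊓ centralizer (P : Set G) := by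
      refine ⟨u.2.1, mem_centralizer_iff.2 fun v hv => ?_⟩
      have h2 : v * (u : G) * v⁻¹ = u := congrArg Subtype.val (hu ⟨v, hv⟩)
      exact mul_inv_eq_iff_eq_mul.1 h2
    rw [H.fixedP, mem_bot] at h1
    exact h1
  rw [hfix, Nat.card_eq_fintype_card (α := ({1} : Set L)), Set.card_singleton] at hmod
  have h1 : 1 < Nat.card L := Finite.one_lt_card_iff_nontrivial.2
    ((Subgroup.nontrivial_iff_ne_bot L).2 hy1)
  have h2 := Nat.le_of_dvd (by omega) ((Nat.modEq_iff_dvd' h1.le).1 hmod.symm)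
  omega

include V S

open scoped _root_.Classical in
/-- The elements `v w` with `w ≠ 1`. -/
theorem Setting.mixed_part [Fintype Q] [Fintype P] (hidx : idx N = e) (hO : IsPCompl N O p)
    (hP : IsSyl N P p) (he : 2 * e + 1 ≤ p) (hc : ⁅P, P⁆ ≠ ⊥) :
    ((Nat.card Q : ℝ) - 1) * Nat.card ↥⁅P, P⁆ * (e : ℝ) ^ 2 ≤
      ∑ w ∈ Finset.univ.filter (fun w : Q => w ≠ 1), ∑ v : P,
        pieceVal N P Ψ φ₀ F (emb N hP.1 v * emb N (H.le_derK.trans (derK_le N)) w) v := by
  set ι := emb N (H.le_derK.trans (derK_le N)) with hι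
  set T1 := Finset.univ.filter (fun v : P => (v : G) ∈ ⁅P, P⁆) with hT1
  set Qs := Finset.univ.filter (fun w : Q => w ≠ 1) with hQs
  set f : Q → P → ℝ := fun w v => pieceVal N P Ψ φ₀ F (emb N hP.1 v * ι w) v with hf
  show _ ≤ ∑ w ∈ Qs, ∑ v : P, f w v
  have hQp : ¬ p ∣ Nat.card Q := fun hd => hO.not_dvd (hd.trans (card_dvd_of_le H.le_O))
  have hcQ : (Qs.card : ℝ) = (Nat.card Q : ℝ) - 1 := by
    rw [hQs, Finset.filter_ne', Finset.card_erase_of_mem (Finset.mem_univ _), Finset.card_univ,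
      ← Nat.card_eq_fintype_card, Nat.cast_sub Nat.card_pos, Nat.cast_one]
  have hc1 : T1.card = Nat.card ↥⁅P, P⁆ := by
    rw [hT1, ← Fintype.card_subtype, ← Nat.card_eq_fintype_card]
    exact Nat.card_congr (Subgroup.subgroupOfEquivOfLe (commutator_le_self P)).toEquiv
  have hf0 : ∀ w v, 0 ≤ f w v := fun w v => by
    simp only [hf, pieceVal]
    split_ifs <;> exact sq_nonneg _
  have hin : ∀ v ∈ T1, ∀ w : Q, ∀ g : ℤ, (p : ℤ) ∣ hval F (ι w) - g →
      (pdist p g : ℝ) ^ 2 ≤ f w v := by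
    intro v hv w g hg
    have hv' := (Finset.mem_filter.1 hv).2
    simp only [hf, pieceVal]
    rw [if_pos hv']
    refine pdist_sq_le ?_
    obtain ⟨k, hk⟩ := hP.isPGroup v
    have hcm : Commute (emb N hP.1 v) (ι w) :=
      Subtype.ext (Subtype.ext ((mem_centralizer_iff.1 (H.cent hv') w w.2).symm))
    have h1 := V.hval_mul_cong (k := k) hcm (by rw [← map_pow, hk, map_one])
    have h2 := dvd_add h1 hg
    rwa [sub_add_sub_cancel] at h2
  have hR : ∀ R : Subgroup G, ⁅P, P⁆ ≤ R → R ≤ P → ¬ R ≤ ⁅P, P⁆ →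
      ((p : ℝ) - 1) * Nat.card ↥⁅P, P⁆ ≤
        ((Finset.univ.filter (fun v : P => (v : G) ∈ R ∧ (v : G) ∉ ⁅P, P⁆)).card : ℝ) := by
    intro R h1 h2 h3
    have hb := card_between hP.isPGroup (lt_of_le_not_ge h1 h3) h2
    have e1 : (Finset.univ.filter (fun v : P => (v : G) ∈ R)).card = Nat.card R := by
      rw [← Fintype.card_subtype, ← Nat.card_eq_fintype_card]
      exact Nat.card_congr (Subgroup.subgroupOfEquivOfLe h2).toEquiv
    have e2 := Finset.card_filter_add_card_filter_not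
      (s := Finset.univ.filter (fun v : P => (v : G) ∈ R)) (fun v : P => (v : G) ∈ ⁅P, P⁆)
    rw [Finset.filter_filter, Finset.filter_filter, e1, show
      Finset.univ.filter (fun v : P => (v : G) ∈ R ∧ (v : G) ∈ ⁅P, P⁆) = T1 from
      Finset.filter_congr fun v _ => ⟨fun h => h.2, fun h => ⟨h1 h, h⟩⟩, hc1] at e2
    have e3 : (p : ℝ) * Nat.card ↥⁅P, P⁆ ≤ Nat.card R := by exact_mod_cast hb
    have e4 : (Nat.card ↥⁅P, P⁆ : ℝ) + ((Finset.univ.filter
        (fun v : P => (v : G) ∈ R ∧ (v : G) ∉ ⁅P, P⁆)).card : ℝ) = Nat.card R := by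
      exact_mod_cast e2
    linarith
  have hsplit : ∀ (T2 : Finset P), Disjoint T1 T2 → ∀ w : Q,
      (∑ v ∈ T1, f w v) + ∑ v ∈ T2, f w v ≤ ∑ v : P, f w v := fun T2 hd w => by
    rw [← Finset.sum_union hd]
    exact Finset.sum_le_sum_of_subset_of_nonneg (Finset.subset_univ _) fun v _ _ => hf0 w v
  by_cases hreg : P ⊓ centralizer (Q : Set G) ≤ ⁅P, P⁆
  swap
  -- some element off `[P, P]` centralises `Q`
  · set R := P ⊓ centralizer (Q : Set G) with hRdef
    set T2 := Finset.univ.filter (fun v : P => (v : G) ∈ R ∧ (v : G) ∉ ⁅P, P⁆) with hT2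
    have hd : Disjoint T1 T2 := Finset.disjoint_left.2 fun v h1 h2 =>
      (Finset.mem_filter.1 h2).2.2 (Finset.mem_filter.1 h1).2
    have hT2c : ((p : ℝ) - 1) * Nat.card ↥⁅P, P⁆ ≤ (T2.card : ℝ) :=
      hR R (le_inf (commutator_le_self P) H.cent) inf_le_left hreg
    calc ((Nat.card Q : ℝ) - 1) * Nat.card ↥⁅P, P⁆ * (e : ℝ) ^ 2
        = ∑ _w ∈ Qs, (Nat.card ↥⁅P, P⁆ : ℝ) * (e : ℝ) ^ 2 := by
          rw [Finset.sum_const, nsmul_eq_mul, hcQ]; ring
      _ ≤ _ := Finset.sum_le_sum fun w hw => ?_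
    have hw1 := (Finset.mem_filter.1 hw).2
    refine le_trans ?_ (hsplit T2 hd w)
    set g := hval F (ι w) with hg
    have hs1 : (Nat.card ↥⁅P, P⁆ : ℝ) * (pdist p g : ℝ) ^ 2 ≤ ∑ v ∈ T1, f w v := by
      rw [← hc1, ← nsmul_eq_mul]
      exact Finset.card_nsmul_le_sum _ _ _ fun v hv => hin v hv w g (by rw [← hg]; simp)
    have hs2 : (T2.card : ℝ) * (pdist p (g - idx N) : ℝ) ^ 2 ≤ ∑ v ∈ T2, f w v := by
      rw [← nsmul_eq_mul]
      refine Finset.card_nsmul_le_sum _ _ _ fun v hv => ?_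
      obtain ⟨hvR, hv'⟩ := (Finset.mem_filter.1 hv).2
      simp only [hf, pieceVal]
      rw [if_neg hv']
      obtain ⟨k, hk⟩ := hP.isPGroup v
      have hcm : Commute (emb N hP.1 v) (ι w) :=
        Subtype.ext (Subtype.ext ((mem_centralizer_iff.1 hvR.2 w w.2).symm))
      have hwp : (orderOf (ι w)).Coprime p :=
        (hp.out.coprime_iff_not_dvd.2 fun hd' => hQp
          (hd'.trans ((orderOf_map_dvd ι w).trans (orderOf_dvd_natCard w)))).symm
      have hι1 : ι w ≠ 1 := fun e' => hw1 (Subtype.ext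
        (congrArg (fun t : core N => ((t : N) : G)) e'))
      obtain ⟨z, hz, hzd⟩ := S.excess_mixed V (emb N hP.1 v) (ι w) (fun h => hv' (by
        rw [← hO.derK_inf_syl hP]; exact ⟨h, v.2⟩)) (H.le_derK w.2) hι1 hwp hcm
        (k := k) (by rw [← map_pow, hk, map_one])
      rw [hz, Coherence.norm_intCast_sq]
      refine pdist_sq_le ?_
      rwa [hg, hval, add_sub_cancel_left]
    have hsq := sq_add_le (n := e) (a := pdist p g) (b := pdist p (g - idx N))
      (R := (p : ℝ) - 1) (by rw [hidx]; exact le_pdist_add (by omega) g)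
      (by have : 2 * (e : ℝ) + 1 ≤ p := by exact_mod_cast he
          linarith)
      (by have : (2 : ℝ) ≤ p := by exact_mod_cast hp.out.two_le
          linarith)
    have h4 := mul_le_mul_of_nonneg_left hsq
      (Nat.cast_nonneg (α := ℝ) (Nat.card ↥⁅P, P⁆))
    have h5 := mul_le_mul_of_nonneg_right hT2c (sq_nonneg ((pdist p (g - idx N) : ℝ)))
    linarith
  rcases V.dichotomy H hP hQp (by omega) hreg with hrow | ⟨g₀, hg₀⟩
  -- every row is large
  · rw [Finset.sum_comm]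
    refine le_trans ?_ (Finset.sum_le_sum_of_subset_of_nonneg (Finset.subset_univ T1)
      fun v _ _ => Finset.sum_nonneg fun w _ => hf0 w v)
    calc ((Nat.card Q : ℝ) - 1) * Nat.card ↥⁅P, P⁆ * (e : ℝ) ^ 2
        ≤ (T1.card : ℝ) * ((e : ℝ) ^ 2 * Nat.card Q) := by
          rw [hc1]
          nlinarith [sq_nonneg (e : ℝ), Nat.cast_nonneg (α := ℝ) (Nat.card ↥⁅P, P⁆)]
      _ = ∑ _v ∈ T1, (e : ℝ) ^ 2 * Nat.card Q := by rw [Finset.sum_const, nsmul_eq_mul]
      _ ≤ _ := Finset.sum_le_sum fun v hv => by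
          refine (hrow v (Finset.mem_filter.1 hv).2).trans (le_of_eq ?_)
          refine Finset.sum_congr (by rw [hQs]) fun w _ => ?_
          simp only [hf, pieceVal]
          rw [if_pos (Finset.mem_filter.1 hv).2]
  -- the residues are constant
  obtain ⟨y, hy, hy', hyQ⟩ := H.exists_fix hP hc hreg
  set L := Q ⊓ centralizer ({y} : Set G) with hLdef
  have hLp := H.card_fix hP hy hyQ
  set R := P ⊓ centralizer (L : Set G) with hRdef
  set T2 := Finset.univ.filter (fun v : P => (v : G) ∈ R ∧ (v : G) ∉ ⁅P, P⁆) with hT2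
  have hd : Disjoint T1 T2 := Finset.disjoint_left.2 fun v h1 h2 =>
    (Finset.mem_filter.1 h2).2.2 (Finset.mem_filter.1 h1).2
  have hyR : y ∈ R := ⟨hy, mem_centralizer_iff.2 fun u hu =>
    mem_centralizer_singleton_iff.1 hu.2⟩
  have hT2c : ((p : ℝ) - 1) * Nat.card ↥⁅P, P⁆ ≤ (T2.card : ℝ) :=
    hR R (le_inf (commutator_le_self P) (H.cent.trans (centralizer_le inf_le_left))) inf_le_left
      fun h => hy' (h hyR)
  refine le_trans ?_ (Finset.sum_le_sum fun w _ => hsplit T2 hd w)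
  rw [Finset.sum_add_distrib, Finset.sum_comm (t := T2)]
  set α : ℝ := (pdist p g₀ : ℝ) ^ 2 with hα
  set β : ℝ := (pdist p (g₀ - idx N) : ℝ) ^ 2 with hβ
  set Lc : ℕ := Nat.card L with hLc
  have hs1 : ((Nat.card Q : ℝ) - 1) * ((Nat.card ↥⁅P, P⁆ : ℝ) * α) ≤
      ∑ w ∈ Qs, ∑ v ∈ T1, f w v := by
    rw [← hcQ, ← nsmul_eq_mul]
    refine Finset.card_nsmul_le_sum _ _ _ fun w hw => ?_
    rw [← hc1, ← nsmul_eq_mul]
    exact Finset.card_nsmul_le_sum _ _ _ fun v hv =>
      hin v hv w g₀ (hg₀ w (Finset.mem_filter.1 hw).2)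
  have hs2 : (T2.card : ℝ) * ((Nat.card Q : ℝ) * ((Lc : ℝ) - 1) / Lc * β) ≤
      ∑ v ∈ T2, ∑ w ∈ Qs, f w v := by
    rw [← nsmul_eq_mul]
    refine Finset.card_nsmul_le_sum _ _ _ fun v hv => ?_
    obtain ⟨hvR, hv'⟩ := (Finset.mem_filter.1 hv).2
    refine S.excess_coset V H hO hP hv' hg₀ (L := Lc) Nat.card_pos ?_
    refine Nat.le_of_dvd Nat.card_pos (card_dvd_of_le (le_inf inf_le_left fun u hu => ?_))
    exact mem_centralizer_singleton_iff.2 (mem_centralizer_iff.1 hvR.2 u hu)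
  have hsq := sq_add_le (n := e) (a := pdist p g₀) (b := pdist p (g₀ - idx N))
    (R := ((p : ℝ) - 1) * (((Lc : ℝ) - 1) / Lc))
    (by rw [hidx]; exact le_pdist_add (by omega) g₀) (two_mul_sub_one_le_mul he hLp) (by
      rcases Nat.eq_zero_or_pos e with h0 | h0
      · have hp2 : (3 : ℝ) ≤ p := by
          have := hp.out.two_le
          exact_mod_cast (show 3 ≤ p from lt_of_le_of_ne this (Ne.symm S.p_odd))
        have hL3 : (p : ℝ) + 1 ≤ Lc := by exact_mod_cast hLp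
        rw [← mul_div_assoc, le_div_iff₀ (by linarith)]
        nlinarith
      · have h1 : (1 : ℝ) ≤ e := by exact_mod_cast h0
        have h2 := two_mul_sub_one_le_mul he hLp
        linarith)
  have hQ1 : (1 : ℝ) ≤ Nat.card Q := by exact_mod_cast Nat.card_pos
  have hL1 : (0 : ℝ) ≤ ((Lc : ℝ) - 1) / Lc := div_nonneg (by
    have : (1 : ℝ) ≤ Lc := by exact_mod_cast Nat.card_pos
    linarith) (Nat.cast_nonneg _)
  set ρ := ((Lc : ℝ) - 1) / Lc with hρ
  have hP0 := Nat.cast_nonneg (α := ℝ) (Nat.card ↥⁅P, P⁆)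
  have h4 : ((Nat.card Q : ℝ) - 1) * Nat.card ↥⁅P, P⁆ * (e : ℝ) ^ 2 ≤
      ((Nat.card Q : ℝ) - 1) * Nat.card ↥⁅P, P⁆ * (α + ((p : ℝ) - 1) * ρ * β) :=
    mul_le_mul_of_nonneg_left hsq (mul_nonneg (by linarith) hP0)
  have h5 : ((p : ℝ) - 1) * Nat.card ↥⁅P, P⁆ * ((Nat.card Q : ℝ) * ρ * β) ≤
      (T2.card : ℝ) * ((Nat.card Q : ℝ) * ρ * β) :=
    mul_le_mul_of_nonneg_right hT2c (mul_nonneg (mul_nonneg (by linarith) hL1) (sq_nonneg _))
  have h6 : 0 ≤ ((p : ℝ) - 1) * Nat.card ↥⁅P, P⁆ * (ρ * β) := by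
    have : (1 : ℝ) ≤ p := by exact_mod_cast hp.out.one_le
    exact mul_nonneg (mul_nonneg (by linarith) hP0) (mul_nonneg hL1 (sq_nonneg _))
  rw [show (Nat.card Q : ℝ) * ((Lc : ℝ) - 1) / Lc = (Nat.card Q : ℝ) * ρ from mul_div_assoc _ _ _]
    at hs2
  linarith

omit H

theorem Setting.false_of_shape [Fintype M] [Fintype (core M)] (hW : IsComplIn W (sigmaCore N) N)
    (hO : IsPCompl N O p) (hP : IsSyl N P p) (hc : ⁅P, P⁆ ≠ ⊥)
    (he : 2 * Nat.card W + 1 ≤ p) (H : Shape N O P Q p (Nat.card W))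
    (hn : p ≤ (centralizer ({x} : Set G)).relIndex (sigmaCore N))
    (hr : (centralizer ({x} : Set G)).relIndex (sigmaCore N) * Nat.card E ≤ Nat.card N) :
    False := by
  classical
  obtain ⟨-, hlt⟩ := S.reduced V hW hO hP (by omega) (r := 1) (by rwa [one_mul])
  have hidx := idx_eq_card_compl hW
  set g : P → Q → core N :=
    fun v w => emb N hP.1 v * emb N (H.le_derK.trans (derK_le N)) w with hg
  have h2 := S.sum_piece V hO hP H.le_O H.le_derK g fun v w => rfl
  have h1 := S.p_part V hO hP (fun v => g v 1) fun v => by simp [hg, coe_emb]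
  have h3 := S.mixed_part V H hidx hO hP he hc
  have hs : (∑ w : Q, ∑ v : P, pieceVal N P Ψ φ₀ F (g v w) v) =
      (∑ v : P, pieceVal N P Ψ φ₀ F (g v 1) v) +
        ∑ w ∈ Finset.univ.filter (fun w : Q => w ≠ 1),
          ∑ v : P, pieceVal N P Ψ φ₀ F (g v w) v := by
    rw [← Finset.add_sum_erase _ _ (Finset.mem_univ (1 : Q)), Finset.filter_ne']
  rw [H.card, Nat.cast_mul, Nat.cast_one, one_mul] at hlt
  set n : ℝ := ((centralizer ({x} : Set G)).relIndex (sigmaCore N) : ℝ) with hndef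
  have hn' : (p : ℝ) ≤ n := by rw [hndef]; exact_mod_cast hn
  set e : ℝ := (Nat.card W : ℝ) with hedef
  have he' : 2 * e + 1 ≤ p := by rw [hedef]; exact_mod_cast he
  have he1 : (1 : ℝ) ≤ e := by rw [hedef]; exact_mod_cast Nat.card_pos
  have hgc : (6 : ℝ) / 7 ≤ gainConst p := gainConst_ge S.p_odd
  have hk1 : (1 : ℝ) ≤ Nat.card ↥⁅P, P⁆ := by exact_mod_cast Nat.card_pos
  set k : ℝ := (Nat.card ↥⁅P, P⁆ : ℝ) with hkdef
  set d : ℝ := (pdist p (hval F 1) : ℝ) ^ 2 with hd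
  have hd0 : 0 ≤ d := sq_nonneg _
  have key : k * e ^ 2 ≤ (k - 1) * d + ((p : ℝ) ^ 2 - 1) * k * (pdist p (F 1) : ℝ) ^ 2 +
      gainConst p * d * n := by
    rcases Nat.eq_zero_or_pos (pdist p (F 1)) with h0 | h0
    · have hdd : (p : ℤ) ∣ hval F 1 - (Nat.card W : ℤ) := by
        rw [hval, hidx, add_sub_cancel_left]
        rw [pdist, Int.natAbs_eq_zero, ZMod.valMinAbs_eq_zero] at h0
        exact (ZMod.intCast_zmod_eq_zero_iff_dvd _ p).1 h0
      have hde : d = e ^ 2 := by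
        rw [hd, ← pdist_congr hdd, pdist_nat (by omega)]
      have h4 : 1 ≤ gainConst p * n := by
        calc (1 : ℝ) ≤ 6 / 7 * 3 := by norm_num
          _ ≤ gainConst p * n := mul_le_mul hgc (by linarith) (by norm_num) (by linarith)
      have h5 := mul_le_mul_of_nonneg_right h4 (sq_nonneg e)
      rw [h0, hde]
      simp only [Nat.cast_zero, ne_eq, OfNat.ofNat_ne_zero, not_false_eq_true, zero_pow, mul_zero,
        add_zero]
      linarith
    · have h1' : (1 : ℝ) ≤ (pdist p (F 1) : ℝ) ^ 2 := one_le_pow₀ (by exact_mod_cast h0)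
      have h6 : e ^ 2 ≤ (p : ℝ) ^ 2 - 1 := by nlinarith
      have h7 : k * e ^ 2 ≤ ((p : ℝ) ^ 2 - 1) * k := by
        rw [mul_comm _ k]; exact mul_le_mul_of_nonneg_left h6 (by linarith)
      have h8 := le_mul_of_one_le_right
        (show (0 : ℝ) ≤ ((p : ℝ) ^ 2 - 1) * k by nlinarith) h1'
      have h9 : 0 ≤ (k - 1) * d := mul_nonneg (by linarith) hd0
      have h10 : 0 ≤ gainConst p * d * n :=
        mul_nonneg (mul_nonneg (by linarith) hd0) (by linarith)
      linarith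
  linarith

end Cfsg.Agent.OddCharTwelve
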