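import Cfsg.Agent.Char.Integral
import Cfsg.Agent.Char.Gen
import Cfsg.Agent.S1494
import Cfsg.Agent.S1495
import Mathlib.GroupTheory.Perm.Cycle.Type
import Mathlib.RingTheory.RootsOfUnity.Complex

/-!
# Congruences modulo `1 - ε`, up to multipliers prime to `p`
-/

set_option autoImplicit false

namespace Cfsg.Agent.OddCharTwelve

open Cfsg

universe u

/-- A primitive `p`-th root of unity. -/
noncomputable def eps (p : ℕ) : ℂ := Complex.exp (2 * Real.pi * Complex.I / p)

/-- Congruence modulo `1 - ε` in the algebraic numbers with denominators prime to `p`. -/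
def Cong (p : ℕ) (a b : ℂ) : Prop :=
  ∃ m : ℕ, ¬ p ∣ m ∧ ∃ ω : ℂ, IsIntegral ℤ ω ∧ (m : ℂ) * (a - b) = (1 - eps p) * ω

/-- Algebraic numbers with denominators prime to `p`. -/
def PInt (p : ℕ) (a : ℂ) : Prop := ∃ m : ℕ, ¬ p ∣ m ∧ IsIntegral ℤ ((m : ℂ) * a)

variable {p : ℕ} [hp : Fact p.Prime] {a b c d : ℂ}

theorem not_dvd_mul {m n : ℕ} (hm : ¬ p ∣ m) (hn : ¬ p ∣ n) : ¬ p ∣ m * n :=
  fun h => (hp.out.dvd_mul.1 h).elim hm hn

theorem isIntegral_natCast (n : ℕ) : IsIntegral ℤ (n : ℂ) := by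
  simpa using (isIntegral_algebraMap (R := ℤ) (A := ℂ) (x := (n : ℤ)))

theorem isIntegral_intCast (n : ℤ) : IsIntegral ℤ (n : ℂ) := by
  simpa using (isIntegral_algebraMap (R := ℤ) (A := ℂ) (x := n))

theorem isIntegral_eps : IsIntegral ℤ (eps p) :=
  (Complex.isPrimitiveRoot_exp p hp.out.ne_zero).isIntegral hp.out.pos

theorem pint_of_isIntegral (h : IsIntegral ℤ a) : PInt p a :=
  ⟨1, hp.out.not_dvd_one, by simpa using h⟩

theorem pint_int (n : ℤ) : PInt p (n : ℂ) := pint_of_isIntegral (isIntegral_intCast n)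

theorem pint_nat (n : ℕ) : PInt p (n : ℂ) := pint_of_isIntegral (isIntegral_natCast n)

theorem pint_one : PInt p (1 : ℂ) := pint_of_isIntegral isIntegral_one

theorem pint_zero : PInt p (0 : ℂ) := pint_of_isIntegral isIntegral_zero

theorem PInt.mul (ha : PInt p a) (hb : PInt p b) : PInt p (a * b) := by
  obtain ⟨m, hm, hma⟩ := ha
  obtain ⟨n, hn, hnb⟩ := hb
  refine ⟨m * n, not_dvd_mul hm hn, ?_⟩
  rw [show ((m * n : ℕ) : ℂ) * (a * b) = (m : ℂ) * a * ((n : ℂ) * b) by push_cast; ring]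
  exact hma.mul hnb

theorem PInt.add (ha : PInt p a) (hb : PInt p b) : PInt p (a + b) := by
  obtain ⟨m, hm, hma⟩ := ha
  obtain ⟨n, hn, hnb⟩ := hb
  refine ⟨m * n, not_dvd_mul hm hn, ?_⟩
  rw [show ((m * n : ℕ) : ℂ) * (a + b) = (n : ℂ) * ((m : ℂ) * a) + (m : ℂ) * ((n : ℂ) * b) by
    push_cast; ring]
  exact (IsIntegral.mul (isIntegral_natCast n) hma).add (IsIntegral.mul (isIntegral_natCast m) hnb)

theorem PInt.neg (ha : PInt p a) : PInt p (-a) := by
  obtain ⟨m, hm, hma⟩ := ha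
  exact ⟨m, hm, by simpa using hma.neg⟩

theorem PInt.sub (ha : PInt p a) (hb : PInt p b) : PInt p (a - b) := by
  simpa [sub_eq_add_neg] using ha.add hb.neg

theorem PInt.sum {ι : Type*} (s : Finset ι) (f : ι → ℂ) (h : ∀ i ∈ s, PInt p (f i)) :
    PInt p (∑ i ∈ s, f i) :=
  Finset.sum_induction _ _ (fun _ _ => PInt.add) pint_zero h

theorem PInt.inv_nat {n : ℕ} (hn : ¬ p ∣ n) : PInt p ((n : ℂ)⁻¹) := by
  refine ⟨n, hn, ?_⟩
  rw [mul_inv_cancel₀ (by exact_mod_cast fun e : n = 0 => hn (e ▸ dvd_zero p))]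
  exact isIntegral_one

theorem cong_rfl : Cong p a a := ⟨1, hp.out.not_dvd_one, 0, isIntegral_zero, by simp⟩

theorem cong_of_eq (h : a = b) : Cong p a b := h ▸ cong_rfl

theorem Cong.symm (h : Cong p a b) : Cong p b a := by
  obtain ⟨m, hm, ω, hω, e⟩ := h
  exact ⟨m, hm, -ω, hω.neg, by linear_combination -e⟩

theorem Cong.trans (h₁ : Cong p a b) (h₂ : Cong p b c) : Cong p a c := by
  obtain ⟨m, hm, ω, hω, e⟩ := h₁
  obtain ⟨n, hn, η, hη, f⟩ := h₂
  refine ⟨m * n, not_dvd_mul hm hn, n * ω + m * η,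
    (IsIntegral.mul (isIntegral_natCast n) hω).add (IsIntegral.mul (isIntegral_natCast m) hη), ?_⟩
  push_cast
  linear_combination (n : ℂ) * e + (m : ℂ) * f

theorem Cong.neg (h : Cong p a b) : Cong p (-a) (-b) := by
  obtain ⟨m, hm, ω, hω, e⟩ := h
  exact ⟨m, hm, -ω, hω.neg, by linear_combination -e⟩

theorem Cong.add (h₁ : Cong p a b) (h₂ : Cong p c d) : Cong p (a + c) (b + d) := by
  obtain ⟨m, hm, ω, hω, e⟩ := h₁
  obtain ⟨n, hn, η, hη, f⟩ := h₂
  refine ⟨m * n, not_dvd_mul hm hn, n * ω + m * η,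
    (IsIntegral.mul (isIntegral_natCast n) hω).add (IsIntegral.mul (isIntegral_natCast m) hη), ?_⟩
  push_cast
  linear_combination (n : ℂ) * e + (m : ℂ) * f

theorem Cong.sub (h₁ : Cong p a b) (h₂ : Cong p c d) : Cong p (a - c) (b - d) := by
  simpa [sub_eq_add_neg] using h₁.add h₂.neg

theorem Cong.sum {ι : Type*} (s : Finset ι) (f g : ι → ℂ) (h : ∀ i ∈ s, Cong p (f i) (g i)) :
    Cong p (∑ i ∈ s, f i) (∑ i ∈ s, g i) := by
  classical
  induction s using Finset.induction_on with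
  | empty => exact cong_rfl
  | insert i s hi ih =>
    rw [Finset.sum_insert hi, Finset.sum_insert hi]
    exact (h i (Finset.mem_insert_self i s)).add (ih fun j hj => h j (Finset.mem_insert_of_mem hj))

theorem Cong.mul_left (hc : PInt p c) (h : Cong p a b) : Cong p (c * a) (c * b) := by
  obtain ⟨m, hm, ω, hω, e⟩ := h
  obtain ⟨n, hn, hnc⟩ := hc
  refine ⟨m * n, not_dvd_mul hm hn, (n * c) * ω, hnc.mul hω, ?_⟩
  push_cast
  linear_combination (n : ℂ) * c * e

/-- `p` is divisible by `1 - ε`. -/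
theorem cong_p_zero : Cong p (p : ℂ) 0 := by
  refine ⟨1, hp.out.not_dvd_one, ∑ j ∈ Finset.range p, ∑ i ∈ Finset.range j, eps p ^ i,
    IsIntegral.sum _ fun j _ => IsIntegral.sum _ fun i _ => isIntegral_eps.pow i, ?_⟩
  rw [Finset.mul_sum, Finset.sum_congr rfl fun j _ => mul_neg_geom_sum (eps p) j,
    Finset.sum_sub_distrib, Finset.sum_const, Finset.card_range, nsmul_eq_mul, mul_one,
    show ∑ i ∈ Finset.range p, eps p ^ i = 0 from
      (Complex.isPrimitiveRoot_exp p hp.out.ne_zero).geom_sum_eq_zero hp.out.one_lt]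
  simp

theorem cong_of_dvd {m n : ℤ} (h : (p : ℤ) ∣ m - n) : Cong p (m : ℂ) (n : ℂ) := by
  obtain ⟨k, hk⟩ := h
  have h1 := (Cong.mul_left (pint_int k) (cong_p_zero (p := p))).add (cong_rfl (a := (n : ℂ)))
  have hk' : (m : ℂ) - n = (p : ℂ) * k := by exact_mod_cast congrArg (fun z : ℤ => (z : ℂ)) hk
  rw [mul_zero, zero_add] at h1
  rwa [show (m : ℂ) = (k : ℂ) * (p : ℂ) + n by linear_combination hk']

theorem cong_natCast {m n : ℕ} (h : m ≡ n [MOD p]) : Cong p (m : ℂ) (n : ℂ) := by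
  have := cong_of_dvd (p := p) (m := (m : ℤ)) (n := (n : ℤ)) (Nat.modEq_iff_dvd.1 h.symm)
  exact_mod_cast this

/-- Congruent integers are congruent modulo `p`. -/
theorem dvd_of_cong {m n : ℤ} (h : Cong p (m : ℂ) (n : ℂ)) : (p : ℤ) ∣ m - n := by
  obtain ⟨k, hk, ω, hω, e⟩ := h
  have := S1495.result p hp.out ((k : ℤ) * (m - n)) ω hω (by push_cast; exact e)
  exact ((Nat.prime_iff_prime_int.1 hp.out).dvd_mul.1 this).resolve_left
    fun h' => hk (by exact_mod_cast h')

/-- Congruent multiples by a multiplier congruent to `1`. -/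
theorem cong_mul_one {n : ℕ} (hn : n ≡ 1 [MOD p]) (ha : PInt p a) : Cong p ((n : ℂ) * a) a := by
  have := Cong.mul_left ha (cong_natCast (p := p) hn)
  simpa [mul_comm] using this

/-- The sum over a set permuted by a `p`-element is congruent to the sum over the fixed points. -/
theorem sum_fixed {α : Type*} [DecidableEq α] (s : Finset α) (σ : Equiv.Perm α)
    (hs : ∀ v, σ v ∈ s ↔ v ∈ s) (hσ : σ ^ p = 1) (F : α → ℂ) (hF : ∀ v ∈ s, F (σ v) = F v)
    (hint : ∀ v ∈ s, PInt p (F v)) :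
    Cong p (∑ v ∈ s, F v) (∑ v ∈ s.filter (fun v => σ v = v), F v) := by
  classical
  rw [← Finset.sum_fiberwise_of_maps_to (t := s.image F) (g := F)
      fun v hv => Finset.mem_image_of_mem F hv,
    ← Finset.sum_fiberwise_of_maps_to (s := s.filter fun v => σ v = v) (t := s.image F) (g := F)
      fun v hv => Finset.mem_image_of_mem F (Finset.mem_filter.1 hv).1]
  refine Cong.sum _ _ _ fun w hw => ?_
  obtain ⟨v, hv, rfl⟩ := Finset.mem_image.1 hw
  set S := s.filter fun u => F u = F v with hS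
  have hSσ : ∀ u, σ u ∈ S ↔ u ∈ S := fun u => by
    simp only [hS, Finset.mem_filter, hs]
    exact ⟨fun ⟨h1, h2⟩ => ⟨h1, (hF u h1).symm.trans h2⟩, fun ⟨h1, h2⟩ => ⟨h1, (hF u h1).trans h2⟩⟩
  set T := (s.filter fun u => σ u = u).filter fun u => F u = F v with hT
  have hTS : T = S.filter fun u => σ u = u := by
    rw [hT, hS, Finset.filter_comm]
  rw [Finset.sum_congr rfl (g := fun _ => F v) fun u hu => (Finset.mem_filter.1 hu).2,
    Finset.sum_congr rfl (s₁ := T) (g := fun _ => F v) fun u hu => (Finset.mem_filter.1 hu).2,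
    Finset.sum_const, Finset.sum_const, nsmul_eq_mul, nsmul_eq_mul, mul_comm _ (F v),
    mul_comm _ (F v)]
  refine Cong.mul_left (hint v hv) (cong_natCast ?_)
  let τ : Equiv.Perm {u // u ∈ S} := σ.subtypePerm hSσ
  have hτ : τ ^ p ^ 1 = 1 := by
    rw [pow_one, Equiv.Perm.subtypePerm_pow]
    ext u
    simp [hσ]
  have hc := Equiv.Perm.card_compl_support_modEq hτ
  rw [Fintype.card_coe] at hc
  refine hc.symm.trans ?_
  refine (congrArg (· % p) ?_ : _)
  rw [hTS, ← Finset.card_map (Function.Embedding.subtype (· ∈ S))]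
  congr 1
  ext u
  simp only [Finset.mem_map, Finset.mem_compl, Equiv.Perm.mem_support, not_not,
    Function.Embedding.coe_subtype, Subtype.exists, exists_and_left, Finset.mem_filter]
  constructor
  · rintro ⟨a, ha, haS, rfl⟩
    exact ⟨ha, congrArg Subtype.val haS⟩
  · rintro ⟨huS, hu⟩
    exact ⟨u, huS, Subtype.ext hu, rfl⟩

/-- A generalized character at `x * y`, `x` of order `p` commuting with `y`, is congruent to its
value at `y`. -/
theorem cong_mul {G : Type u} [Group G] [Finite G] {χ : G → ℂ}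
    (hχ : IsGeneralizedCharacter G χ) {x y : G} (hx : orderOf x = p) (hxy : x * y = y * x) :
    Cong p (χ (x * y)) (χ y) := by
  obtain ⟨ω, hω, e⟩ := S1494.result χ hχ p hp.out x y hx hxy
  exact ⟨1, hp.out.not_dvd_one, ω, hω, by simpa [eps] using e⟩

theorem isIntegral_gen {G : Type u} [Group G] [Finite G] {χ : G → ℂ}
    (hχ : IsGeneralizedCharacter G χ) (g : G) : IsIntegral ℤ (χ g) := by
  obtain ⟨a, b, ha, hb, rfl⟩ := hχ
  exact (Char.IsChar.isIntegral ha g).sub (Char.IsChar.isIntegral hb g)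

theorem pint_gen {G : Type u} [Group G] [Finite G] {χ : G → ℂ}
    (hχ : IsGeneralizedCharacter G χ) (g : G) : PInt p (χ g) :=
  pint_of_isIntegral (isIntegral_gen hχ g)

end Cfsg.Agent.OddCharTwelve
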