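import Cfsg.Agent.OddCharTwelve.Dual
import Cfsg.Agent.OddCharTwelve.Cong

/-!
# Averages over a direct factor, and the variance of a function on an abelian group
-/

set_option autoImplicit false
set_option linter.unusedSectionVars false

namespace Cfsg.Agent.OddCharTwelve

open Cfsg
open scoped ComplexConjugate commutatorElement

universe u v

/-- The average over the second factor of a generalized character. -/
theorem isGen_avg {H : Type u} {B : Type v} [Group H] [Fintype H] [Group B] [Fintype B]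
    {η : H × B → ℂ} (hη : IsGeneralizedCharacter (H × B) η) :
    IsGeneralizedCharacter H (fun h => (Nat.card B : ℂ)⁻¹ * ∑ b : B, η (h, b)) := by
  refine Char.isGeneralized_iff.2 ⟨fun g k => ?_, fun ψ => ?_⟩
  · simp only
    congr 1
    refine Finset.sum_congr rfl fun b _ => ?_
    have := Char.IsGen.isClassFunction hη (g, b) (k, 1)
    simpa using this
  · obtain ⟨z, hz⟩ := Char.classInner_generalized_int hη
      (Char.isGeneralized_comp (MonoidHom.fst H B)
        (Char.isGeneralized_of_isCharacter (Char.IsIrr.isCharacter ψ.2)))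
    refine ⟨z, Eq.trans ?_ hz⟩
    simp only [classInner, MonoidHom.coe_fst, Nat.card_prod, Nat.cast_mul, mul_inv,
      Fintype.sum_prod_type, Finset.mul_sum, Finset.sum_mul, mul_assoc]

variable {K : Type u} [Group K] [Fintype K]

open scoped _root_.Classical in
/-- Inversion on an abelian group. -/
theorem inversion (hc : ∀ a b : K, Commute a b) {f : K → ℂ} {n : (K →* ℂˣ) → ℤ}
    (hn : ∀ θ : K →* ℂˣ, ∑ v : K, f v * conj (θ v : ℂ) = (Nat.card K : ℂ) * n θ) (w : K) :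
    f w = ∑ θ ∈ lin (⊥ : Subgroup K), (n θ : ℂ) * (θ w : ℂ) := by
  have hb : ∀ a b : K, ⁅a, b⁆ ∈ (⊥ : Subgroup K) := fun a b => by
    rw [Subgroup.mem_bot, commutatorElement_eq_one_iff_commute]; exact hc a b
  have h := sum_lin_coeff hb f w
  rw [Subgroup.index_bot, show (Finset.univ.filter (· ∈ (⊥ : Subgroup K))) = {1} by ext; simp,
    Finset.sum_singleton, mul_one] at h
  refine mul_left_cancel₀ (Nat.cast_ne_zero.2 Nat.card_pos.ne' : (Nat.card K : ℂ) ≠ 0) ?_
  rw [← h, Finset.mul_sum]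
  refine Finset.sum_congr rfl fun θ _ => ?_
  rw [hn θ]; ring

open scoped _root_.Classical in
/-- If the coefficients are congruent off the trivial character, so are the values off `1`. -/
theorem cong_of_coeff {p : ℕ} [Fact p.Prime] (hc : ∀ a b : K, Commute a b) {f : K → ℂ}
    {n : (K →* ℂˣ) → ℤ}
    (hn : ∀ θ : K →* ℂˣ, ∑ v : K, f v * conj (θ v : ℂ) = (Nat.card K : ℂ) * n θ) {c : ℤ}
    (h : ∀ θ : K →* ℂˣ, θ ≠ 1 → (p : ℤ) ∣ n θ - c) {w : K} (hw : w ≠ 1) :
    Cong p (f w) ((n 1 - c : ℤ) : ℂ) := by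
  have hb : ∀ a b : K, ⁅a, b⁆ ∈ (⊥ : Subgroup K) := fun a b => by
    rw [Subgroup.mem_bot, commutatorElement_eq_one_iff_commute]; exact hc a b
  have hz := sum_lin_not_mem hb (v := w) (by simpa using hw)
  have h1 : f w = ((n 1 - c : ℤ) : ℂ) +
      ∑ θ ∈ (lin (⊥ : Subgroup K)).erase 1, ((n θ - c : ℤ) : ℂ) * (θ w : ℂ) := by
    rw [inversion hc hn w, ← Finset.add_sum_erase _ _ one_mem_lin]
    rw [← Finset.add_sum_erase _ _ one_mem_lin] at hz
    simp only [MonoidHom.one_apply, Units.val_one, mul_one] at hz ⊢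
    push_cast
    simp only [sub_mul, Finset.sum_sub_distrib, ← Finset.mul_sum]
    linear_combination (c : ℂ) * hz
  rw [h1]
  conv => arg 3; rw [← add_zero ((n 1 - c : ℤ) : ℂ)]
  refine cong_rfl.add ?_
  rw [← Finset.sum_const_zero (s := (lin (⊥ : Subgroup K)).erase 1)]
  refine Cong.sum _ _ _ fun θ hθ => ?_
  obtain ⟨k, hk⟩ := h θ (Finset.mem_erase.1 hθ).1
  have hθi : PInt p (θ w : ℂ) :=
    pint_of_isIntegral (Char.IsChar.isIntegral (Char.isCharacter_hom θ) w)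
  have h2 := Cong.mul_left ((pint_int k).mul hθi) (cong_p_zero (p := p))
  rw [mul_zero] at h2
  rw [hk]
  push_cast
  rwa [mul_comm (p : ℂ) (k : ℂ), mul_assoc, mul_comm (p : ℂ), ← mul_assoc]

open scoped _root_.Classical in
/-- The variance bound. -/
theorem variance (hc : ∀ a b : K, Commute a b) {f : K → ℂ} {n : (K →* ℂˣ) → ℤ}
    (hn : ∀ θ : K →* ℂˣ, ∑ v : K, f v * conj (θ v : ℂ) = (Nat.card K : ℂ) * n θ)
    {B₀ B₁ : Finset (K →* ℂˣ)} {m : ℕ} (h₀ : m ≤ B₀.card) (h₁ : m ≤ B₁.card)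
    (hne : ∀ a ∈ B₀, ∀ b ∈ B₁, n a ≠ n b) :
    ((m * Nat.card K : ℕ) : ℝ) / 2 ≤ ∑ v ∈ Finset.univ.filter (fun v : K => v ≠ 1), ‖f v‖ ^ 2 := by
  set S := lin (⊥ : Subgroup K) with hS
  have hall : ∀ θ : K →* ℂˣ, θ ∈ S := fun θ => mem_lin.2 fun v hv => by
    rw [Subgroup.mem_bot.1 hv, map_one]
  have hk : (0 : ℝ) < Nat.card K := Nat.cast_pos.2 Nat.card_pos
  have hb : (Nat.card K : ℝ) * ∑ θ ∈ S, (n θ : ℝ) ^ 2 ≤ ∑ v : K, ‖f v‖ ^ 2 := by
    have h := bessel_lin f S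
    simp only [hn, norm_mul, Complex.norm_natCast, mul_pow, Coherence.norm_intCast_sq] at h
    rw [← Finset.mul_sum, sq, mul_assoc] at h
    exact le_of_mul_le_mul_left h hk
  have h1 : f 1 = ((∑ θ ∈ S, n θ : ℤ) : ℂ) := by
    rw [inversion hc hn 1]; push_cast
    exact Finset.sum_congr rfl fun θ _ => by rw [map_one, Units.val_one, mul_one]
  have hS' : (S.card : ℝ) = Nat.card K := by
    rw [hS, card_lin fun a b => by
      rw [Subgroup.mem_bot, commutatorElement_eq_one_iff_commute]; exact hc a b, Subgroup.index_bot]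
  have hsplit : ∑ v ∈ Finset.univ.filter (fun v : K => v ≠ 1), ‖f v‖ ^ 2 =
      ∑ v : K, ‖f v‖ ^ 2 - (∑ θ ∈ S, (n θ : ℝ)) ^ 2 := by
    rw [Finset.filter_ne', ← Finset.sum_erase_add _ _ (Finset.mem_univ (1 : K)), h1,
      Coherence.norm_intCast_sq]
    push_cast
    ring
  have hvar : ∑ a ∈ S, ∑ b ∈ S, ((n a : ℝ) - n b) ^ 2 =
      2 * ((Nat.card K : ℝ) * ∑ θ ∈ S, (n θ : ℝ) ^ 2 - (∑ θ ∈ S, (n θ : ℝ)) ^ 2) := by
    simp only [sub_sq, Finset.sum_add_distrib, Finset.sum_sub_distrib, Finset.sum_const,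
      nsmul_eq_mul, ← Finset.mul_sum, ← Finset.sum_mul, hS']
    ring
  have hlow : ((m * Nat.card K : ℕ) : ℝ) ≤ ∑ a ∈ S, ∑ b ∈ S, ((n a : ℝ) - n b) ^ 2 := by
    have hp : ∀ a ∈ S, (m : ℝ) ≤ ∑ b ∈ S, ((n a : ℝ) - n b) ^ 2 := by
      intro a _
      obtain ⟨B, hB, hd⟩ : ∃ B : Finset (K →* ℂˣ), m ≤ B.card ∧ ∀ b ∈ B, n a ≠ n b := by
        by_cases h : ∃ b ∈ B₀, n a = n b
        · obtain ⟨b₀, hb₀, e⟩ := h
          exact ⟨B₁, h₁, fun b hb => e ▸ hne _ hb₀ _ hb⟩
        · push Not at h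
          exact ⟨B₀, h₀, h⟩
      refine le_trans ?_ (Finset.sum_le_sum_of_subset_of_nonneg (s := B) (fun b _ => hall b)
        fun b _ _ => sq_nonneg _)
      calc (m : ℝ) ≤ B.card := by exact_mod_cast hB
        _ = ∑ b ∈ B, (1 : ℝ) := by simp
        _ ≤ _ := Finset.sum_le_sum fun b hb => by
          have : (1 : ℤ) ≤ (n a - n b) ^ 2 := by
            have := sq_pos_of_ne_zero (sub_ne_zero.2 (hd b hb))
            omega
          exact_mod_cast this
    refine le_trans ?_ (Finset.sum_le_sum hp)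
    rw [Finset.sum_const, nsmul_eq_mul, hS', Nat.cast_mul, mul_comm]
  rw [hsplit]
  linarith

end Cfsg.Agent.OddCharTwelve
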