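import Mathlib
import Cfsg.Agent.Char.PRegularCong
import Cfsg.Agent.Char.Integral

/-!
# Generalized characters invariant under power maps
-/

set_option autoImplicit false

namespace Cfsg.Agent.OddCharTwelve

open Cfsg

universe u

variable {S : Type u} [Group S] [Finite S] {f : S → ℂ}

/-- A power prime to the order of an element extends to a power prime to the group order. -/
theorem exists_coprime_modEq (u : S) {i : ℕ} (hi : i.Coprime (orderOf u)) :
    ∃ k : ℕ, k.Coprime (Nat.card S) ∧ u ^ k = u ^ i := by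
  haveI : NeZero (Nat.card S) := ⟨Nat.card_pos.ne'⟩
  haveI : NeZero (orderOf u) := ⟨(orderOf_pos u).ne'⟩
  obtain ⟨v, hv⟩ := ZMod.unitsMap_surjective (orderOf_dvd_natCard u) (ZMod.unitOfCoprime i hi)
  refine ⟨(v : ZMod (Nat.card S)).val, ZMod.val_coe_unit_coprime v, pow_eq_pow_iff_modEq.2 ?_⟩
  rw [← ZMod.natCast_eq_natCast_iff]
  have := congrArg (fun w : (ZMod (orderOf u))ˣ => (w : ZMod (orderOf u))) hv
  simp only [ZMod.unitsMap_val, ZMod.coe_unitOfCoprime] at this
  rw [← this, ZMod.natCast_val]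

/-- A generalized character invariant under power maps has integer values. -/
theorem int_of_invariant (hf : IsGeneralizedCharacter S f)
    (hinv : ∀ (u : S) (k : ℕ), k.Coprime (Nat.card S) → f (u ^ k) = f u) (u : S) :
    ∃ z : ℤ, f u = z := by
  classical
  have := Fintype.ofFinite S
  induction hn : orderOf u using Nat.strong_induction_on generalizing u with
  | _ n ih =>
  set C := Subgroup.zpowers u with hC
  have := Fintype.ofFinite C
  have hg : IsGeneralizedCharacter C (fun c : C => f (c : S)) :=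
    Char.isGeneralized_comp C.subtype hf
  obtain ⟨m, hm⟩ := Char.classInner_generalized_int hg
    (Char.isGeneralized_of_isCharacter (Char.isCharacter_hom (1 : C →* ℂˣ)))
  rw [classInner, inv_mul_eq_iff_eq_mul₀ (Nat.cast_ne_zero.2 Nat.card_pos.ne')] at hm
  simp only [MonoidHom.one_apply, Units.val_one, map_one, mul_one] at hm
  set T := Finset.univ.filter (fun c : C => orderOf (c : S) = n) with hT
  have hsame : ∀ c ∈ T, f (c : S) = f u := by
    intro c hc
    have hco := (Finset.mem_filter.1 hc).2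
    obtain ⟨i, hi⟩ : ∃ i : ℕ, u ^ i = (c : S) :=
      (isOfFinOrder_of_finite u).mem_powers_iff_mem_zpowers.2 c.2
    have hcop : i.Coprime (orderOf u) := by
      have h1 : orderOf (u ^ i) = orderOf u := by rw [hi, hco, hn]
      rw [orderOf_pow] at h1
      have h2 : (orderOf u).gcd i = 1 := by
        rcases (Nat.div_eq_self.1 h1) with h | h
        · exact absurd h (orderOf_pos u).ne'
        · exact h
      exact Nat.coprime_comm.1 h2
    obtain ⟨k, hk, hku⟩ := exists_coprime_modEq u hcop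
    rw [← hi, ← hku, hinv u k hk]
  have hlow : ∀ c ∈ Finset.univ.filter (fun c : C => ¬ orderOf (c : S) = n),
      ∃ z : ℤ, f (c : S) = z := by
    intro c hc
    refine ih _ (lt_of_le_of_ne ?_ (Finset.mem_filter.1 hc).2) _ rfl
    rw [← hn]
    exact Nat.le_of_dvd (orderOf_pos u) (orderOf_dvd_of_mem_zpowers c.2)
  choose! z hz using hlow
  have hsum : (T.card : ℂ) * f u = (Nat.card C : ℂ) * m -
      ∑ c ∈ Finset.univ.filter (fun c : C => ¬ orderOf (c : S) = n), (z c : ℂ) := by
    rw [← hm, ← Finset.sum_filter_add_sum_filter_not Finset.univ (fun c : C => orderOf (c : S) = n),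
      Finset.sum_congr rfl hsame, Finset.sum_congr rfl hz, Finset.sum_const, nsmul_eq_mul]
    ring
  have hT0 : (T.card : ℂ) ≠ 0 := by
    refine Nat.cast_ne_zero.2 (Finset.card_pos.2 ⟨⟨u, Subgroup.mem_zpowers u⟩, ?_⟩).ne'
    exact Finset.mem_filter.2 ⟨Finset.mem_univ _, hn⟩
  set q : ℚ := ((Nat.card C : ℤ) * m -
      ∑ c ∈ Finset.univ.filter (fun c : C => ¬ orderOf (c : S) = n), z c : ℤ) / (T.card : ℚ)
  have hq : f u = (q : ℂ) := by
    simp only [q, Rat.cast_div, Rat.cast_natCast, Rat.cast_intCast]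
    rw [eq_div_iff hT0, mul_comm, hsum]
    push_cast
    rfl
  have hint : IsIntegral ℤ (f u) := by
    obtain ⟨a, b, ha, hb, rfl⟩ := hf
    exact (Char.IsChar.isIntegral ha u).sub (Char.IsChar.isIntegral hb u)
  obtain ⟨w, hw⟩ := Char.exists_int_of_isIntegral_rat (hq ▸ hint)
  exact ⟨w, by rw [hq, ← hw]; norm_cast⟩

/-- An integer valued generalized character at an element and at a `p`-power of it. -/
theorem int_pow_cong (hf : IsGeneralizedCharacter S f) {p : ℕ} (hp : p.Prime) {F : S → ℤ}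
    (hF : ∀ u, f u = F u) (u : S) (k : ℕ) : (p : ℤ) ∣ F (u ^ p ^ k) - F u := by
  obtain ⟨M, hM⟩ := Blocks.exists_isPModular p hp
  obtain ⟨a, b, ha, hb, hab⟩ := hf
  have h1 := Char.pow_prime_pow_sub_mem hM ha k u
  have h2 := Char.pow_prime_pow_sub_mem hM hb k u
  have := hM.2.1
  let _ := Ideal.Quotient.field M
  have : CharP (Cfsg.AlgInt ⧸ M) p := by
    refine ⟨fun n => ?_⟩
    rw [← map_natCast (Ideal.Quotient.mk M), Ideal.Quotient.eq_zero_iff_mem]
    exact Blocks.natCast_mem_iff hM n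
  haveI := Fact.mk hp
  set mk := Ideal.Quotient.mk M
  let A : S → Cfsg.AlgInt := fun g => ⟨a g, Char.IsChar.isIntegral ha g⟩
  let B : S → Cfsg.AlgInt := fun g => ⟨b g, Char.IsChar.isIntegral hb g⟩
  have hFe : ∀ g, (F g : Cfsg.AlgInt) = A g - B g := fun g => Subtype.ext (by
    show ((F g : Cfsg.AlgInt) : ℂ) = a g - b g
    rw [show ((F g : Cfsg.AlgInt) : ℂ) = (F g : ℂ) by simp, ← hF, show f g = (a - b) g by rw [hab]]
    rfl)
  have e1 : mk (A (u ^ p ^ k)) = mk (A u) ^ p ^ k := by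
    rw [← map_pow]; exact (Ideal.Quotient.eq.2 h1).symm
  have e2 : mk (B (u ^ p ^ k)) = mk (B u) ^ p ^ k := by
    rw [← map_pow]; exact (Ideal.Quotient.eq.2 h2).symm
  have e3 : ((F (u ^ p ^ k) : ℤ) : Cfsg.AlgInt ⧸ M) = ((F u : ℤ) : Cfsg.AlgInt ⧸ M) ^ p ^ k := by
    rw [← map_intCast mk, ← map_intCast mk, hFe, hFe, map_sub, map_sub, e1, e2, sub_pow_char_pow]
  have e4 : ((F u : ℤ) : Cfsg.AlgInt ⧸ M) ^ p ^ k = (F u : ℤ) := by
    have h3 : ∀ n : ℕ, ((F u : ℤ) : ZMod p) ^ p ^ n = (F u : ℤ) := fun n => ZMod.pow_card_pow _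
    have := congrArg (ZMod.castHom (dvd_refl p) (Cfsg.AlgInt ⧸ M)) (h3 k)
    rwa [map_pow, map_intCast] at this
  rw [e4] at e3
  exact (CharP.intCast_eq_intCast (Cfsg.AlgInt ⧸ M) p).1 e3.symm |>.dvd

end Cfsg.Agent.OddCharTwelve
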