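import Cfsg.Agent.OddCharTwelve.NImages
import Cfsg.Agent.OddCharTwelve.IntValued

/-!
# The integer valued difference between the image and the member on `N_σ`
-/

set_option autoImplicit false
set_option linter.unusedSectionVars false

namespace Cfsg.Agent.OddCharTwelve

open Subgroup Cfsg
open scoped ComplexConjugate

universe u

variable {G : Type u} [Group G] [Fintype G] {N K1 : Subgroup G} [Fintype N] [Fintype (core N)]
variable {Ψ : (↥N → ℂ) → G → ℂ} (hI : Images N K1 Ψ) {φ₀ : ↥N → ℂ}

include hI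

theorem Images.exists_fval (h₀ : φ₀ ∈ fam N K1) (h3 : 3 ≤ (fam N K1).card) :
    ∃ F : core N → ℤ, (∀ v : core N, Ψ φ₀ ((v : N) : G) = φ₀ (v : N) + (F v : ℂ)) ∧
      ∀ {p : ℕ}, p.Prime → ∀ (v : core N) (k : ℕ), (p : ℤ) ∣ F (v ^ p ^ k) - F v := by
  classical
  have hs := hI.side
  set f : core N → ℂ := fun v => Ψ φ₀ ((v : N) : G) - φ₀ (v : N) with hf
  have hgen : IsGeneralizedCharacter (core N) f :=
    Char.isGeneralized_sub
      (Char.isGeneralized_comp (N.subtype.comp (core N).subtype) (hI.gen _ h₀))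
      (Char.isGeneralized_comp (core N).subtype (hs.gen h₀))
  have hinv : ∀ (u : core N) (k : ℕ), k.Coprime (Nat.card (core N)) → f (u ^ k) = f u := by
    intro u k hk
    by_cases hu : u = 1
    · rw [hu, one_pow]
    haveI : NeZero (Nat.card G) := ⟨Nat.card_pos.ne'⟩
    haveI : NeZero (Nat.card (core N)) := ⟨Nat.card_pos.ne'⟩
    obtain ⟨v, hv⟩ := ZMod.unitsMap_surjective
      ((card_subgroup_dvd_card (core N)).trans (card_subgroup_dvd_card N))
      (ZMod.unitOfCoprime k hk)
    set l := (v : ZMod (Nat.card G)).val with hl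
    have hlG : l.Coprime (Nat.card G) := ZMod.val_coe_unit_coprime v
    have hlk : u ^ l = u ^ k := by
      refine pow_eq_pow_iff_modEq.2 (Nat.ModEq.of_dvd (orderOf_dvd_natCard u) ?_)
      rw [← ZMod.natCast_eq_natCast_iff]
      have := congrArg (fun w : (ZMod (Nat.card (core N)))ˣ => (w : ZMod (Nat.card (core N)))) hv
      simp only [ZMod.unitsMap_val, ZMod.coe_unitOfCoprime] at this
      rw [← this, hl, ZMod.natCast_val]
    rw [← hlk]
    have h1 := hI.apply_pow h3 h₀ hlG ((u : N) : G)
    have hφk := hI.fam_pow h₀ hlG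
    have hd := congrFun (hI.diff _ hφk _ h₀) ((u : N) : G)
    have hcl := Char.IsGen.isClassFunction (Char.isGeneralized_sub (hs.gen hφk) (hs.gen h₀))
    have hc := Coherence.Dade.dade_coe (dade1 hs.minSimple hs.coatom) hcl (a := (u : N))
      ((mem_typeA1 hs.minSimple hs.coatom).2
        ⟨u.2, fun e => hu (Subtype.ext (Subtype.ext e))⟩)
    change tau1Map N _ _ = _ at hc
    rw [hc, Pi.sub_apply, Pi.sub_apply] at hd
    simp only [hf, SubgroupClass.coe_pow]
    rw [h1]
    linear_combination -hd
  choose F hF using fun u => int_of_invariant hgen hinv u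
  exact ⟨F, fun v => by rw [← hF v]; simp [hf], fun hp v k => int_pow_cong hgen hp hF v k⟩

end Cfsg.Agent.OddCharTwelve
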