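import Cfsg.Agent.OddCharTwelve.MChar
import Cfsg.Agent.OddCharTwelve.NVal

/-!
# The inequality from two disjoint supports
-/

set_option autoImplicit false
set_option linter.unusedSectionVars false

namespace Cfsg.Agent.OddCharTwelve

open Subgroup Cfsg
open scoped ComplexConjugate

universe u

variable {G : Type u} [Group G] [Fintype G] {M N K1 E : Subgroup G} [Fintype N] [Fintype (core N)]
  [Fintype M] [Fintype (core M)] {p : ℕ} [hp : Fact p.Prime] {x a : G}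
variable {Ψ : (↥N → ℂ) → G → ℂ} {φ₀ : ↥N → ℂ}

theorem support_eq_tilde {M : Subgroup G} (hG : IsMinSimpleOddOrder G) (hM : IsCoatom M) :
    Coherence.Dade.support (typeA1 M) (supportR M) =
      tildeOf M ((sigmaCore M : Set G) \ {1}) := by
  ext g
  rw [← OddLocal.typeA1_eq hG hM]
  constructor
  · rintro ⟨b, hb, u, hu, z, hz⟩
    exact ⟨b, hb, u, hu, z⁻¹, by rw [← hz]; group⟩
  · rintro ⟨b, hb, u, hu, z, rfl⟩
    exact ⟨b, hb, u, hu, z⁻¹, by group⟩

open scoped _root_.Classical in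
theorem one_not_mem_support {M : Subgroup G} (hG : IsMinSimpleOddOrder G) (hM : IsCoatom M) :
    (1 : G) ∉ Coherence.Dade.support (typeA1 M) (supportR M) := by
  rintro ⟨b, hb, u, hu, z, hz⟩
  have hD := dade1 hG hM
  have he : u = b⁻¹ := eq_inv_of_mul_eq_one_right (by rw [← hz]; group)
  have hu1 : u = 1 := Coherence.Dade.disjoint_L hD hb hu (he ▸ inv_mem (hD.subset hb))
  rw [hu1, eq_comm, inv_eq_one] at he
  exact hD.one_not_mem (he ▸ hb)

open scoped _root_.Classical in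
/-- The averaged norms over two nonconjugate maximal subgroups. -/
theorem norm_two (hI : Images N K1 Ψ) (hM : IsCoatom M)
    (hnc : ∀ g : G, N ≠ M.map (MulAut.conj g).toMonoidHom) (h₀ : φ₀ ∈ fam N K1) :
    (Nat.card N : ℝ)⁻¹ * (∑ v ∈ Finset.univ.filter (fun v : N => (v : G) ∈ typeA1 N),
        ‖rho N (Ψ φ₀) v‖ ^ 2) +
      (Nat.card M : ℝ)⁻¹ * (∑ v ∈ Finset.univ.filter (fun v : M => (v : G) ∈ typeA1 M),
        ‖rho M (Ψ φ₀) v‖ ^ 2) < 1 := by
  have hG := hI.side.minSimple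
  have hN := hI.side.coatom
  set ψ := Ψ φ₀ with hψ
  have hgen : IsGeneralizedCharacter G ψ := hI.gen _ h₀
  have hcl := Char.IsGen.isClassFunction hgen
  refine lt_of_le_of_lt (add_le_add (norm_bound hG hN hcl) (norm_bound hG hM hcl)) ?_
  set SN := Finset.univ.filter (· ∈ Coherence.Dade.support (typeA1 N) (supportR N)) with hSN
  set SM := Finset.univ.filter (· ∈ Coherence.Dade.support (typeA1 M) (supportR M)) with hSM
  have hdis : Disjoint SN SM := Finset.disjoint_left.2 fun g h1 h2 => by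
    have h1' := (Finset.mem_filter.1 h1).2
    have h2' := (Finset.mem_filter.1 h2).2
    rw [support_eq_tilde hG hN] at h1'
    rw [support_eq_tilde hG hM] at h2'
    have h := OddLocal.tildeOf_sigma_disjoint hG hM hN hnc
    exact (Set.eq_empty_iff_forall_notMem.1 h g) ⟨h2', h1'⟩
  have hone : (1 : G) ∉ SN ∪ SM := by
    simp [hSN, hSM, one_not_mem_support hG hN, one_not_mem_support hG hM]
  have hnorm : ∑ g : G, ‖ψ g‖ ^ 2 = (Nat.card G : ℝ) := by
    have h := hI.sirr h₀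
    rw [classInner, inv_mul_eq_one₀ (Nat.cast_ne_zero.2 Nat.card_pos.ne')] at h
    have := congrArg Complex.re h
    simpa [Complex.mul_conj, Complex.normSq_eq_norm_sq, Complex.re_sum, ← Complex.ofReal_pow]
      using this.symm
  have hψ1 : 0 < ‖ψ 1‖ ^ 2 := by
    obtain ⟨η, e | e⟩ := Char.IsGen.eq_pm_irr hgen (hI.sirr h₀) <;>
      obtain ⟨n, hn, hd⟩ := Char.IsIrr.degree η.2 <;>
      rw [show ψ = _ from e] <;> simp [hd] <;> positivity
  have hlt : ∑ g ∈ SN ∪ SM, ‖ψ g‖ ^ 2 < ∑ g : G, ‖ψ g‖ ^ 2 :=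
    Finset.sum_lt_sum_of_subset (Finset.subset_univ _) (Finset.mem_univ 1) hone hψ1
      fun g _ _ => sq_nonneg _
  have hpos : (0 : ℝ) < Nat.card G := Nat.cast_pos.2 Nat.card_pos
  rw [← mul_add, ← Finset.sum_union hdis, inv_mul_lt_iff₀ hpos, mul_one, ← hnorm]
  exact hlt

/-- The constant `1 - 1/(2p+1)`. -/
noncomputable def gainConst (p : ℕ) : ℝ := (2 * p : ℝ) / (2 * p + 1)

open scoped _root_.Classical in
/-- The main inequality, multiplied out. -/
theorem Pair.main_ineq (hP : Pair M E p x a) (hI : Images N K1 Ψ)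
    (hnc : ∀ g : G, N ≠ M.map (MulAut.conj g).toMonoidHom) (h₀ : φ₀ ∈ fam N K1)
    (h3 : 3 ≤ (fam N K1).card) (hR : supportR N x = sigmaCore M ⊓ centralizer ({x} : Set G))
    (hp2 : p ≠ 2) {f₀ : core M →* ℂˣ} (hf₀ : f₀ ≠ 1)
    (hxf₀ : (⟨x, hP.compl.compl.1 hP.mem⟩ : M) ∈ Char.inertia (lf f₀))
    {α : ℤ} (ha : hI.IsA φ₀ α) {μ : ℝ} (hμ0 : 0 ≤ μ)
    (hμ : ∀ z : ℤ, Cong p (rho N (Ψ φ₀) x) (z : ℂ) → μ ≤ |(z : ℝ)|) :
    psiZero N K1 (Ψ φ₀) +
        ∑ v ∈ Finset.univ.filter (fun v : N => v ∈ core N ∧ (v : G) ∉ K1),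
          ‖excess K1 Ψ φ₀ v‖ ^ 2 -
        Nat.card K1 * (idx N : ℝ) ^ 2 - 2 * idx N * Nat.card K1 * α +
        gainConst p * μ ^ 2 * (Nat.card N) / (idx M) < 0 := by
  have hd := hP.compl.data
  set L := fixedKer M x (hP.compl.compl.1 hP.mem) with hL
  choose z hz using fun f => hP.exists_coeff (hI.gen _ h₀) f
  have hbound : ∀ f ∈ lin L, f ≠ 1 → μ ≤ |(z f : ℝ)| := fun f hf hf1 =>
    hμ _ (hP.cong hI hnc h₀ h3 hR hf1 (fixed_of_mem_lin hf) (hz f))
  have hg := hP.gain (χ := Ψ φ₀) (L := L) (fixedKer_comm) z hz hμ0 hbound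
  have hn : (2 * p + 1 : ℝ) ≤ (L.index : ℝ) := by
    exact_mod_cast hP.index_fixedKer (hx := hP.compl.compl.1 hP.mem) hp2 hf₀ hxf₀
  set U := ∑ v ∈ Finset.univ.filter (fun v : M => (v : G) ∈ typeA1 M),
    ‖rho M (Ψ φ₀) (v : G)‖ ^ 2 with hU
  have hnpos : (0 : ℝ) < L.index := lt_of_lt_of_le (by positivity) hn
  have hpos : (0 : ℝ) < 2 * p + 1 := by positivity
  have hgain : gainConst p * μ ^ 2 * (Nat.card (core M) : ℝ) ≤ U := by
    rw [gainConst, div_mul_eq_mul_div, div_mul_eq_mul_div, div_le_iff₀ hpos]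
    have h0 : 0 ≤ μ ^ 2 * (Nat.card (core M) : ℝ) := by positivity
    have h1 : (2 * p : ℝ) * L.index ≤ (2 * p + 1) * (L.index - 1) := by nlinarith
    have h2 : (2 * p : ℝ) * L.index * (μ ^ 2 * (Nat.card (core M) : ℝ)) ≤
        (2 * p + 1) * ((L.index : ℝ) * U) := by
      calc (2 * p : ℝ) * L.index * (μ ^ 2 * (Nat.card (core M) : ℝ))
          ≤ (2 * p + 1) * ((L.index : ℝ) - 1) * (μ ^ 2 * (Nat.card (core M) : ℝ)) :=
            mul_le_mul_of_nonneg_right h1 h0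
        _ ≤ _ := by
            have := mul_le_mul_of_nonneg_left hg hpos.le
            linarith
    nlinarith
  have h := norm_two hI hd.coatom hnc h₀
  rw [hI.split_norm h₀ ha, ← hU] at h
  have hN0 : (0 : ℝ) < Nat.card N := Nat.cast_pos.2 Nat.card_pos
  have hM0 : (0 : ℝ) < Nat.card M := Nat.cast_pos.2 Nat.card_pos
  have hi0 : (0 : ℝ) < idx M := by
    exact_mod_cast Nat.pos_of_ne_zero (core M).index_ne_zero_of_finite
  have hMc : (Nat.card M : ℝ) = idx M * Nat.card (core M) := by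
    rw [card_eq (N := M), Nat.cast_mul]
  have h' : gainConst p * μ ^ 2 / idx M ≤ (Nat.card M : ℝ)⁻¹ * U := by
    rw [inv_mul_eq_div, div_le_div_iff₀ hi0 hM0, hMc]
    calc gainConst p * μ ^ 2 * ((idx M : ℝ) * Nat.card (core M))
        = (idx M : ℝ) * (gainConst p * μ ^ 2 * Nat.card (core M)) := by ring
      _ ≤ (idx M : ℝ) * U := mul_le_mul_of_nonneg_left hgain hi0.le
      _ = U * idx M := by ring
  have h2 := lt_of_le_of_lt (add_le_add le_rfl h') h
  set T := psiZero N K1 (Ψ φ₀) + (Nat.card N : ℝ) - Nat.card K1 * (idx N : ℝ) ^ 2 -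
    2 * idx N * Nat.card K1 * α +
    ∑ v ∈ Finset.univ.filter (fun v : N => v ∈ core N ∧ (v : G) ∉ K1),
      ‖excess K1 Ψ φ₀ v‖ ^ 2 with hT
  have h3' := mul_lt_mul_of_pos_left h2 hN0
  rw [mul_add, ← mul_assoc, mul_inv_cancel₀ hN0.ne', one_mul, mul_one] at h3'
  rw [show gainConst p * μ ^ 2 * (Nat.card N) / (idx M : ℝ) =
    (Nat.card N : ℝ) * (gainConst p * μ ^ 2 / idx M) by ring]
  linarith

end Cfsg.Agent.OddCharTwelve
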