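import Cfsg.Agent.OddCharTwelve.Norms
import Cfsg.Agent.OddLocal.NilpotentPrimeAction

/-!
# The lower bounds that refute the configuration
-/

set_option autoImplicit false
set_option linter.unusedSectionVars false
set_option linter.style.haveILetI false

namespace Cfsg.Agent.OddCharTwelve

open Subgroup Cfsg
open scoped commutatorElement ComplexConjugate

universe u

variable {G : Type u} [Group G]

/-- The part `Q` of `K₁` prime to `p`. -/
structure Shape (N O P Q : Subgroup G) (p e : ℕ) : Prop where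
  le_O : Q ≤ O
  le_derK : Q ≤ derK N
  card : Nat.card (derK N) = Nat.card Q * Nat.card ↥⁅P, P⁆
  comm : ∀ u ∈ Q, ∀ v ∈ Q, Commute u v
  normal : N ≤ normalizer (Q : Set G)
  cent : ⁅P, P⁆ ≤ centralizer (Q : Set G)
  fixedP : Q ⊓ centralizer (P : Set G) = ⊥
  orbit : P ⊓ centralizer (Q : Set G) ≤ ⁅P, P⁆ → ∀ θ : ↥Q →* ℂˣ, θ ≠ 1 →
    ∃ B : Finset (↥Q →* ℂˣ), p * e ≤ B.card ∧ ∀ φ ∈ B, ∃ n : N,
      φ = θ.comp (OddLocal.NilpotentPrimeAction.conjHom normal n).toMonoidHom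

theorem gainConst_ge {p : ℕ} [hp : Fact p.Prime] (h : p ≠ 2) : (6 : ℝ) / 7 ≤ gainConst p := by
  have h3 : (3 : ℝ) ≤ p := by
    have := hp.out.two_le
    exact_mod_cast (show 3 ≤ p by omega)
  rw [gainConst, div_le_div_iff₀ (by norm_num) (by positivity)]
  linarith

theorem card_between [Finite G] {p : ℕ} [hp : Fact p.Prime] {P R T : Subgroup G} (hPp : IsPGroup p P)
    (hT : T < R) (hR : R ≤ P) : p * Nat.card T ≤ Nat.card R := by
  obtain ⟨i, hi⟩ := IsPGroup.iff_card.1 (hPp.to_le (hT.le.trans hR))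
  obtain ⟨j, hj⟩ := IsPGroup.iff_card.1 (hPp.to_le hR)
  have hlt : Nat.card T < Nat.card R := lt_of_le_of_ne
    (Nat.le_of_dvd Nat.card_pos (card_dvd_of_le hT.le))
    fun h => hT.ne (eq_of_le_of_card_ge hT.le h.ge)
  rw [hi, hj] at hlt ⊢
  rw [← pow_succ']
  exact Nat.pow_le_pow_right hp.out.pos ((Nat.pow_lt_pow_iff_right hp.out.one_lt).1 hlt)

variable [Fintype G] {M N E A W O P Q : Subgroup G} {p : ℕ} [hp : Fact p.Prime]
  {x a : G} [Fintype N] [Fintype (core N)]
  {Ψ : (↥N → ℂ) → G → ℂ} {φ₀ : ↥N → ℂ} {F : core N → ℤ}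
  (S : Setting M N E A p x a) (V : Vals N p Ψ φ₀ F)

open scoped _root_.Classical in
/-- The contribution of an element `v w`. -/
noncomputable def pieceVal (N P : Subgroup G) [Fintype N] (Ψ : (↥N → ℂ) → G → ℂ) (φ₀ : ↥N → ℂ)
    (F : core N → ℤ) (u : core N) (v : P) : ℝ :=
  if (v : G) ∈ ⁅P, P⁆ then (hval F u : ℝ) ^ 2 else ‖excess (derK N) Ψ φ₀ (u : N)‖ ^ 2

include S V

theorem Setting.false_of_full [Fintype M] [Fintype (core M)] (hW : IsComplIn W (sigmaCore N) N)
    (hO : IsPCompl N O p) (hP : IsSyl N P p) (he : 2 * Nat.card W ≤ p + 1)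
    (h3 : 3 ≤ Nat.card W) (hEK : E ≤ sigmaCore N) (hEx : E ≤ centralizer ({x} : Set G))
    (hfree : derK N ⊓ centralizer ({x} : Set G) = ⊥) : False := by
  classical
  set C := centralizer ({x} : Set G) with hC
  set n := C.relIndex (sigmaCore N) with hn
  have hxσ := S.A_le S.mem_A
  have hEn : Nat.card E ≤ Nat.card ↥(sigmaCore N ⊓ C) :=
    Nat.le_of_dvd Nat.card_pos (card_dvd_of_le (le_inf hEK hEx))
  have hcardC : Nat.card ↥(sigmaCore N ⊓ C) * n = Nat.card (sigmaCore N) := by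
    rw [hn, ← inf_relIndex_right, inf_comm]
    exact Coprime.card_mul_relIndex_of_le inf_le_right
  have hN : Nat.card N = Nat.card W * Nat.card (sigmaCore N) := by
    rw [card_eq (N := N), card_core, idx_eq_card_compl hW]
  have hr : Nat.card W * n * Nat.card E ≤ Nat.card N := by
    rw [hN, ← hcardC, mul_assoc]
    exact Nat.mul_le_mul_left _ (by rw [mul_comm]; exact Nat.mul_le_mul_right _ hEn)
  obtain ⟨ha, hlt⟩ := S.reduced V hW hO hP he hr
  have hkn : Nat.card (derK N) ≤ n := by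
    have h1 : C.relIndex (derK N) = Nat.card (derK N) := by
      rw [← inf_relIndex_right, inf_comm, hfree, relIndex_bot_left]
    rw [← h1]
    exact relIndex_le_of_le_right (derK_le N) Subgroup.index_ne_zero_of_finite
  -- the coset of `x`
  have hs := V.images.side
  haveI := hs.cut_normal
  set v : core N := toCore N ⟨x, hxσ⟩ with hv
  have hvnot : v ∉ cut N (derK N) := fun h => S.x_not_derK h
  have hconst : ∀ m ∈ Finset.univ.filter (· ∈ cut N (derK N)),
      rho N (Ψ φ₀) (((v * m : core N) : N) : G) = rho N (Ψ φ₀) x := by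
    set T := Finset.univ.filter (· ∈ cut N (derK N)) with hT
    set g : core N → core N := fun u => v⁻¹ * (u * v * u⁻¹) with hg
    have hmaps : ∀ u ∈ T, g u ∈ T := fun u hu => by
      have hu' := (Finset.mem_filter.1 hu).2
      refine Finset.mem_filter.2 ⟨Finset.mem_univ _, ?_⟩
      show v⁻¹ * (u * v * u⁻¹) ∈ cut N (derK N)
      rw [show v⁻¹ * (u * v * u⁻¹) = (v⁻¹ * u * v) * u⁻¹ by group]
      exact mul_mem ((inferInstance : (cut N (derK N)).Normal).conj_mem' u hu' v) (inv_mem hu')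
    have hinj : Set.InjOn g T := fun u hu w hw e => by
      have h1 := mul_left_cancel e
      have h2 : Commute (w⁻¹ * u) v := by
        show w⁻¹ * u * v = v * (w⁻¹ * u)
        calc w⁻¹ * u * v = w⁻¹ * (u * v * u⁻¹) * u := by group
          _ = w⁻¹ * (w * v * w⁻¹) * u := by rw [h1]
          _ = v * (w⁻¹ * u) := by group
      have h3 : (((w⁻¹ * u : core N) : N) : G) ∈ derK N ⊓ C :=
        ⟨mem_cut.1 (mul_mem (inv_mem (Finset.mem_filter.1 hw).2) (Finset.mem_filter.1 hu).2),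
          mem_centralizer_singleton_iff.2 (congrArg (fun t : core N => ((t : N) : G)) h2.eq)⟩
      rw [hfree, mem_bot] at h3
      exact (inv_mul_eq_one.1 (Subtype.ext (Subtype.ext h3))).symm
    have himg : T.image g = T := Finset.eq_of_subset_of_card_le
      (fun m hm => by
        obtain ⟨u, hu, rfl⟩ := Finset.mem_image.1 hm
        exact hmaps u hu) (Finset.card_image_of_injOn hinj).ge
    intro m hm
    rw [← himg] at hm
    obtain ⟨u, -, rfl⟩ := Finset.mem_image.1 hm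
    rw [hg, mul_inv_cancel_left]
    exact rho_conj S.minSimple S.coatomN (Char.IsGen.isClassFunction (V.images.gen _ V.mem))
      (m := ((u : N) : G)) (g := x) (u : N).2 hxσ
  have hsum := V.images.coset_sum V.mem ha hvnot
  rw [Finset.sum_congr rfl hconst, Finset.sum_const, nsmul_eq_mul, ← Fintype.card_subtype,
    ← Nat.card_eq_fintype_card,
    show Nat.card {t // t ∈ cut N (derK N)} = Nat.card (derK N) from card_cut (derK_le N),
    Int.cast_zero, add_zero] at hsum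
  have hrho := mul_left_cancel₀ (Nat.cast_ne_zero.2 Nat.card_pos.ne') hsum
  have hd : (p : ℤ) ∣ hval F 1 - (Nat.card W : ℤ) := by
    refine dvd_of_cong ((S.cong_x V).symm.trans ?_)
    rw [hrho]
    have hvp : orderOf (v : N) = p := by
      rw [← orderOf_coe]; exact orderOf_eq_prime S.pair.pow S.pair.ne
    have h := cong_mul (hs.gen V.mem) (x := (v : N)) (y := 1) hvp (by simp)
    rw [mul_one, hs.apply_one V.mem, idx_eq_card_compl hW] at h
    simpa using h
  have hdist := pred_le_pdist (p := p) he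
  rw [pdist_congr hd] at hdist
  set e : ℝ := (Nat.card W : ℝ) with hedef
  have he3 : (3 : ℝ) ≤ e := by rw [hedef]; exact_mod_cast h3
  have hd1 : e - 1 ≤ (pdist p (hval F 1) : ℝ) := by
    have : (Nat.card W : ℝ) ≤ (pdist p (hval F 1) : ℝ) + 1 := by
      exact_mod_cast Nat.le_add_of_sub_le hdist
    linarith
  have hc : (6 : ℝ) / 7 ≤ gainConst p := gainConst_ge S.p_odd
  have hX : 0 ≤ offSum N Ψ φ₀ := offSum_nonneg
  have hψ : 0 ≤ psiZero N (derK N) (Ψ φ₀) := Finset.sum_nonneg fun t _ => sq_nonneg _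
  have hkn' : (Nat.card (derK N) : ℝ) ≤ n := by exact_mod_cast hkn
  have hk0 : (0 : ℝ) < Nat.card (derK N) := Nat.cast_pos.2 Nat.card_pos
  have h5 : e * (e * (Nat.card (derK N) : ℝ)) ≤
      gainConst p * (pdist p (hval F 1) : ℝ) ^ 2 * (e * n) := by
    refine mul_le_mul ?_ (mul_le_mul_of_nonneg_left hkn' (by linarith)) (by positivity)
      (mul_nonneg (by linarith) (sq_nonneg _))
    calc e ≤ 6 / 7 * (e - 1) ^ 2 := by nlinarith
      _ ≤ _ := mul_le_mul hc (pow_le_pow_left₀ (by linarith) hd1 2) (sq_nonneg _) (by linarith)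
  rw [← hn] at hlt
  nlinarith

open scoped _root_.Classical in
/-- The total over `P Q`. -/
theorem Setting.sum_piece (hO : IsPCompl N O p) (hP : IsSyl N P p) (hQO : Q ≤ O)
    (hQK : Q ≤ derK N) (g : P → Q → core N)
    (hg : ∀ v w, ((g v w : N) : G) = (v : G) * (w : G)) :
    (∑ w : Q, ∑ v : P, pieceVal N P Ψ φ₀ F (g v w) v) - pieceVal N P Ψ φ₀ F (g 1 1) 1 ≤
      psiZero N (derK N) (Ψ φ₀) + offSum N Ψ φ₀ := by
  have hinj : ∀ v v' : P, ∀ w w' : Q, g v w = g v' w' → v = v' ∧ w = w' := by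
    intro v v' w w' e
    have e' : (v : G) * w = (v' : G) * w' := by rw [← hg, ← hg, e]
    have h1 : (v' : G)⁻¹ * v = (w' : G) * (w : G)⁻¹ := by
      rw [eq_mul_inv_iff_mul_eq, mul_assoc, e', inv_mul_cancel_left]
    have h2 : (v' : G)⁻¹ * v ∈ O ⊓ P :=
      ⟨h1 ▸ hQO (Q.mul_mem w'.2 (Q.inv_mem w.2)), P.mul_mem (P.inv_mem v'.2) v.2⟩
    rw [hO.inf_syl hP, mem_bot, inv_mul_eq_one] at h2
    obtain rfl : v' = v := Subtype.ext h2
    exact ⟨rfl, Subtype.ext (mul_left_cancel e')⟩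
  have hoff : ∀ (v : P) (w : Q), (v : G) ∉ ⁅P, P⁆ → ((g v w : N) : G) ∉ derK N := by
    intro v w hv h
    rw [hg] at h
    have : (v : G) ∈ derK N ⊓ P :=
      ⟨by simpa using (derK N).mul_mem h ((derK N).inv_mem (hQK w.2)), v.2⟩
    rw [hO.derK_inf_syl hP] at this
    exact hv this
  set U := (Finset.univ : Finset (Q × P)).erase (1, 1) with hU
  have htot : (∑ w : Q, ∑ v : P, pieceVal N P Ψ φ₀ F (g v w) v) -
      pieceVal N P Ψ φ₀ F (g 1 1) 1 = ∑ t ∈ U, pieceVal N P Ψ φ₀ F (g t.2 t.1) t.2 := by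
    rw [hU, Finset.sum_erase_eq_sub (Finset.mem_univ _), Fintype.sum_prod_type]
  rw [htot, ← Finset.sum_filter_add_sum_filter_not U (fun t : Q × P => (t.2 : G) ∈ ⁅P, P⁆)]
  refine add_le_add ?_ ?_
  · refine le_trans (le_of_eq (Finset.sum_congr rfl (g := fun t : Q × P => (hval F (g t.2 t.1) : ℝ) ^ 2)
      fun t ht => if_pos (Finset.mem_filter.1 ht).2)) ?_
    refine Vals.sum_le_psiZero (ι := Q × P) (Ψ := Ψ) (φ₀ := φ₀) (F := F) V S
      (U.filter fun t : Q × P => (t.2 : G) ∈ ⁅P, P⁆) (fun t : Q × P => g t.2 t.1)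
      (fun t _ t' _ e => ?_) fun t ht => ?_
    · obtain ⟨h1, h2⟩ := hinj _ _ _ _ e
      exact Prod.ext h2 h1
    · obtain ⟨htU, htP⟩ := Finset.mem_filter.1 ht
      refine ⟨hg t.2 t.1 ▸ mul_mem (commutator_mono hP.1 hP.1 htP) (hQK t.1.2), fun e => ?_⟩
      refine (Finset.mem_erase.1 htU).1 ?_
      have h0 : g 1 1 = 1 := Subtype.ext (Subtype.ext (by rw [hg]; simp))
      obtain ⟨h1, h2⟩ := hinj _ _ _ _ (e.trans h0.symm)
      exact Prod.ext h2 h1
  · refine le_trans (le_of_eq (Finset.sum_congr rfl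
      (g := fun t : Q × P => ‖excess (derK N) Ψ φ₀ (g t.2 t.1 : N)‖ ^ 2)
      fun t ht => if_neg (Finset.mem_filter.1 ht).2)) ?_
    refine sum_le_offSum (ι := Q × P) (Ψ := Ψ) (φ₀ := φ₀)
      (U.filter fun t : Q × P => ¬ (t.2 : G) ∈ ⁅P, P⁆) (fun t : Q × P => g t.2 t.1)
      (fun t _ t' _ e => ?_) fun t ht => ?_
    · obtain ⟨h1, h2⟩ := hinj _ _ _ _ e
      exact Prod.ext h2 h1
    · exact hoff _ _ (Finset.mem_filter.1 ht).2

open scoped _root_.Classical in
/-- The `p`-part of the sum. -/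
theorem Setting.p_part (hO : IsPCompl N O p) (hP : IsSyl N P p) (g : P → core N)
    (hg : ∀ v, ((g v : N) : G) = (v : G)) :
    ((Nat.card ↥⁅P, P⁆ : ℝ) - 1) * (pdist p (hval F 1) : ℝ) ^ 2 +
        ((p : ℝ) ^ 2 - 1) * Nat.card ↥⁅P, P⁆ * (pdist p (F 1) : ℝ) ^ 2 ≤
      (∑ v : P, pieceVal N P Ψ φ₀ F (g v) v) - pieceVal N P Ψ φ₀ F (g 1) 1 := by
  have hpow : ∀ v : P, ∃ k, (g v) ^ p ^ k = 1 := fun v => by
    obtain ⟨k, hk⟩ := hP.isPGroup v
    exact ⟨k, Subtype.ext (Subtype.ext (by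
      simpa [hg] using congrArg Subtype.val hk))⟩
  set T1 := Finset.univ.filter (fun v : P => (v : G) ∈ ⁅P, P⁆) with hT1
  set T2 := Finset.univ.filter (fun v : P => ¬ (v : G) ∈ ⁅P, P⁆) with hT2
  have h1mem : (1 : P) ∈ T1 := Finset.mem_filter.2 ⟨Finset.mem_univ _, by simp⟩
  have hc1 : T1.card = Nat.card ↥⁅P, P⁆ := by
    rw [hT1, ← Fintype.card_subtype, ← Nat.card_eq_fintype_card]
    exact Nat.card_congr (Subgroup.subgroupOfEquivOfLe (commutator_le_self P)).toEquiv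
  have hc2 : ((p : ℝ) ^ 2 - 1) * Nat.card ↥⁅P, P⁆ ≤ (T2.card : ℝ) := by
    have h1 : T1.card + T2.card = Nat.card P := by
      rw [hT1, hT2, Finset.card_filter_add_card_filter_not, Finset.card_univ,
        Nat.card_eq_fintype_card]
    have h2 : p ^ 2 * Nat.card ↥⁅P, P⁆ ≤ Nat.card P := by
      rw [← Coprime.card_mul_relIndex_of_le (commutator_le_self P), mul_comm]
      exact Nat.mul_le_mul_left _ (S.sq_le_relIndex hP)
    have h3 : (p : ℝ) ^ 2 * Nat.card ↥⁅P, P⁆ ≤ (T1.card : ℝ) + T2.card := by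
      exact_mod_cast h1 ▸ h2
    rw [hc1] at h3
    linarith
  rw [← Finset.sum_filter_add_sum_filter_not Finset.univ (fun v : P => (v : G) ∈ ⁅P, P⁆),
    ← hT1, ← hT2, ← Finset.add_sum_erase _ _ h1mem, add_comm (pieceVal N P Ψ φ₀ F (g 1) 1),
    add_right_comm, add_sub_cancel_right]
  refine add_le_add ?_ ?_
  · calc ((Nat.card ↥⁅P, P⁆ : ℝ) - 1) * (pdist p (hval F 1) : ℝ) ^ 2
        = ∑ _v ∈ T1.erase 1, (pdist p (hval F 1) : ℝ) ^ 2 := by
          rw [Finset.sum_const, nsmul_eq_mul, Finset.card_erase_of_mem h1mem, hc1,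
            Nat.cast_sub (Nat.card_pos), Nat.cast_one]
      _ ≤ _ := Finset.sum_le_sum fun v hv => by
          rw [pieceVal, if_pos (Finset.mem_filter.1 (Finset.mem_erase.1 hv).2).2]
          refine pdist_sq_le ?_
          obtain ⟨k, hk⟩ := hpow v
          have h := V.hval_cong (v := g v) (k := k)
          rw [hk] at h
          rw [show hval F (g v) - hval F 1 = -(hval F 1 - hval F (g v)) by ring]
          exact dvd_neg.2 h
  · calc ((p : ℝ) ^ 2 - 1) * Nat.card ↥⁅P, P⁆ * (pdist p (F 1) : ℝ) ^ 2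
        ≤ (T2.card : ℝ) * (pdist p (F 1) : ℝ) ^ 2 :=
          mul_le_mul_of_nonneg_right hc2 (sq_nonneg _)
      _ = ∑ _v ∈ T2, (pdist p (F 1) : ℝ) ^ 2 := by rw [Finset.sum_const, nsmul_eq_mul]
      _ ≤ _ := Finset.sum_le_sum fun v hv => by
          have hv' := (Finset.mem_filter.1 hv).2
          rw [pieceVal, if_neg hv']
          obtain ⟨k, hk⟩ := hpow v
          obtain ⟨z, hz, hzd⟩ := S.excess_pElt V (g v) (fun h => hv' (by
            rw [← hO.derK_inf_syl hP]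
            exact ⟨hg v ▸ h, v.2⟩)) hk
          rw [hz, Coherence.norm_intCast_sq]
          exact pdist_sq_le hzd

theorem Setting.false_of_small [Fintype M] [Fintype (core M)] (hW : IsComplIn W (sigmaCore N) N)
    (hO : IsPCompl N O p) (hP : IsSyl N P p) (he : 2 * Nat.card W ≤ p + 1)
    (h3 : 3 ≤ Nat.card W) (hk : Nat.card (derK N) = p) (hP' : Nat.card ↥⁅P, P⁆ = p)
    (hn : p ≤ (centralizer ({x} : Set G)).relIndex (sigmaCore N))
    (hr : Nat.card W * (centralizer ({x} : Set G)).relIndex (sigmaCore N) * Nat.card E ≤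
      Nat.card N) : False := by
  classical
  obtain ⟨-, hlt⟩ := S.reduced V hW hO hP he hr
  let g : P → core N := fun v => toCore N ⟨v, hP.1 v.2⟩
  have h1 := S.p_part V hO hP g fun v => rfl
  let Qb : Subgroup G := ⊥
  have h2 := S.sum_piece V hO hP (Q := Qb) bot_le bot_le
    (fun v w => toCore N ⟨(v : G) * (w : G), mul_mem (hP.1 v.2)
      ((bot_le : Qb ≤ sigmaCore N) w.2)⟩) fun v w => rfl
  rw [Finset.sum_eq_single (1 : Qb) (fun b _ hb => absurd (Subtype.ext (mem_bot.1 b.2)) hb)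
    (fun h => absurd (by simp; exact Subsingleton.elim _ _) h)] at h2
  have hfun : ∀ v : P, toCore N ⟨(v : G) * ((1 : Qb) : G), mul_mem (hP.1 v.2)
      ((bot_le : Qb ≤ sigmaCore N) (1 : Qb).2)⟩ = g v :=
    fun v => congrArg (toCore N) (Subtype.ext (mul_one _))
  simp only [hfun] at h2
  rw [hP'] at h1
  rw [hk] at hlt
  set n : ℝ := ((centralizer ({x} : Set G)).relIndex (sigmaCore N) : ℝ) with hndef
  have hn' : (p : ℝ) ≤ n := by rw [hndef]; exact_mod_cast hn
  have he' : 2 * (Nat.card W : ℝ) ≤ p + 1 := by exact_mod_cast he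
  have h3' : (3 : ℝ) ≤ Nat.card W := by exact_mod_cast h3
  have hp1 : (1 : ℝ) ≤ p := by exact_mod_cast hp.out.one_le
  have hg : (6 : ℝ) / 7 ≤ gainConst p := gainConst_ge S.p_odd
  set e : ℝ := (Nat.card W : ℝ) with hedef
  rcases Nat.eq_zero_or_pos (pdist p (F 1)) with h0 | h0
  · have hd : (p : ℤ) ∣ hval F 1 - (Nat.card W : ℤ) := by
      rw [hval, idx_eq_card_compl hW, add_sub_cancel_left]
      rw [pdist, Int.natAbs_eq_zero, ZMod.valMinAbs_eq_zero] at h0
      exact (ZMod.intCast_zmod_eq_zero_iff_dvd _ p).1 h0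
    have hdist := pred_le_pdist (p := p) he
    rw [pdist_congr hd] at hdist
    have hd1 : e - 1 ≤ (pdist p (hval F 1) : ℝ) := by
      have : (Nat.card W : ℝ) ≤ (pdist p (hval F 1) : ℝ) + 1 := by
        exact_mod_cast Nat.le_add_of_sub_le hdist
      linarith
    have h4 : e * (e * (p : ℝ)) ≤ gainConst p * (pdist p (hval F 1) : ℝ) ^ 2 * (e * n) := by
      refine mul_le_mul ?_ (mul_le_mul_of_nonneg_left hn' (by linarith)) (by positivity)
        (mul_nonneg (by linarith) (sq_nonneg _))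
      calc e ≤ 6 / 7 * (e - 1) ^ 2 := by nlinarith
        _ ≤ _ := mul_le_mul hg (pow_le_pow_left₀ (by linarith) hd1 2) (sq_nonneg _) (by linarith)
    have h5 : 0 ≤ ((p : ℝ) - 1) * (pdist p (hval F 1) : ℝ) ^ 2 :=
      mul_nonneg (by linarith) (sq_nonneg _)
    rw [h0] at h1
    simp only [Nat.cast_zero, ne_eq, OfNat.ofNat_ne_zero, not_false_eq_true, zero_pow,
      mul_zero, add_zero] at h1
    nlinarith
  · have h1' : (1 : ℝ) ≤ (pdist p (F 1) : ℝ) ^ 2 := one_le_pow₀ (by exact_mod_cast h0)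
    have h6 : ((p : ℝ) ^ 2 - 1) * p ≤ ((p : ℝ) ^ 2 - 1) * p * (pdist p (F 1) : ℝ) ^ 2 :=
      le_mul_of_one_le_right (mul_nonneg (by nlinarith) (by linarith)) h1'
    have h7 : (p : ℝ) * e ^ 2 ≤ ((p : ℝ) ^ 2 - 1) * p := by
      rw [mul_comm _ (p : ℝ)]
      exact mul_le_mul_of_nonneg_left (by nlinarith) (by linarith)
    have h8 : 0 ≤ gainConst p * (pdist p (hval F 1) : ℝ) ^ 2 * (e * n) :=
      mul_nonneg (mul_nonneg (by linarith) (sq_nonneg _)) (by nlinarith)
    have h5 : 0 ≤ ((p : ℝ) - 1) * (pdist p (hval F 1) : ℝ) ^ 2 :=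
      mul_nonneg (by linarith) (sq_nonneg _)
    linarith

end Cfsg.Agent.OddCharTwelve
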