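import Mathlib
import Cfsg.Agent.Coprime.Basic

/-!
# The commutator pairing of a group of class two, and other generalities
-/

set_option autoImplicit false

namespace Cfsg.Agent.OddCharTwelve

open Subgroup
open scoped commutatorElement

universe u

/-- The images of a pairing are few. -/
theorem card_le_of_pairing {A B : Type*} [Group A] [Group B] [Finite A] [Finite B]
    (f : A →* (B →* ℂˣ)) (T : Subgroup B) [T.Normal] (hT : ∀ a, ∀ t ∈ T, f a t = 1) :
    f.ker.index ≤ T.index := by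
  rw [index_ker, index_eq_card]
  let χ : f.range → (B ⧸ T →* ℂ) := fun φ => QuotientGroup.lift T ((Units.coeHom ℂ).comp φ.1)
    fun t ht => by
      obtain ⟨_, a, rfl⟩ := φ
      simp [MonoidHom.mem_ker, hT a t ht]
  have hinj : Function.Injective χ := fun φ ψ e => Subtype.ext (MonoidHom.ext fun b =>
    Units.ext (DFunLike.congr_fun e (QuotientGroup.mk b)))
  have := Fintype.ofFinite (B ⧸ T)
  have := Fintype.ofFinite f.range
  have h := ((linearIndependent_monoidHom (B ⧸ T) ℂ).comp χ hinj).fintype_card_le_finrank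
  rwa [Module.finrank_fintype_fun_eq_card, ← Nat.card_eq_fintype_card,
    ← Nat.card_eq_fintype_card] at h

/-- A group of class at most two with cyclic centre has square index over its centre. -/
theorem index_center_isSquare {E : Type*} [Group E] [Finite E]
    (hcl : ∀ g e : E, ⁅g, e⁆ ∈ center E) [IsCyclic (center E)] :
    IsSquare (center E).index := by
  classical
  obtain ⟨ι, hι⟩ : ∃ ι : center E →* ℂˣ, Function.Injective ι := by
    haveI : NeZero (Nat.card (center E)) := ⟨Nat.card_pos.ne'⟩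
    let e : center E ≃* rootsOfUnity (Nat.card (center E)) ℂ :=
      mulEquivOfCyclicCardEq (Complex.card_rootsOfUnity _).symm
    exact ⟨(rootsOfUnity (Nat.card (center E)) ℂ).subtype.comp e.toMonoidHom,
      Subtype.val_injective.comp e.injective⟩
  have hr : ∀ g a b : E, ⁅g, a * b⁆ = ⁅g, a⁆ * ⁅g, b⁆ := fun g a b => by
    have h1 : ⁅g, a * b⁆ = ⁅g, a⁆ * (a * ⁅g, b⁆ * a⁻¹) := by
      simp only [commutatorElement_def]; group
    rw [h1, mem_center_iff.1 (hcl g b) a, mul_inv_cancel_right]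
  have hl : ∀ g h a : E, ⁅g * h, a⁆ = ⁅g, a⁆ * ⁅h, a⁆ := fun g h a => by
    have h1 : ⁅g * h, a⁆ = g * ⁅h, a⁆ * g⁻¹ * ⁅g, a⁆ := by
      simp only [commutatorElement_def]; group
    rw [h1, mem_center_iff.1 (hcl h a) g, mul_inv_cancel_right,
      mem_center_iff.1 (hcl g a) ⁅h, a⁆]
  let β : E →* (E →* ℂˣ) := MonoidHom.mk'
    (fun g => MonoidHom.mk' (fun a => ι ⟨⁅g, a⁆, hcl g a⟩) fun a b => by
      rw [← map_mul]; exact congrArg ι (Subtype.ext (hr g a b)))
    fun g h => MonoidHom.ext fun a => by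
      show ι _ = ι _ * ι _
      rw [← map_mul]; exact congrArg ι (Subtype.ext (hl g h a))
  have hβ : ∀ g a : E, β g a = 1 ↔ Commute g a := fun g a => by
    show ι ⟨⁅g, a⁆, hcl g a⟩ = 1 ↔ _
    rw [← commutatorElement_eq_one_iff_commute]
    exact ⟨fun h => congrArg Subtype.val (hι (h.trans (map_one ι).symm)), fun h => by
      rw [show (⟨⁅g, a⁆, hcl g a⟩ : center E) = 1 from Subtype.ext h, map_one]⟩
  -- a maximal abelian subgroup
  obtain ⟨A, ⟨hZA, hAc⟩, hAmax⟩ : ∃ A : Subgroup E,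
      (center E ≤ A ∧ ∀ a ∈ A, ∀ b ∈ A, Commute a b) ∧ ∀ B : Subgroup E,
        (center E ≤ B ∧ ∀ a ∈ B, ∀ b ∈ B, Commute a b) → A ≤ B → B ≤ A := by
    obtain ⟨A, hA⟩ := (Set.toFinite
      {A : Subgroup E | center E ≤ A ∧ ∀ a ∈ A, ∀ b ∈ A, Commute a b}).exists_maximal
      ⟨center E, le_rfl, fun a ha b _ => (mem_center_iff.1 ha b).symm⟩
    exact ⟨A, hA.1, fun B hB h => hA.2 hB h⟩
  have hAn : A.Normal := ⟨fun a ha g => by
    have := A.mul_mem (hZA (hcl g a)) ha
    simpa [commutatorElement_def] using this⟩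
  have hself : ∀ g : E, (∀ a ∈ A, Commute g a) → g ∈ A := by
    intro g hg
    let B := closure (insert g (A : Set E))
    have hB : ∀ a ∈ B, ∀ b ∈ B, Commute a b := by
      have := isMulCommutative_closure (k := insert g (A : Set E)) (by
        rintro a (rfl | ha) b (rfl | hb)
        · exact rfl
        · exact (hg b hb).eq
        · exact (hg a ha).symm.eq
        · exact (hAc a ha b hb).eq)
      exact fun a ha b hb => congrArg Subtype.val (mul_comm' (⟨a, ha⟩ : B) ⟨b, hb⟩)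
    have hAB : A ≤ B := fun a ha => subset_closure (Set.mem_insert_of_mem g ha)
    exact hAmax B ⟨hZA.trans hAB, hB⟩ hAB (subset_closure (Set.mem_insert g _))
  let f₁ : E →* (A →* ℂˣ) := MonoidHom.mk' (fun g => (β g).comp A.subtype)
    fun g h => MonoidHom.ext fun a => by simp
  have hker₁ : f₁.ker = A := by
    ext g
    rw [MonoidHom.mem_ker]
    constructor
    · exact fun h => hself g fun a ha => (hβ g a).1 (DFunLike.congr_fun h ⟨a, ha⟩)
    · exact fun hg => MonoidHom.ext fun a => (hβ g a).2 (hAc g hg a a.2)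
  let f₂ : A →* (E →* ℂˣ) := β.comp A.subtype
  have hker₂ : f₂.ker = (center E).subgroupOf A := by
    ext a
    rw [MonoidHom.mem_ker, mem_subgroupOf, mem_center_iff]
    constructor
    · exact fun h g => ((hβ a g).1 (DFunLike.congr_fun h g)).eq.symm
    · exact fun h => MonoidHom.ext fun g => (hβ a g).2 (h g).symm
  have h1 : A.index ≤ (center E).relIndex A := by
    have := card_le_of_pairing f₁ ((center E).subgroupOf A) fun g t ht =>
      (hβ g t).2 (mem_center_iff.1 ht g)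
    rwa [hker₁] at this
  have h2 : (center E).relIndex A ≤ A.index := by
    have := card_le_of_pairing f₂ A fun a t ht => (hβ a t).2 (hAc a a.2 t ht)
    rwa [hker₂] at this
  refine ⟨A.index, ?_⟩
  rw [← relIndex_mul_index hZA, le_antisymm h2 h1]

variable {G : Type u} [Group G] [Finite G]

/-- A derived subgroup centralises a normal cyclic subgroup. -/
theorem commutator_le_centralizer_cyclic {X Y : Subgroup G} (hXY : X ≤ normalizer (Y : Set G))
    [IsCyclic Y] : ⁅X, X⁆ ≤ centralizer (Y : Set G) := by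
  rw [commutator_le]
  intro g hg h hh
  rw [mem_centralizer_iff]
  intro y hy
  let c : X →* MulAut Y := Y.normalizerMonoidHom.comp (inclusion hXY)
  have hc : ∀ u v : MulAut Y, u * v = v * u := fun u v => by
    apply (IsCyclic.mulAutMulEquiv Y).injective
    rw [map_mul, map_mul, mul_comm]
  have h1 : c ⁅(⟨g, hg⟩ : X), ⟨h, hh⟩⁆ = 1 := by
    rw [map_commutatorElement, commutatorElement_eq_one_iff_commute]
    exact hc _ _
  have h2 := congrArg (fun t : MulAut Y => (t ⟨y, hy⟩ : G)) h1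
  change ⁅g, h⁆ * y * ⁅g, h⁆⁻¹ = y at h2
  exact (mul_inv_eq_iff_eq_mul.1 h2).symm

/-- `[A B, A B] ≤ [A, B] [B, B]` for an abelian `A` normalised by `B`. -/
theorem commutator_sup_le_sup {A B : Subgroup G} (hn : B ≤ normalizer (A : Set G))
    (hA : ∀ u ∈ A, ∀ v ∈ A, Commute u v) :
    ⁅A ⊔ B, A ⊔ B⁆ ≤ ⁅A, B⁆ ⊔ ⁅B, B⁆ := by
  rw [commutator_le]
  intro x hx y hy
  obtain ⟨u, hu, k, hk, rfl⟩ := (Coprime.mem_sup_of_le_normalizer hn).mp hx
  obtain ⟨v, hv, l, hl, rfl⟩ := (Coprime.mem_sup_of_le_normalizer hn).mp hy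
  have hcl : ⁅k, l⁆ ∈ B := B.mul_mem (B.mul_mem (B.mul_mem hk hl) (B.inv_mem hk)) (B.inv_mem hl)
  have hmv : ∀ g ∈ B, ∀ a ∈ A, g * a * g⁻¹ ∈ A := fun g hg a ha =>
    (mem_normalizer_iff.mp (hn hg) a).mp ha
  have hd : ∀ a ∈ A, ∀ g ∈ B, a * (g * a⁻¹ * g⁻¹) ∈ ⁅A, B⁆ := fun a ha g hg => by
    have := commutator_mem_commutator ha hg
    simpa [commutatorElement_def, mul_assoc] using this
  set c := ⁅k, l⁆ with hc
  have hkl : k * l * k⁻¹ = c * l := by rw [hc, commutatorElement_def]; group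
  set b := c * (l * u⁻¹ * l⁻¹) * c⁻¹ with hb
  have hbA : b ∈ A := hmv c hcl _ (hmv l hl _ (A.inv_mem hu))
  have e1 : ⁅u * k, v * l⁆ = u * ((k * v * k⁻¹) * b) * (c * v⁻¹ * c⁻¹) * c := by
    calc ⁅u * k, v * l⁆ = u * (k * v * k⁻¹) * (k * l * k⁻¹) * u⁻¹ * l⁻¹ * v⁻¹ := by
          rw [commutatorElement_def]; group
      _ = _ := by rw [hkl, hb]; group
  rw [(hA _ (hmv k hk v hv) b hbA).eq] at e1
  have e2 : ⁅u * k, v * l⁆ = (u * b) * ((k * v * k⁻¹) * (c * v⁻¹ * c⁻¹)) * c := by
    rw [e1]; group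
  rw [e2]
  refine mul_mem (mem_sup_left (mul_mem ?_ ?_)) (mem_sup_right (commutator_mem_commutator hk hl))
  · have := hd u hu (c * l) (B.mul_mem hcl hl)
    rwa [hb, show c * (l * u⁻¹ * l⁻¹) * c⁻¹ = c * l * u⁻¹ * (c * l)⁻¹ by group]
  · have h1 : k * v * k⁻¹ * v⁻¹ ∈ ⁅A, B⁆ := by
      have := inv_mem (hd v hv k hk)
      simpa [mul_assoc] using this
    have := mul_mem h1 (hd v hv c hcl)
    simpa [mul_assoc] using this

end Cfsg.Agent.OddCharTwelve
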