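import Cfsg.Agent.OddCharTwelve.Bounds
import Cfsg.Agent.OddCharTwelve.Pairing
import Cfsg.Agent.OddLocal.FittingTI
import Cfsg.Agent.S1420

/-!
# The part of `N_σ'` prime to `p`
-/

set_option autoImplicit false
set_option linter.unusedSectionVars false
set_option linter.style.haveILetI false

namespace Cfsg.Agent.OddCharTwelve

open Subgroup Cfsg
open scoped commutatorElement

universe u

variable {G : Type u} [Group G] [Finite G] {M N E A W O P : Subgroup G} {p : ℕ} [hp : Fact p.Prime]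
  {x a : G} (S : Setting M N E A p x a)

include S

/-- A nilpotent `p'`-subgroup centralising `A` is abelian. -/
theorem Setting.comm_of_cent (hO : IsPCompl N O p) {Y : Subgroup G} (hY : Y ≤ O)
    (hn : Group.IsNilpotent Y) (hA : A ≤ centralizer (Y : Set G)) :
    ∀ u ∈ Y, ∀ v ∈ Y, Commute u v := by
  have hYE : Y ≤ E := fun y hy => (S.fixed_O hO).1 ⟨hY hy, mem_centralizer_singleton_iff.2
    (mem_centralizer_iff.1 (hA S.mem_A) y hy)⟩
  have hE := S.pair.compl.compl
  haveI := (S1420.result S.minSimple M S.coatomM E hE).1 Y (hYE.trans hE.1) hn fun r hr hd =>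
    OddLocal.compl_prime_not_sigma S.minSimple S.coatomM hE hr (hd.trans (card_dvd_of_le hYE))
  exact fun u hu v hv => setLike_mul_comm hu hv

/-- A subgroup of `E` of prime power order for an ideal prime is cyclic. -/
theorem Setting.isCyclic_of_ideal {r : ℕ} [hr : Fact r.Prime] (hid : IsIdealPrime r G)
    {Y : Subgroup G} (hYE : Y ≤ E) (hYr : IsPGroup r Y) : IsCyclic Y := by
  have hG := S.minSimple
  have hE := S.pair.compl.compl
  by_cases hd : r ∣ Nat.card Y
  · have hdE : r ∣ Nat.card E := hd.trans (card_dvd_of_le hYE)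
    have hσ := OddLocal.compl_prime_not_sigma hG S.coatomM hE hr.out hdE
    have hr2 : r ≠ 2 := fun e => hG.1.not_two_dvd_nat
      (e ▸ hd.trans (card_subgroup_dvd_card Y))
    rcases OddLocal.tau_of_not_sigma hG S.coatomM hσ (hdE.trans (card_dvd_of_le hE.1)) with
      h13 | h2
    · exact OddLocal.isCyclic_of_pRankLE_one hr2 hYr (OddLocal.pRankLE_of_injective
        (inclusion (hYE.trans hE.1)) (inclusion_injective _) (h13.elim (·.2.2.2.2) (·.2.2.2)))
    · exact absurd hid
        (OddLocal.not_isIdealPrime_of_not_sigma hG S.coatomM hσ h2.2.2.1 h2.2.2.2)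
  · obtain ⟨j, hj⟩ := IsPGroup.iff_card.1 hYr
    rcases j with _ | j
    · haveI : Subsingleton Y := Finite.card_le_one_iff_subsingleton.1 (by rw [hj, pow_zero])
      exact isCyclic_of_subsingleton
    · exact absurd (by rw [hj]; exact dvd_pow_self r j.succ_ne_zero) hd

/-- Elements of `O` and of `P` commute when `N_σ` is nilpotent. -/
theorem Setting.commute_O_syl (hO : IsPCompl N O p) (hP : IsSyl N P p) {Y : Subgroup G}
    (hY : Group.IsNilpotent Y) {u v : G} (hu : u ∈ Y) (huO : u ∈ O) (hv : v ∈ Y) (hvP : v ∈ P) :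
    Commute u v := by
  refine OddLocal.commute_of_mem hY hu hv ?_
  obtain ⟨j, hj⟩ := IsPGroup.iff_card.1 hP.isPGroup
  refine Nat.Coprime.coprime_dvd_left (Subgroup.orderOf_dvd_natCard _ huO) ?_
  refine Nat.Coprime.coprime_dvd_right (Subgroup.orderOf_dvd_natCard _ hvP) ?_
  rw [hj]
  exact ((hp.out.coprime_iff_not_dvd.2 hO.not_dvd).pow_left j).symm

/-- The nilpotent case. -/
theorem Setting.shape_nilpotent (hO : IsPCompl N O p) (hP : IsSyl N P p)
    (hn : Group.IsNilpotent (sigmaCore N)) (e : ℕ) :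
    Shape N O P ⊥ p e ∧ derK N = ⁅P, P⁆ := by
  have hAO : A ≤ centralizer (O : Set G) := fun b hb => by
    rw [mem_centralizer_iff]
    intro o ho
    obtain ⟨P₀, hAP, hP₀⟩ := exists_syl N A S.A_pgroup S.A_le
    exact (S.commute_O_syl hO hP₀ hn (hO.le ho) ho (hP₀.1 (hAP hb)) (hAP hb)).eq
  have hOab := S.comm_of_cent hO le_rfl (Core.isNilpotent_mono hn hO.le) hAO
  have hder : derK N = ⁅P, P⁆ := by
    refine le_antisymm ?_ (commutator_mono hP.1 hP.1)
    have h := commutator_sup_le_sup (A := O) (B := P) (hO.le_norm hP) hOab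
    rw [hO.sup_eq hP] at h
    refine h.trans (sup_le ?_ le_rfl)
    rw [commutator_le]
    intro o ho v hv
    rw [commutatorElement_eq_one_iff_commute.2
      (S.commute_O_syl hO hP hn (hO.le ho) ho (hP.1 hv) hv)]
    exact one_mem _
  refine ⟨{ le_O := bot_le, le_derK := bot_le, card := by rw [card_bot, one_mul, hder]
            comm := fun u hu v _ => by rw [mem_bot.1 hu]; exact Commute.one_left v
            normal := ?_, cent := fun v _ => ?_, fixedP := bot_inf_eq _
            orbit := fun _ θ hθ => absurd (MonoidHom.ext fun u => ?_) hθ }, hder⟩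
  · intro n _
    rw [mem_normalizer_iff]
    intro v
    simp [mem_bot, mul_inv_eq_one]
  · rw [mem_centralizer_iff]
    intro u hu
    rw [SetLike.mem_coe, mem_bot] at hu
    rw [hu, one_mul, mul_one]
  · rw [show u = 1 from Subtype.ext (mem_bot.1 u.2), map_one, MonoidHom.one_apply]

omit S

/-- An invariant complement of the normal Sylow subgroup with its Sylow `p`-subgroup. -/
structure CoreSyl (N W D P : Subgroup G) (p : ℕ) : Prop where
  compl : IsComplIn (OddLocal.coreSylow N W) D (sigmaCore N)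
  normD : W ≤ normalizer (D : Set G)
  syl : IsSyl N P p
  le : P ≤ D
  normW : W ≤ normalizer (P : Set G)
  D_norm : D ≤ normalizer (P : Set G)

variable (h : OddLocal.CoreData N W)

include S h

theorem Setting.q_ne : Nat.card (OddLocal.kStar N W) ≠ p := fun e => S.not_betaN (e ▸ h.mem_beta)

theorem Setting.coreSylow_le_O (hO : IsPCompl N O p) : OddLocal.coreSylow N W ≤ O := fun v hv => by
  haveI := Fact.mk h.prime
  refine hO.mem v (h.coreSylow_le_sigmaCore hv) ?_
  obtain ⟨j, hj⟩ := IsPGroup.iff_card.1 (OddLocal.coreSylow_isPGroup h)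
  refine Nat.Coprime.coprime_dvd_left (Subgroup.orderOf_dvd_natCard _ hv) ?_
  rw [hj]
  exact ((Nat.coprime_primes h.prime hp.out).2 (S.q_ne h)).pow_left j

theorem Setting.exists_coreSyl (hO : IsPCompl N O p) : ∃ D P, CoreSyl N W D P p := by
  haveI := Fact.mk h.prime
  obtain ⟨D, hD, hKD⟩ := h.exists_compl
  obtain ⟨hDn, -, hDhall⟩ := h.compl_facts hD
  obtain ⟨P, hPD, hWP⟩ := Coprime.exists_invariant_hall hKD
    (h.coprime.coprime_dvd_right (card_dvd_of_le hD.2.1))
    (Core.isSolvable_mono h.solvable_core hD.2.1) {p}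
  have hP : IsSyl N P p := by
    refine ⟨hPD.1.trans hD.2.1, hPD.2.1, fun r hr hrp hd => ?_⟩
    rw [← relIndex_mul_relIndex _ _ _ hPD.1 hD.2.1] at hd
    rcases hr.dvd_mul.1 hd with h1 | h1
    · exact hPD.2.2 r hr hrp h1
    · refine hDhall.2.2 r hr ?_ h1
      have hrp' : r = p := by simpa using hrp
      rw [hrp']
      exact (S.q_ne h).symm
  refine ⟨D, P, hD, hKD, hP, hPD.1, hWP, fun d hd => ?_⟩
  obtain ⟨o, ho, y, hy, rfl⟩ := hO.exists_mul hP (hD.2.1 hd)
  have hoD : o ∈ D := by simpa using D.mul_mem hd (D.inv_mem (hPD.1 hy))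
  refine mul_mem ?_ (Subgroup.le_normalizer hy)
  refine centralizer_le_normalizer _ (mem_centralizer_iff.2 fun v hv => ?_)
  exact (S.commute_O_syl hO hP hDn hoD ho (hPD.1 hv) hv).eq.symm

variable {D : Subgroup G} (hcs : CoreSyl N W D P p) (hO : IsPCompl N O p)

include hcs hO

/-- The `p'`-part of `D` is abelian. -/
theorem Setting.derived_D : ⁅D, D⁆ = ⁅P, P⁆ := by
  obtain ⟨hDn, -, -⟩ := h.compl_facts hcs.compl
  set D₁ := O ⊓ D with hD₁
  have hc : ∀ o ∈ D₁, ∀ v ∈ P, Commute o v := fun o ho v hv =>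
    S.commute_O_syl hO hcs.syl hDn ho.2 ho.1 (hcs.le hv) hv
  have hab : ∀ u ∈ D₁, ∀ v ∈ D₁, Commute u v := by
    obtain ⟨P₀, hAP, hP₀⟩ := exists_syl N A S.A_pgroup S.A_le
    obtain ⟨k, hk, hkP⟩ := S.syl_conj hP₀ hcs.syl
    set Y := D₁.map (MulAut.conj k⁻¹).toMonoidHom with hY
    have hYO : Y ≤ O := by
      rintro _ ⟨o, ho, rfl⟩
      exact (mem_normalizer_iff.1 (hO.normal (N.inv_mem (OddLocal.sigmaCore_le N hk))) o).1 ho.1
    have hYn : Group.IsNilpotent Y :=
      (Group.isNilpotent_congr (D₁.equivMapOfInjective _ (MulAut.conj k⁻¹).injective)).1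
        (Core.isNilpotent_mono hDn inf_le_right)
    have hYA : A ≤ centralizer (Y : Set G) := fun b hb => by
      rw [mem_centralizer_iff]
      rintro _ ⟨o, ho, rfl⟩
      have hb' : k * b * k⁻¹ ∈ P := hkP ▸ ⟨b, hAP hb, rfl⟩
      have := (hc o ho _ hb').map (MulAut.conj k⁻¹).toMonoidHom
      simpa [mul_assoc] using this.eq
    have hYab := S.comm_of_cent hO hYO hYn hYA
    intro u hu v hv
    have := hYab _ ⟨u, hu, rfl⟩ _ ⟨v, hv, rfl⟩
    exact (MulAut.conj k⁻¹).injective (by rw [map_mul, map_mul]; exact this.eq)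
  refine le_antisymm ?_ (commutator_mono hcs.le hcs.le)
  have hn : P ≤ normalizer (D₁ : Set G) := fun v hv =>
    centralizer_le_normalizer _ (mem_centralizer_iff.2 fun o ho => (hc o ho v hv).eq)
  have hsup : D = D₁ ⊔ P := by
    refine le_antisymm (fun d hd => ?_) (sup_le inf_le_right hcs.le)
    obtain ⟨o, ho, y, hy, rfl⟩ := hO.exists_mul hcs.syl (hcs.compl.2.1 hd)
    have hoD : o ∈ D := by simpa using D.mul_mem hd (D.inv_mem (hcs.le hy))
    exact mul_mem_sup ⟨ho, hoD⟩ hy
  conv_lhs => rw [hsup]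
  refine (commutator_sup_le_sup hn hab).trans (sup_le ?_ le_rfl)
  rw [commutator_le]
  intro o ho v hv
  rw [commutatorElement_eq_one_iff_commute.2 (hc o ho v hv)]
  exact one_mem _

/-- The fixed points of `A` on `Q` are cyclic. -/
theorem Setting.fixed_A_cyclic :
    IsCyclic ↥(OddLocal.coreSylow N W ⊓ centralizer (A : Set G)) := by
  haveI := Fact.mk h.prime
  refine S.isCyclic_of_ideal h.mem_beta.2 (fun v hv => ?_)
    ((OddLocal.coreSylow_isPGroup h).to_le inf_le_left)
  exact (S.fixed_O hO).1 ⟨S.coreSylow_le_O h hO hv.1,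
    mem_centralizer_singleton_iff.2 (mem_centralizer_iff.1 hv.2 x S.mem_A).symm⟩

/-- A part of `P` above a conjugate of `A` fixes only the points fixed by `D`. -/
theorem Setting.fixed_eq_of_invariant {B : Subgroup G} {k : G} (hk : k ∈ sigmaCore N)
    (hB : A.map (MulAut.conj k).toMonoidHom ≤ B) (hBP : B ≤ P)
    (hDB : D ≤ normalizer (B : Set G)) (hWB : W ≤ normalizer (B : Set G)) :
    OddLocal.coreSylow N W ⊓ centralizer (B : Set G) =
      OddLocal.coreSylow N W ⊓ centralizer (D : Set G) := by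
  set Q := OddLocal.coreSylow N W with hQ
  refine (h.dichotomy hcs.compl hcs.normD
    (inf_le_inf le_rfl (centralizer_le (hBP.trans hcs.le))) inf_le_left
    (Coprime.le_normalizer_inf (h.le_normalizer_coreSylow' hcs.compl.2.1)
      (Coprime.le_normalizer_centralizer hDB))
    (Coprime.le_normalizer_inf (h.le_M.trans (OddLocal.le_normalizer_coreSylow N W))
      (Coprime.le_normalizer_centralizer hWB))).resolve_right fun e => ?_
  refine h.coreSylow_not_isCyclic ?_
  haveI := S.fixed_A_cyclic h hcs hO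
  refine Subgroup.isCyclic_of_le (H' := Q ⊓ centralizer (A : Set G)) (le_inf le_rfl fun v hv => ?_)
  rw [mem_centralizer_iff]
  intro b hb
  have hv' : k * v * k⁻¹ ∈ Q := (mem_normalizer_iff.1
    (OddLocal.le_normalizer_coreSylow N W (OddLocal.sigmaCore_le N hk)) v).1 hv
  have h1 : k * v * k⁻¹ ∈ centralizer (B : Set G) := (e.ge hv').2
  have := mem_centralizer_iff.1 h1 (k * b * k⁻¹) (hB ⟨b, hb, rfl⟩)
  exact (MulAut.conj k).injective (by simpa using this)

theorem Setting.fixed_syl :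
    OddLocal.coreSylow N W ⊓ centralizer (P : Set G) =
      OddLocal.coreSylow N W ⊓ centralizer (D : Set G) := by
  obtain ⟨P₀, hAP, hP₀⟩ := exists_syl N A S.A_pgroup S.A_le
  obtain ⟨k, hk, hkP⟩ := S.syl_conj hP₀ hcs.syl
  exact S.fixed_eq_of_invariant h hcs hO hk (hkP ▸ map_mono hAP) le_rfl hcs.D_norm hcs.normW

theorem Setting.fixed_D_cyclic :
    IsCyclic ↥(OddLocal.coreSylow N W ⊓ centralizer (D : Set G)) := by
  obtain ⟨P₀, hAP, hP₀⟩ := exists_syl N A S.A_pgroup S.A_le
  obtain ⟨k, hk, hkP⟩ := S.syl_conj hP₀ hcs.syl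
  haveI := S.fixed_A_cyclic h hcs hO
  refine Subgroup.isCyclic_of_le (H' := OddLocal.coreSylow N W ⊓ centralizer (A : Set G))
    fun v hv => ⟨hv.1, ?_⟩
  show v ∈ centralizer (A : Set G)
  rw [mem_centralizer_iff]
  intro b hb
  have hkv := (mem_normalizer_iff.1
    (h.fixed_invariant hcs.compl hcs.normD (OddLocal.sigmaCore_le N hk)) v).1 hv
  have := mem_centralizer_iff.1 hkv.2 (k * b * k⁻¹) (hcs.le (hkP ▸ ⟨b, hAP hb, rfl⟩))
  exact (MulAut.conj k).injective (by simpa using this)

/-- The normal Sylow subgroup is abelian. -/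
theorem Setting.coreSylow_comm :
    ∀ u ∈ OddLocal.coreSylow N W, ∀ v ∈ OddLocal.coreSylow N W, Commute u v := by
  haveI := Fact.mk h.prime
  set Q := OddLocal.coreSylow N W with hQ
  set Q0 := Q ⊓ centralizer (D : Set G) with hQ0
  haveI : IsCyclic Q0 := S.fixed_D_cyclic h hcs hO
  have hcent : sigmaCore N ≤ centralizer (Q0 : Set G) := by
    rw [← h.derived]
    exact commutator_le_centralizer_cyclic (h.fixed_invariant hcs.compl hcs.normD)
  have h0 : Q0 ≤ Q ⊓ centralizer (Q : Set G) :=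
    le_inf inf_le_left (le_centralizer_iff.1 (h.coreSylow_le_sigmaCore.trans hcent))
  rcases h.dichotomy hcs.compl hcs.normD h0 inf_le_left
      (Coprime.le_normalizer_inf (h.le_normalizer_coreSylow' hcs.compl.2.1)
        (Coprime.le_normalizer_centralizer (h.le_normalizer_coreSylow' hcs.compl.2.1)))
      (Coprime.le_normalizer_inf (h.le_M.trans (OddLocal.le_normalizer_coreSylow N W))
        (Coprime.le_normalizer_centralizer (h.le_M.trans (OddLocal.le_normalizer_coreSylow N W))))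
    with e | e
  swap
  · exact fun u hu v hv => (mem_centralizer_iff.1 (e.ge hv).2 u hu)
  exfalso
  have hcen : center Q = Q0.subgroupOf Q := by
    ext v
    rw [mem_center_iff, mem_subgroupOf, hQ0, ← e]
    constructor
    · exact fun hv => ⟨v.2, mem_centralizer_iff.2 fun w hw => congrArg Subtype.val (hv ⟨w, hw⟩)⟩
    · exact fun hv w => Subtype.ext (mem_centralizer_iff.1 hv.2 w w.2)
  haveI : IsCyclic (center Q) := by
    rw [hcen]
    exact isCyclic_of_surjective _ (subgroupOfEquivOfLe (inf_le_left : Q0 ≤ Q)).symm.surjective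
  have hcl : ∀ g e : Q, ⁅g, e⁆ ∈ center Q := fun g t => by
    rw [hcen, mem_subgroupOf]
    exact (h.quotient_elementary hcs.compl hcs.normD g g.2 t t.2).2
  obtain ⟨r, hr⟩ := index_center_isSquare hcl
  rw [hcen] at hr
  have hidx : Q0.relIndex Q = Nat.card (OddLocal.kStar N W) ^ Nat.card W := by
    have h1 := Coprime.card_mul_relIndex_of_le (inf_le_left : Q0 ≤ Q)
    have h2 := h.card_eq_pow hcs.compl hcs.normD le_rfl h.ne_bot
    rw [← hQ, ← hQ0] at h2
    exact Nat.eq_of_mul_eq_mul_left Nat.card_pos (h1.trans h2)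
  change Q0.relIndex Q = r * r at hr
  rw [hidx] at hr
  obtain ⟨j, -, rfl⟩ := (Nat.dvd_prime_pow h.prime).1 (hr ▸ dvd_mul_left r r)
  rw [← pow_add] at hr
  have := Nat.pow_right_injective h.prime.two_le hr
  have hodd : Odd (Nat.card W) := S.minSimple.1.of_dvd_nat (card_subgroup_dvd_card W)
  exact (Nat.not_even_iff_odd.2 hodd) ⟨j, this⟩

/-- The `p'`-part of `N_σ'` lies in `[Q, D]`. -/
theorem Setting.derK_O_le : O ⊓ derK N ≤ ⁅OddLocal.coreSylow N W, D⁆ := by
  set Q := OddLocal.coreSylow N W with hQ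
  have hn : D ≤ normalizer (Q : Set G) := h.le_normalizer_coreSylow' hcs.compl.2.1
  have h1 : derK N ≤ ⁅Q, D⁆ ⊔ ⁅P, P⁆ := by
    rw [derK, ← S.derived_D h hcs hO, h.sigmaCore_eq_sup hcs.compl]
    exact commutator_sup_le_sup hn (S.coreSylow_comm h hcs hO)
  have hQD : ⁅Q, D⁆ ≤ Q := by
    exact Coprime.commutator_le_of_le_normalizer hn
  have hPn : ⁅P, P⁆ ≤ normalizer (⁅Q, D⁆ : Subgroup G) := by
    refine ((commutator_le_self P).trans hcs.le).trans fun d hd => ?_
    refine OddLocal.mem_normalizer_of_map_conj ?_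
    rw [map_commutator, OddLocal.map_conj_eq_self_of_mem (hn hd),
      OddLocal.map_conj_eq_self_of_mem (Subgroup.le_normalizer hd)]
  rintro v ⟨hvO, hv⟩
  obtain ⟨u, hu, c, hc, rfl⟩ := (Coprime.mem_sup_of_le_normalizer hPn).1 (h1 hv)
  have huO : u ∈ O := S.coreSylow_le_O h hO (hQD hu)
  have hcO : c ∈ O ⊓ P :=
    ⟨by simpa using O.mul_mem (O.inv_mem huO) hvO, commutator_le_self P hc⟩
  rw [hO.inf_syl hcs.syl, mem_bot] at hcO
  rwa [hcO, mul_one]

theorem Setting.derK_O_le_coreSylow : O ⊓ derK N ≤ OddLocal.coreSylow N W := by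
  refine (S.derK_O_le h hcs hO).trans ?_
  exact Coprime.commutator_le_of_le_normalizer (h.le_normalizer_coreSylow' hcs.compl.2.1)

theorem Setting.derK_O_inf :
    (O ⊓ derK N) ⊓ (OddLocal.coreSylow N W ⊓ centralizer (D : Set G)) = ⊥ := by
  set Q := OddLocal.coreSylow N W with hQ
  haveI : IsMulCommutative Q :=
    ⟨⟨fun u v => Subtype.ext (S.coreSylow_comm h hcs hO u u.2 v v.2).eq⟩⟩
  haveI := Fact.mk h.prime
  obtain ⟨j, hj⟩ := IsPGroup.iff_card.1 (OddLocal.coreSylow_isPGroup h)
  have hcop : (Nat.card D).Coprime (Nat.card Q) := by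
    rw [hQ, hj]
    exact ((h.prime.coprime_iff_not_dvd.2 (h.compl_facts hcs.compl).2.1).symm).pow_right j
  rw [eq_bot_iff, ← Coprime.centralizer_inf_commutator_eq_bot (V := Q)
    (h.le_normalizer_coreSylow' hcs.compl.2.1) hcop, inf_comm]
  exact inf_le_inf le_rfl (S.derK_O_le h hcs hO)

theorem Setting.fixedP_core : (O ⊓ derK N) ⊓ centralizer (P : Set G) = ⊥ := by
  rw [eq_bot_iff, ← S.derK_O_inf h hcs hO]
  refine le_inf inf_le_left ?_
  rw [← S.fixed_syl h hcs hO]
  exact inf_le_inf (S.derK_O_le_coreSylow h hcs hO) le_rfl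

/-- In the abelian case `x` has no fixed point on `N_σ'`. -/
theorem Setting.derK_free (hc : ⁅P, P⁆ = ⊥) :
    derK N ⊓ centralizer ({x} : Set G) = ⊥ := by
  set Q := OddLocal.coreSylow N W with hQ
  obtain ⟨k, hk, hkP, hkΩ⟩ := S.exists_plane_of_comm hcs.syl hc
  set B := A.map (MulAut.conj k).toMonoidHom with hB
  have hBp : ∀ v ∈ B, v ^ p = 1 := by
    rintro _ ⟨b, hb, rfl⟩
    rw [← map_pow, S.tauPair.elem.2 b hb, map_one]
  have hn : ∀ X : Subgroup G, X ≤ normalizer (P : Set G) → X ≤ normalizer (B : Set G) :=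
    fun X hX g hg => OddLocal.mem_normalizer_of_map_conj (eq_of_le_of_card_ge (by
      rintro _ ⟨v, hv, rfl⟩
      exact hkΩ _ ((mem_normalizer_iff.1 (hX hg) v).1 (hkP hv))
        (by rw [← map_pow, hBp v hv, map_one])) (OddLocal.card_map_conj _ _).ge)
  have hQB := S.fixed_eq_of_invariant h hcs hO hk le_rfl hkP (hn D hcs.D_norm) (hn W hcs.normW)
  have hder : derK N ≤ O := by
    have := hO.derK_le hcs.syl
    rwa [hc, sup_bot_eq] at this
  rw [eq_bot_iff, ← S.derK_O_inf h hcs hO]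
  rintro v ⟨hv, hvx⟩
  refine ⟨⟨hder hv, hv⟩, ?_⟩
  have hvQ : v ∈ Q := S.derK_O_le_coreSylow h hcs hO ⟨hder hv, hv⟩
  have hvA := (S.fixed_O hO).2 ⟨hder hv, hvx⟩
  have hkN := OddLocal.sigmaCore_le N hk
  have hkv : k * v * k⁻¹ ∈ Q ⊓ centralizer (B : Set G) := by
    refine ⟨(mem_normalizer_iff.1 (OddLocal.le_normalizer_coreSylow N W hkN) v).1 hvQ,
      mem_centralizer_iff.2 ?_⟩
    rintro _ ⟨b, hb, rfl⟩
    have := (show Commute b v from mem_centralizer_iff.1 hvA b hb).map
      (MulAut.conj k).toMonoidHom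
    simpa using this.eq
  rw [hQB] at hkv
  exact (mem_normalizer_iff.1 (h.fixed_invariant hcs.compl hcs.normD hkN) v).2 hkv

end Cfsg.Agent.OddCharTwelve
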