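import Cfsg.Agent.Coherence.Criteria
import Cfsg.Agent.Char.Linear
import Mathlib.GroupTheory.FiniteAbelian.Duality
import Mathlib.FieldTheory.IsSepClosed
import Mathlib.RingTheory.RootsOfUnity.AlgebraicallyClosed

/-!
# Linear characters trivial on a normal subgroup with abelian quotient
-/

set_option autoImplicit false

namespace Cfsg.Agent.OddCharTwelve

open Cfsg
open scoped ComplexConjugate commutatorElement

universe u

variable {K : Type u} [Group K] [Fintype K]

theorem finite_hom : Finite (K →* ℂˣ) :=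
  Finite.of_injective (fun f : K →* ℂˣ => (⟨fun g => (f g : ℂ), Char.isIrrCharacter_hom f⟩ :
      IrrCharacter K))
    fun f f' h => MonoidHom.ext fun g => Units.ext (congrFun (congrArg Subtype.val h) g)

open scoped _root_.Classical in
/-- The linear characters trivial on `N`. -/
noncomputable def lin (N : Subgroup K) : Finset (K →* ℂˣ) :=
  letI : Finite (K →* ℂˣ) := finite_hom
  (Set.toFinite {f : K →* ℂˣ | ∀ n ∈ N, f n = 1}).toFinset

variable {N : Subgroup K}

theorem mem_lin {f : K →* ℂˣ} : f ∈ lin N ↔ ∀ n ∈ N, f n = 1 := by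
  simp [lin]

theorem one_mem_lin : (1 : K →* ℂˣ) ∈ lin N := mem_lin.2 fun _ _ => rfl

theorem lin_mul {f g : K →* ℂˣ} (hf : f ∈ lin N) (hg : g ∈ lin N) : f * g ∈ lin N :=
  mem_lin.2 fun n hn => by simp [mem_lin.1 hf n hn, mem_lin.1 hg n hn]

theorem lin_inv {f : K →* ℂˣ} (hf : f ∈ lin N) : f⁻¹ ∈ lin N :=
  mem_lin.2 fun n hn => by simp [mem_lin.1 hf n hn]

theorem lin_mul_right {f : K →* ℂˣ} (hf : f ∈ lin N) {u n : K} (hn : n ∈ N) : f (u * n) = f u := by
  rw [map_mul, mem_lin.1 hf n hn, mul_one]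

theorem norm_hom (f : K →* ℂˣ) (v : K) : ‖(f v : ℂ)‖ = 1 := by
  refine Complex.norm_eq_one_of_pow_eq_one (n := Nat.card K) ?_ Nat.card_pos.ne'
  rw [← Units.val_pow_eq_pow_val, ← map_pow, pow_card_eq_one', map_one, Units.val_one]

theorem conj_hom (f : K →* ℂˣ) (v : K) : conj (f v : ℂ) = ((f⁻¹) v : ℂ) := by
  rw [MonoidHom.inv_apply, Units.val_inv_eq_inv_val, Complex.inv_eq_conj (norm_hom f v)]

theorem conj_mul_hom (f : K →* ℂˣ) (v : K) : conj (f v : ℂ) * (f v : ℂ) = 1 := by
  rw [conj_hom, ← Units.val_mul, MonoidHom.inv_apply, inv_mul_cancel, Units.val_one]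

theorem classInner_hom (f g : K →* ℂˣ) [Decidable (f = g)] :
    classInner (fun v => (f v : ℂ)) (fun v => (g v : ℂ)) = if f = g then 1 else 0 := by
  split_ifs with h
  · exact h ▸ Char.classInner_irr_self (Char.isIrrCharacter_hom f)
  · exact Char.classInner_irr_ne (Char.isIrrCharacter_hom f) (Char.isIrrCharacter_hom g)
      fun e => h (MonoidHom.ext fun v => Units.ext (congrFun e v))

variable [N.Normal] (hc : ∀ a b : K, ⁅a, b⁆ ∈ N)

include hc

theorem exists_ne_one {v : K} (hv : v ∉ N) : ∃ f ∈ lin N, f v ≠ 1 := by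
  letI : CommGroup (K ⧸ N) :=
    { (inferInstance : Group (K ⧸ N)) with
      mul_comm := fun a b => by
        induction a using QuotientGroup.induction_on with
        | _ a =>
        induction b using QuotientGroup.induction_on with
        | _ b =>
        rw [← commutatorElement_eq_one_iff_mul_comm, ← QuotientGroup.mk'_apply,
          ← QuotientGroup.mk'_apply, ← map_commutatorElement, QuotientGroup.mk'_apply,
          QuotientGroup.eq_one_iff]
        exact hc a b }
  have : NeZero (Monoid.exponent (K ⧸ N)) := ⟨Monoid.exponent_ne_zero_of_finite⟩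
  obtain ⟨φ, hφ⟩ := CommGroup.exists_apply_ne_one_of_hasEnoughRootsOfUnity (K ⧸ N) ℂ
    (a := (v : K ⧸ N)) (fun e => hv ((QuotientGroup.eq_one_iff v).1 e))
  refine ⟨φ.comp (QuotientGroup.mk' N), mem_lin.2 fun n hn => ?_, hφ⟩
  rw [MonoidHom.comp_apply, QuotientGroup.mk'_apply, (QuotientGroup.eq_one_iff n).2 hn, map_one]

theorem sum_lin_not_mem {v : K} (hv : v ∉ N) : ∑ f ∈ lin N, (f v : ℂ) = 0 := by
  obtain ⟨g, hg, hgv⟩ := exists_ne_one hc hv
  have hshift : ∑ f ∈ lin N, (f v : ℂ) = (g v : ℂ) * ∑ f ∈ lin N, (f v : ℂ) := by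
    rw [Finset.mul_sum]
    refine Finset.sum_bij' (fun f _ => g⁻¹ * f) (fun f _ => g * f) ?_ ?_ ?_ ?_ ?_
    · exact fun f hf => lin_mul (lin_inv hg) hf
    · exact fun f hf => lin_mul hg hf
    · exact fun f _ => mul_inv_cancel_left g f
    · exact fun f _ => inv_mul_cancel_left g f
    · exact fun f _ => by simp
  have hne : (g v : ℂ) - 1 ≠ 0 := sub_ne_zero.2 fun e => hgv (Units.ext e)
  exact (mul_eq_zero.1 (show ((g v : ℂ) - 1) * ∑ f ∈ lin N, (f v : ℂ) = 0 by
    linear_combination -hshift)).resolve_left hne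

omit [N.Normal] hc in
theorem sum_lin_mem {v : K} (hv : v ∈ N) : ∑ f ∈ lin N, (f v : ℂ) = (lin N).card := by
  rw [Finset.sum_congr rfl (g := fun _ => (1 : ℂ)) fun f hf => by rw [mem_lin.1 hf v hv]; rfl]
  simp

theorem card_lin : (lin N).card = N.index := by
  classical
  have h := Finset.sum_comm (s := lin N) (t := (Finset.univ : Finset K))
    (f := fun f v => (f v : ℂ))
  have hl : ∀ f ∈ lin N, ∑ v : K, (f v : ℂ) = if f = 1 then (Nat.card K : ℂ) else 0 := by
    intro f _
    have h1 := classInner_hom f 1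
    rw [classInner] at h1
    simp only [MonoidHom.one_apply, Units.val_one, map_one, mul_one] at h1
    split_ifs at h1 ⊢ with hf
    · subst hf; simp [Nat.card_eq_fintype_card]
    · exact (mul_eq_zero.1 h1).resolve_left (inv_ne_zero (Nat.cast_ne_zero.2 Nat.card_pos.ne'))
  rw [Finset.sum_congr rfl hl, Finset.sum_ite_eq', if_pos one_mem_lin,
    ← Finset.sum_filter_add_sum_filter_not Finset.univ (· ∈ N),
    Finset.sum_congr rfl (g := fun _ => ((lin N).card : ℂ)) fun v hv =>
      sum_lin_mem (Finset.mem_filter.1 hv).2,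
    Finset.sum_congr rfl (g := fun _ => (0 : ℂ)) fun v hv =>
      sum_lin_not_mem hc (Finset.mem_filter.1 hv).2,
    Finset.sum_const_zero, add_zero, Finset.sum_const, nsmul_eq_mul, ← Fintype.card_subtype,
    ← Nat.card_eq_fintype_card, ← N.card_mul_index] at h
  have h' : Nat.card N * N.index = Nat.card N * (lin N).card := by exact_mod_cast h
  exact (Nat.eq_of_mul_eq_mul_left Nat.card_pos h').symm

open scoped _root_.Classical in
/-- Fourier inversion: the coset sums from the coefficients. -/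
theorem sum_lin_coeff (F : K → ℂ) (u : K) :
    ∑ f ∈ lin N, (f u : ℂ) * ∑ v : K, F v * conj (f v : ℂ) =
      (N.index : ℂ) * ∑ n ∈ Finset.univ.filter (· ∈ N), F (u * n) := by
  simp only [Finset.mul_sum]
  rw [Finset.sum_comm]
  have : ∀ v : K, ∑ f ∈ lin N, (f u : ℂ) * (F v * conj (f v : ℂ)) =
      if v⁻¹ * u ∈ N then (N.index : ℂ) * F v else 0 := by
    intro v
    rw [Finset.sum_congr rfl (g := fun f : K →* ℂˣ => F v * (f (v⁻¹ * u) : ℂ)) fun f _ => by
      rw [conj_hom, map_mul, map_inv, Units.val_mul, MonoidHom.inv_apply]; ring, ← Finset.mul_sum]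
    split_ifs with h
    · rw [sum_lin_mem h, card_lin hc, mul_comm]
    · rw [sum_lin_not_mem hc h, mul_zero]
  rw [Finset.sum_congr rfl fun v _ => this v, ← Finset.sum_filter]
  refine Finset.sum_nbij' (fun v => u⁻¹ * v) (fun n => u * n) ?_ ?_ ?_ ?_ ?_
  · intro v hv
    simp only [Finset.mem_filter, Finset.mem_univ, true_and, Finset.coe_filter] at hv ⊢
    simpa using N.inv_mem hv
  · intro n hn
    simp only [Finset.mem_filter, Finset.mem_univ, true_and, Finset.coe_filter] at hn ⊢
    simpa using N.inv_mem hn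
  · exact fun v _ => mul_inv_cancel_left u v
  · exact fun n _ => inv_mul_cancel_left u n
  · exact fun v _ => by simp

omit [N.Normal] hc in
/-- Bessel's inequality for linear characters. -/
theorem bessel_lin (F : K → ℂ) (s : Finset (K →* ℂˣ)) :
    ∑ f ∈ s, ‖∑ v : K, F v * conj (f v : ℂ)‖ ^ 2 ≤ (Nat.card K : ℝ) * ∑ v : K, ‖F v‖ ^ 2 := by
  classical
  have hs : ∀ f : K →* ℂˣ, classInner (fun v => (f v : ℂ)) (fun v => (f v : ℂ)) = 1 :=
    fun f => Char.classInner_irr_self (Char.isIrrCharacter_hom f)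
  have h := (Coherence.bessel s (fun f v => (f v : ℂ)) (fun f _ e => by
      have := hs f
      rw [show (fun v => (f v : ℂ)) = 0 from e, Char.classInner_zero_left] at this
      exact zero_ne_one this)
    (fun i _ j _ hij => by rw [classInner_hom, if_neg hij]) F).1
  have hk : (0 : ℝ) < Nat.card K := Nat.cast_pos.2 Nat.card_pos
  have hF : (classInner F F).re = (Nat.card K : ℝ)⁻¹ * ∑ v : K, ‖F v‖ ^ 2 := by
    rw [classInner]
    simp only [Complex.mul_conj, Complex.normSq_eq_norm_sq, ← Complex.ofReal_sum]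
    rw [← Complex.ofReal_natCast, ← Complex.ofReal_inv, ← Complex.ofReal_mul, Complex.ofReal_re]
  simp only [hs, Complex.one_re, div_one] at h
  rw [hF, Finset.sum_congr rfl (g := fun f : K →* ℂˣ =>
      ((Nat.card K : ℝ)⁻¹) ^ 2 * ‖∑ v : K, F v * conj (f v : ℂ)‖ ^ 2) fun f _ => by
    simp only [classInner, norm_mul, norm_inv, Complex.norm_natCast,
      mul_pow], ← Finset.mul_sum] at h
  have h2 := mul_le_mul_of_nonneg_left h (sq_nonneg (Nat.card K : ℝ))
  rw [← mul_assoc, ← mul_assoc, ← mul_pow, mul_inv_cancel₀ hk.ne', one_pow, one_mul, sq,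
    mul_assoc (Nat.card K : ℝ), mul_inv_cancel₀ hk.ne', mul_one] at h2
  exact h2

end Cfsg.Agent.OddCharTwelve
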