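import Cfsg.Agent.OddCharTwelve.NStruct
import Cfsg.Agent.OddCharTwelve.NVal
import Cfsg.Agent.OddCharTwelve.Avg
import Cfsg.Agent.OddCharTwelve.Bound
import Mathlib.GroupTheory.NoncommCoprod

/-!
# The excess at `p`-elements and at mixed elements
-/

set_option autoImplicit false
set_option linter.unusedSectionVars false
set_option linter.style.haveILetI false

namespace Cfsg.Agent.OddCharTwelve

open Subgroup Cfsg
open scoped ComplexConjugate

universe u

variable {G : Type u} [Group G] [Fintype G] {M N E A : Subgroup G} {p : ℕ} [hp : Fact p.Prime]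
  {x a : G} [Fintype N] [Fintype (core N)]
  {Ψ : (↥N → ℂ) → G → ℂ} {φ₀ : ↥N → ℂ} {F : core N → ℤ}

/-- A member of the family with its integer difference function. -/
structure Vals (N : Subgroup G) [Fintype N] [Fintype (core N)] (p : ℕ) (Ψ : (↥N → ℂ) → G → ℂ)
    (φ₀ : ↥N → ℂ) (F : core N → ℤ) : Prop where
  images : Images N (derK N) Ψ
  mem : φ₀ ∈ fam N (derK N)
  three : 3 ≤ (fam N (derK N)).card
  val : ∀ v : core N, Ψ φ₀ ((v : N) : G) = φ₀ (v : N) + (F v : ℂ)
  cong : ∀ (v : core N) (k : ℕ), (p : ℤ) ∣ F (v ^ p ^ k) - F v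

/-- The second maximal subgroup over a centraliser determines the support. -/
theorem supportR_eq (hG : IsMinSimpleOddOrder G) {N L : Subgroup G} {w : G}
    (hw : ¬ centralizer ({w} : Set G) ≤ N) (hL : IsCoatom L)
    (hCL : centralizer ({w} : Set G) ≤ L)
    (hu : ∀ L' : Subgroup G, IsCoatom L' → centralizer ({w} : Set G) ≤ L' → L' = L)
    (hn : Group.IsNilpotent (sigmaCore L)) :
    supportR N w = sigmaCore L ⊓ centralizer ({w} : Set G) := by
  have hex : ¬ centralizer ({w} : Set G) ≤ N ∧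
      ∃! L' : Subgroup G, IsCoatom L' ∧ centralizer ({w} : Set G) ≤ L' :=
    ⟨hw, L, ⟨hL, hCL⟩, fun L' hL' => hu L' hL'.1 hL'.2⟩
  rw [supportR, dif_pos hex,
    hu _ (Classical.choose_spec hex.2.exists).1 (Classical.choose_spec hex.2.exists).2,
    OddLocal.fittingHallOf_eq_of_nilpotent hG hL hn]

variable (S : Setting M N E A p x a)

include S

/-- An element of order `p` centralising `w` and moving all of `R(w)`. -/
theorem Setting.exists_fixer {w : G} (hw : w ∈ sigmaCore N) (hw1 : w ≠ 1) {k : ℕ}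
    (hwk : w ^ p ^ k = 1) :
    ∃ b ∈ N, b ^ p = 1 ∧ Commute b w ∧ supportR N w ⊓ centralizer ({b} : Set G) = ⊥ ∧
      ∀ s ∈ zpowers w, s ≠ 1 → supportR N w ≤ supportR N s := by
  have hG := S.minSimple
  have hN := S.coatomN
  by_cases hC : centralizer ({w} : Set G) ≤ N
  · refine ⟨1, one_mem _, one_pow _, Commute.one_left _, ?_, fun s _ _ => ?_⟩ <;>
      rw [OddLocal.supportR_eq_bot hC]
    · exact bot_inf_eq _
    · exact bot_le
  obtain ⟨L, hL, -, hCL, hu, hτ, hE, hn, -⟩ := OddLocal.exists_support hG hN hw hw1 hC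
  have hR := supportR_eq hG hC hL hCL hu hn
  obtain ⟨i, hi, hwo⟩ := (Nat.dvd_prime_pow hp.out).1 (orderOf_dvd_of_pow_eq_one hwk)
  have hi0 : i ≠ 0 := fun e => hw1 (orderOf_eq_one_iff.1 (by rw [hwo, e, pow_zero]))
  have hpw : p ∣ orderOf w := hwo ▸ dvd_pow_self p hi0
  have hp2 : p ∈ Cfsg.tau2 L := hτ p hp.out hpw
  obtain ⟨B, hBE, hB⟩ := OddLocal.exists_plane_in_compl hG hL hE hp2
  have hwE : w ∈ N ⊓ L :=
    ⟨OddLocal.sigmaCore_le N hw, hCL (mem_centralizer_singleton_iff.2 rfl)⟩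
  set w₀ := w ^ (orderOf w / p) with hw₀
  have hw₀o : orderOf w₀ = p := orderOf_pow_orderOf_div (orderOf_pos w).ne' hpw
  have hw₀1 : w₀ ≠ 1 := fun e => hp.out.ne_one (by rw [← hw₀o, e, orderOf_one])
  have hw₀B : w₀ ∈ B := hB.mem_of_mem_compl hG hL hE hBE (pow_mem hwE _)
    (by rw [← hw₀o, pow_orderOf_eq_one])
  have hn' := (hB.isExceptional hG hL).le_normalizer_of_compl hG hL hE hBE
  have hwp : IsPGroup p (zpowers w) := IsPGroup.of_card (n := i) (by rw [Nat.card_zpowers, hwo])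
  have hcomm : w ∈ centralizer (B : Set G) :=
    OddLocal.le_centralizer_of_isMulCommutative le_rfl le_sup_right
      (OddLocal.comm_of_not_sigma hG hL hB.not_sigma
        (hwp.to_sup_of_normal_right' (Coprime.ea_isPGroup hB.elem) (zpowers_le.2 (hn' hwE)))
        (sup_le (zpowers_le.2 hwE.2) hB.le)) (mem_sup_left (mem_zpowers w))
  obtain ⟨b, hbB, hb⟩ : ∃ b ∈ B, b ∉ zpowers w₀ := by
    refine SetLike.not_le_iff_exists.1 fun h => ?_
    have := Nat.le_of_dvd Nat.card_pos (card_dvd_of_le h)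
    rw [hB.card, Nat.card_zpowers, hw₀o] at this
    nlinarith [hp.out.two_le]
  refine ⟨b, (hBE hbB).1, hB.elem.2 b hbB, mem_centralizer_iff.1 hcomm b hbB, ?_, fun s hs hs1 => ?_⟩
  · rw [eq_bot_iff, ← hB.fixed_eq_bot hG hL]
    rintro u ⟨hu', hub⟩
    rw [hR] at hu'
    refine ⟨hu'.1, OddLocal.plane_centralized hB.elem hB.card hw₀B hw₀1 hbB hb ?_ ?_⟩
    · exact (show Commute u w from mem_centralizer_singleton_iff.1 hu'.2).pow_right _
    · exact mem_centralizer_singleton_iff.1 hub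
  · have hsw : centralizer ({w} : Set G) ≤ centralizer ({s} : Set G) := fun c hc => by
      obtain ⟨j, rfl⟩ := mem_zpowers_iff.1 hs
      exact mem_centralizer_singleton_iff.2
        ((show Commute c w from mem_centralizer_singleton_iff.1 hc).zpow_right j).eq
    have hsC : ¬ centralizer ({s} : Set G) ≤ N := fun h => hC (hsw.trans h)
    have hsσ : s ∈ sigmaCore N := zpowers_le.2 hw hs
    obtain ⟨L', hL', -, hCL', hu', -, -, hn'', -⟩ := OddLocal.exists_support hG hN hsσ hs1 hsC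
    obtain rfl : L' = L := hu L' hL' (hsw.trans hCL')
    rw [supportR_eq hG hsC hL' hCL' hu' hn'', hR]
    exact inf_le_inf le_rfl hsw

variable (V : Vals N p Ψ φ₀ F)

include V

theorem Setting.rho_pElt {w : G} (hw : w ∈ sigmaCore N) (hw1 : w ≠ 1) {k : ℕ}
    (hwk : w ^ p ^ k = 1) : Cong p (rho N (Ψ φ₀) w) (Ψ φ₀ w) := by
  obtain ⟨b, hbN, hbp, hbw, hfree, -⟩ := S.exists_fixer hw hw1 hwk
  exact (rho_cong S.minSimple S.coatomN (V.images.gen _ V.mem) hbN hbp hw hw1 hbw hfree).1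

open scoped _root_.Classical in
/-- The excess at a `p`-element off `K₁`. -/
theorem Setting.excess_pElt (v : core N) (hvK : ((v : N) : G) ∉ derK N) {k : ℕ}
    (hvk : v ^ p ^ k = 1) :
    ∃ z : ℤ, excess (derK N) Ψ φ₀ (v : N) = z ∧ (p : ℤ) ∣ z - F 1 := by
  have hI := V.images
  have hs := hI.side
  set w : G := ((v : N) : G) with hwdef
  have hwσ : w ∈ sigmaCore N := v.2
  have hwN : w ∈ N := (v : N).2
  have hw1 : w ≠ 1 := fun e => hvK (by rw [e]; exact one_mem _)
  have hwk : w ^ p ^ k = 1 := by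
    have := congrArg (fun u : core N => ((u : N) : G)) hvk
    simpa [hwdef] using this
  obtain ⟨b, hbN, hbp, hbw, hfree, hle⟩ := S.exists_fixer hwσ hw1 hwk
  have hcong := (rho_cong S.minSimple S.coatomN (hI.gen _ V.mem) hbN hbp hwσ hw1 hbw hfree).1
  set R := supportR N w with hR
  set H := zpowers w with hH
  have hHN : H ≤ N := zpowers_le.2 hwN
  have hRw : ∀ u ∈ R, Commute u w := fun u hu =>
    mem_centralizer_singleton_iff.1 (supportR_le_cent S.minSimple S.coatomN hwσ hw1 hu)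
  have hcomm : ∀ (s : H) (u : R), Commute (H.subtype s) (R.subtype u) := fun s u => by
    obtain ⟨j, hj⟩ := mem_zpowers_iff.1 s.2
    simp only [coe_subtype, ← hj]
    exact ((hRw u u.2).symm).zpow_left j
  let Φ : H × R →* G := MonoidHom.noncommCoprod H.subtype R.subtype hcomm
  let ι : H →* N := inclusion hHN
  set f : H → ℂ := fun s => (Nat.card R : ℂ)⁻¹ * ∑ u : R, Ψ φ₀ (Φ (s, u)) - φ₀ (ι s) with hf
  have hgen : IsGeneralizedCharacter H f :=
    Char.isGeneralized_sub (isGen_avg (Char.isGeneralized_comp Φ (hI.gen _ V.mem)))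
      (Char.isGeneralized_comp ι (hs.gen V.mem))
  have hΦ : ∀ (s : H) (u : R), Φ (s, u) = (s : G) * u := fun s u => rfl
  have hinv : ∀ (s : H) (j : ℕ), j.Coprime (Nat.card H) → f (s ^ j) = f s := by
    intro s j hj
    obtain ⟨j', hj', hjw⟩ := exists_coprime_modEq w
      (hj.coprime_dvd_right (by rw [hH, Nat.card_zpowers]))
    have hsj : s ^ j = s ^ j' := by
      refine pow_eq_pow_iff_modEq.2 (Nat.ModEq.of_dvd ?_ (pow_eq_pow_iff_modEq.1 hjw).symm)
      exact (orderOf_dvd_natCard s).trans (by rw [hH, Nat.card_zpowers])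
    rw [hsj]
    by_cases hs1 : s = 1
    · rw [hs1, one_pow]
    set sN : N := ι s with hsN
    have hsσ : (s : G) ∈ sigmaCore N := zpowers_le.2 hwσ s.2
    have hsne : (s : G) ≠ 1 := fun e => hs1 (Subtype.ext e)
    have hφ' := hI.fam_pow V.mem hj'
    have hbij := (powCoprime (G := R) ((hj'.coprime_dvd_right (card_subgroup_dvd_card R)).symm)).sum_comp
      (fun u : R => Ψ φ₀ (Φ (s ^ j', u)))
    simp only [hf]
    rw [← hbij]
    have hterm : ∀ u : R, Ψ φ₀ (Φ (s ^ j', powCoprime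
        ((hj'.coprime_dvd_right (card_subgroup_dvd_card R)).symm) u)) =
        Ψ φ₀ (Φ (s, u)) + (φ₀ (sN ^ j') - φ₀ sN) := by
      intro u
      rw [powCoprime_apply, ← Prod.pow_mk, map_pow, hI.apply_pow V.three V.mem hj']
      have hd := congrFun (hI.diff _ hφ' _ V.mem) ((s : G) * u)
      rw [Pi.sub_apply] at hd
      have hu : (u : G) ∈ supportR N (s : G) := hle s s.2 hsne u.2
      have hcl := Char.IsGen.isClassFunction (Char.isGeneralized_sub (hs.gen hφ') (hs.gen V.mem))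
      have hda := Coherence.Dade.dade_apply (dade1 S.minSimple S.coatomN) hcl (a := sN)
        (g := (s : G) * u) ((mem_typeA1 S.minSimple S.coatomN).2 ⟨hsσ, hsne⟩) hu (x := 1)
        (by simp [hsN, ι])
      change tau1Map N _ _ = _ at hda
      rw [hda, Pi.sub_apply] at hd
      rw [hΦ]
      linear_combination -hd
    rw [Finset.sum_congr rfl fun u _ => hterm u, Finset.sum_add_distrib, Finset.sum_const,
      nsmul_eq_mul, Finset.card_univ, ← Nat.card_eq_fintype_card, map_pow, ← hsN, mul_add,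
      inv_mul_cancel_left₀ (Nat.cast_ne_zero.2 Nat.card_pos.ne')]
    ring
  obtain ⟨z, hz⟩ := int_of_invariant hgen hinv ⟨w, mem_zpowers w⟩
  have hex : excess (derK N) Ψ φ₀ (v : N) = rho N (Ψ φ₀) w - φ₀ (v : N) := by
    rw [excess, if_pos ⟨v.2, hvK⟩]
  have hzr : (z : ℂ) = rho N (Ψ φ₀) w - φ₀ (v : N) := by
    rw [← hz, hf, rho, finsum_mem_eq_finite_toFinset_sum _ (Set.toFinite _),
      Finset.sum_subtype (Set.toFinite (R : Set G)).toFinset (p := (· ∈ R)) (fun u => by simp)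
        (fun u => Ψ φ₀ (w * u))]
    rfl
  refine ⟨z, by rw [hex, hzr], ?_⟩
  have h1 : (p : ℤ) ∣ z - F v := dvd_of_cong (by
    rw [hzr]
    have := hcong.sub (cong_rfl (a := φ₀ (v : N)))
    rwa [V.val v, add_sub_cancel_left] at this)
  have h2 := V.cong v k
  rw [hvk] at h2
  have h3 := dvd_sub h1 h2
  rwa [show z - F v - (F 1 - F v) = z - F 1 by ring] at h3

omit S in
/-- The values on `K₁`. -/
theorem Vals.val_cut {v : core N} (hv : ((v : N) : G) ∈ derK N) :
    Ψ φ₀ ((v : N) : G) = ((idx N : ℤ) + F v : ℤ) := by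
  rw [V.val v, V.images.side.apply_cut V.mem (mem_cut.2 hv)]
  push_cast
  rfl

open scoped _root_.Classical in
/-- The excess at a mixed element. -/
theorem Setting.excess_mixed (v l : core N) (hvK : ((v : N) : G) ∉ derK N)
    (hlK : ((l : N) : G) ∈ derK N) (hl1 : l ≠ 1) (hlp : (orderOf l).Coprime p) (hvl : Commute v l)
    {k : ℕ} (hvk : v ^ p ^ k = 1) :
    ∃ z : ℤ, excess (derK N) Ψ φ₀ ((v * l : core N) : N) = z ∧ (p : ℤ) ∣ z - F l := by
  set c : G := (((v * l : core N) : N) : G) with hc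
  have hnot : c ∉ derK N := fun h => hvK (by
    have := (derK N).mul_mem h ((derK N).inv_mem hlK)
    simpa [hc] using this)
  have hpow : (v * l) ^ p ^ k = l ^ p ^ k := by rw [hvl.mul_pow, hvk, one_mul]
  have hl' : l ^ p ^ k ≠ 1 := fun e => hl1 (orderOf_eq_one_iff.1
    (Nat.eq_one_of_dvd_coprimes (hlp.pow_right k) dvd_rfl (orderOf_dvd_of_pow_eq_one e)))
  have hCN : centralizer ({c} : Set G) ≤ N := fun g hg => by
    refine S.cent_derK (u := (((l ^ p ^ k : core N) : N) : G)) ?_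
      (fun e => hl' (Subtype.ext (Subtype.ext e))) ?_
    · simpa using (derK N).pow_mem hlK (p ^ k)
    · rw [← hpow, mem_centralizer_singleton_iff]
      simp only [SubgroupClass.coe_pow]
      exact ((show Commute g c from mem_centralizer_singleton_iff.1 hg).pow_right _).eq
  refine ⟨F (v * l), ?_, ?_⟩
  · rw [excess, if_pos ⟨(v * l).2, hnot⟩, rho_of_le _ hCN, V.val]
    ring
  · have h1 := V.cong (v * l) k
    rw [hpow] at h1
    have h2 := dvd_sub (V.cong l k) h1
    rwa [show F (l ^ p ^ k) - F l - (F (l ^ p ^ k) - F (v * l)) = F (v * l) - F l by ring] at h2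

open scoped _root_.Classical in
theorem Setting.psiZero_eq :
    psiZero N (derK N) (Ψ φ₀) = ∑ v ∈ Finset.univ.filter
      (fun v : core N => ((v : N) : G) ∈ derK N ∧ v ≠ 1), (((idx N : ℤ) + F v : ℤ) : ℝ) ^ 2 := by
  rw [psiZero]
  symm
  refine Finset.sum_bij (fun (v : core N) _ => (v : N)) ?_ (fun v _ w _ e => Subtype.ext e) ?_ ?_
  · intro v hv
    obtain ⟨hv1, hv2⟩ := (Finset.mem_filter.1 hv).2
    exact Finset.mem_filter.2 ⟨Finset.mem_univ _, hv1, fun e => hv2 (Subtype.ext e)⟩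
  · intro v hv
    obtain ⟨hv1, hv2⟩ := (Finset.mem_filter.1 hv).2
    exact ⟨⟨v, derK_le N hv1⟩, Finset.mem_filter.2 ⟨Finset.mem_univ _, hv1,
      fun e => hv2 (congrArg Subtype.val e)⟩, rfl⟩
  · intro v hv
    obtain ⟨hv1, hv2⟩ := (Finset.mem_filter.1 hv).2
    rw [rho_of_le _ (S.cent_derK hv1 fun e => hv2 (Subtype.ext (Subtype.ext e))), V.val_cut hv1,
      Coherence.norm_intCast_sq]

end Cfsg.Agent.OddCharTwelve
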