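import Cfsg.Agent.OddCharTwelve.MCong

/-!
# The characters of `M_σ` fixed by `x`
-/

set_option autoImplicit false
set_option linter.unusedSectionVars false

namespace Cfsg.Agent.OddCharTwelve

open Subgroup Cfsg
open scoped ComplexConjugate commutatorElement

universe u

variable {G : Type u} [Group G] [Fintype G] {M E : Subgroup G} {p : ℕ} [hp : Fact p.Prime]
  {x a : G} [Fintype M] [Fintype (core M)]

/-- The common kernel of the characters fixed by `x`. -/
def fixedKer (M : Subgroup G) (x : G) (hx : x ∈ M) : Subgroup (core M) :=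
  ⨅ f ∈ {f : core M →* ℂˣ | (⟨x, hx⟩ : M) ∈ Char.inertia (lf f)}, f.ker

instance fixedKer_normal (M : Subgroup G) (x : G) (hx : x ∈ M) : (fixedKer M x hx).Normal :=
  Subgroup.normal_iInf_normal fun _ => Subgroup.normal_iInf_normal fun _ =>
    MonoidHom.normal_ker _

theorem fixedKer_comm {hx : x ∈ M} (u v : core M) : ⁅u, v⁆ ∈ fixedKer M x hx := by
  simp only [fixedKer, mem_iInf]
  intro f _
  rw [MonoidHom.mem_ker, map_commutatorElement]
  exact commutatorElement_eq_one_iff_mul_comm.2 (mul_comm _ _)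

theorem fixed_of_mem_lin {hx : x ∈ M} {f : core M →* ℂˣ} (hf : f ∈ lin (fixedKer M x hx)) :
    (⟨x, hx⟩ : M) ∈ Char.inertia (lf f) := by
  rw [Char.mem_inertia]
  funext v
  rw [Char.conjFun_apply]
  set w : core M := ⟨(⟨x, hx⟩ : M) * v * (⟨x, hx⟩ : M)⁻¹, (core_normal M).conj_mem _ v.2 _⟩
  have hmem : w * v⁻¹ ∈ fixedKer M x hx := by
    simp only [fixedKer, mem_iInf]
    intro g hg
    rw [MonoidHom.mem_ker, map_mul, map_inv, show g w = g v from inertia_apply hg v, mul_inv_cancel]
  have := mem_lin.1 hf _ hmem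
  rw [map_mul, map_inv, mul_inv_eq_one] at this
  simp only [lf]
  exact congrArg _ this

theorem Pair.card_cong_one (hP : Pair M E p x a) (S : Subgroup (core M))
    (hSx : ∀ v, coreConj M ⟨x, hP.compl.compl.1 hP.mem⟩ v ∈ S ↔ v ∈ S)
    (hSa : ∀ v, coreConj M ⟨a, hP.amem⟩ v ∈ S ↔ v ∈ S) : Nat.card S ≡ 1 [MOD p] := by
  classical
  set xm : M := ⟨x, hP.compl.compl.1 hP.mem⟩
  set am : M := ⟨a, hP.amem⟩
  set T := Finset.univ.filter (fun v : core M => v ∈ S) with hT
  have h1 := sum_fixed (p := p) T (coreConj M xm) (fun v => by simp [hT, hSx])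
    (coreConj_pow hP.pow) (fun _ => (1 : ℂ)) (fun _ _ => rfl) (fun _ _ => pint_one)
  set T' := T.filter (fun v => coreConj M xm v = v) with hT'
  have hcomm : ∀ v, coreConj M xm (coreConj M am v) = coreConj M am (coreConj M xm v) := by
    intro v
    refine Subtype.ext (Subtype.ext ?_)
    simp only [coreConj_apply]
    show x * (a * ((v : M) : G) * a⁻¹) * x⁻¹ = a * (x * ((v : M) : G) * x⁻¹) * a⁻¹
    calc x * (a * ((v : M) : G) * a⁻¹) * x⁻¹ = (x * a) * ((v : M) : G) * (x * a)⁻¹ := by group
      _ = (a * x) * ((v : M) : G) * (a * x)⁻¹ := by rw [hP.comm.eq]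
      _ = a * (x * ((v : M) : G) * x⁻¹) * a⁻¹ := by group
  have h2 := sum_fixed (p := p) T' (coreConj M am) (fun v => by
      simp only [hT', hT, Finset.mem_filter, Finset.mem_univ, true_and, hSa, hcomm]
      exact and_congr_right fun _ => (coreConj M am).injective.eq_iff)
    (coreConj_pow hP.apow) (fun _ => (1 : ℂ)) (fun _ _ => rfl) (fun _ _ => pint_one)
  have hone : T'.filter (fun v => coreConj M am v = v) = {1} := by
    ext v
    simp only [hT', hT, Finset.mem_filter, Finset.mem_univ, true_and, Finset.mem_singleton,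
      coreConj_fixed]
    constructor
    · exact fun h => Subtype.ext (Subtype.ext (hP.free _ v.2 h.1.2 h.2))
    · rintro rfl; exact ⟨⟨one_mem _, by simp⟩, by simp⟩
  rw [hone, Finset.sum_singleton] at h2
  have h := h1.trans h2
  rw [Finset.sum_const, nsmul_eq_mul, mul_one, hT, ← Fintype.card_subtype,
    ← Nat.card_eq_fintype_card] at h
  exact ((Nat.modEq_iff_dvd' Nat.card_pos).2 (by
    have := dvd_of_cong (p := p) (m := (Nat.card S : ℤ)) (n := 1) (by push_cast; exact h)
    rwa [← Int.natCast_dvd_natCast, Nat.cast_sub Nat.card_pos, Nat.cast_one])).symm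

/-- The number of these characters is `1` modulo `p` and large. -/
theorem Pair.index_fixedKer (hP : Pair M E p x a) {hx : x ∈ M} (hp2 : p ≠ 2) {f : core M →* ℂˣ}
    (hf : f ≠ 1) (hxf : (⟨x, hx⟩ : M) ∈ Char.inertia (lf f)) :
    2 * p + 1 ≤ (fixedKer M x hx).index := by
  classical
  set L := fixedKer M x hx with hL
  have hstab : ∀ (m : M), Commute (m : G) x →
      ∀ v, v ∈ L → coreConj M m v ∈ L := by
    intro m hm v hv
    simp only [hL, fixedKer, mem_iInf] at hv ⊢
    intro g hg
    -- the conjugate character is fixed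
    set g' : core M →* ℂˣ := g.comp (MulAut.conjNormal m).toMonoidHom with hg'
    have hfix : (⟨x, hx⟩ : M) ∈ Char.inertia (lf g') := by
      rw [Char.mem_inertia]
      funext w
      have h := inertia_apply hg (coreConj M m w)
      rw [Char.conjFun_apply]
      simp only [lf, hg', MonoidHom.comp_apply]
      refine congrArg _ (Eq.trans (congrArg g (Subtype.ext (Subtype.ext ?_))) h)
      simp only [MulEquiv.coe_toMonoidHom, MulAut.conjNormal_apply, coreConj_apply,
        Subgroup.coe_mul, Subgroup.coe_inv]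
      calc (m : G) * (x * ((w : M) : G) * x⁻¹) * (m : G)⁻¹
          = ((m : G) * x) * ((w : M) : G) * ((m : G) * x)⁻¹ := by group
        _ = (x * m) * ((w : M) : G) * (x * m)⁻¹ := by rw [hm.eq]
        _ = x * ((m : G) * ((w : M) : G) * (m : G)⁻¹) * x⁻¹ := by group
    exact hv g' hfix
  have hiff : ∀ (m : M), Commute (m : G) x → ∀ v, coreConj M m v ∈ L ↔ v ∈ L := by
    intro m hm v
    refine ⟨fun h => ?_, hstab m hm v⟩
    have := hstab m⁻¹ (by simpa using hm.inv_left) _ h
    convert this using 1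
    refine Subtype.ext (Subtype.ext ?_)
    simp [coreConj_apply, mul_assoc]
  have h1 := hP.card_cong_one L (hiff ⟨x, _⟩ (Commute.refl x)) (hiff ⟨a, _⟩ hP.comm)
  have h2 := hP.card_cong_one ⊤ (by simp) (by simp)
  rw [Subgroup.card_top] at h2
  have h3 : L.index ≡ 1 [MOD p] := by
    have := L.card_mul_index
    have h4 : Nat.card L * L.index ≡ 1 * L.index [MOD p] := h1.mul_right _
    rw [this, one_mul] at h4
    exact h4.symm.trans h2
  have hne1 : L.index ≠ 1 := by
    intro h
    rw [index_eq_one] at h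
    refine hf (MonoidHom.ext fun v => ?_)
    have hv : v ∈ L := h ▸ mem_top v
    simp only [hL, fixedKer, mem_iInf] at hv
    exact hv f hxf
  have hodd : Odd L.index := by
    refine Odd.of_dvd_nat hP.compl.data.minSimple.1 ?_
    exact (index_dvd_card L).trans ((card_subgroup_dvd_card (core M)).trans
      (card_subgroup_dvd_card M))
  have hpos : 0 < L.index := Nat.pos_of_ne_zero L.index_ne_zero_of_finite
  obtain ⟨k, hk⟩ := (Nat.modEq_iff_dvd' hpos).1 h3.symm
  have hpodd : Odd p := hp.out.odd_of_ne_two hp2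
  rcases Nat.lt_or_ge k 2 with hk2 | hk2
  · interval_cases k
    · omega
    · exfalso
      have : L.index = p + 1 := by omega
      rw [this] at hodd
      exact (Nat.not_even_iff_odd.2 hodd) (hpodd.add_odd odd_one)
  · have : p * 2 ≤ p * k := Nat.mul_le_mul_left p hk2
    omega

end Cfsg.Agent.OddCharTwelve
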