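import Cfsg.Agent.OddCharTwelve.MLambda

/-!
# The congruence at an element of order `p`, and the norm on the side of `M`
-/

set_option autoImplicit false
set_option linter.unusedSectionVars false

namespace Cfsg.Agent.OddCharTwelve

open Subgroup Cfsg
open scoped ComplexConjugate commutatorElement

universe u

variable {G : Type u} [Group G]

/-- An element `x` of order `p` in the complement, and a second one. -/
structure Pair (M E : Subgroup G) (p : ℕ) (x a : G) : Prop where
  compl : Compl M E
  mem : x ∈ E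
  ne : x ≠ 1
  pow : x ^ p = 1
  amem : a ∈ M
  apow : a ^ p = 1
  comm : Commute a x
  free : ∀ y ∈ sigmaCore M, Commute x y → Commute a y → y = 1
  fixed : ∃ y ∈ sigmaCore M, y ≠ 1 ∧ Commute x y
  cent : centralizer ({x} : Set G) ≤ M

/-- The coefficient attached to a linear character. -/
def IsCoeff [Fintype G] (M : Subgroup G) [Fintype (core M)] (χ : G → ℂ) (f : ↥(core M) →* ℂˣ)
    (z : ℤ) : Prop :=
  (Nat.card (core M) : ℂ) * z =
    ∑ v : core M, rho M χ ((v : M) : G) * (1 - conj (f v : ℂ))

section Perm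

variable [Finite G] {M : Subgroup G} {p : ℕ}

/-- Conjugation on `M_σ`. -/
noncomputable def coreConj (M : Subgroup G) (m : M) : Equiv.Perm (core M) :=
  (MulAut.conjNormal (H := core M) m).toEquiv

theorem coreConj_apply (m : M) (v : core M) :
    ((coreConj M m v : M) : G) = (m : G) * ((v : M) : G) * (m : G)⁻¹ := by
  simp [coreConj, MulAut.conjNormal_apply]

theorem coreConj_fixed (m : M) (v : core M) :
    coreConj M m v = v ↔ Commute (m : G) ((v : M) : G) := by
  rw [Subtype.ext_iff, Subtype.ext_iff, coreConj_apply, mul_inv_eq_iff_eq_mul]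
  rfl

theorem coreConj_pow {m : M} (hm : (m : G) ^ p = 1) : coreConj M m ^ p = 1 := by
  have : ∀ n : ℕ, coreConj M m ^ n = coreConj M (m ^ n) := by
    intro n
    induction n with
    | zero => ext v; simp [coreConj]
    | succ n ih =>
      ext v
      rw [pow_succ, Equiv.Perm.mul_apply, ih]
      simp only [coreConj_apply, Subgroup.coe_mul, SubgroupClass.coe_pow, pow_succ]
      group
  rw [this, show m ^ p = 1 from Subtype.ext hm]
  ext v
  simp [coreConj]

end Perm

variable [Fintype G] {M E N K1 : Subgroup G} {p : ℕ} [hp : Fact p.Prime] {x a : G}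
variable [Fintype M] [Fintype (core M)]

open scoped _root_.Classical in
/-- The points of `M_σ` fixed by `x`. -/
noncomputable def fixedSet (M : Subgroup G) [Fintype (core M)] (x : G) : Finset (core M) :=
  Finset.univ.filter (fun c : core M => Commute x ((c : M) : G))

theorem Pair.exists_coeff (hP : Pair M E p x a) {χ : G → ℂ} (hχ : IsGeneralizedCharacter G χ)
    (f : ↥(core M) →* ℂˣ) : ∃ z : ℤ, IsCoeff M χ f z := by
  have hd := hP.compl.data
  set δ : core M → ℂ := fun v => 1 - (f v : ℂ) with hδ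
  have hgen : IsGeneralizedCharacter M (indFun (core M) δ) := by
    have : δ = (fun v : core M => (((1 : core M →* ℂˣ) v : ℂˣ) : ℂ)) - fun v => (f v : ℂ) := by
      funext v; simp [hδ]
    rw [this, Char.indFun_sub]
    exact Char.isGeneralized_sub
      (Char.isGeneralized_of_isCharacter (Char.isCharacter_indFun _ (Char.isCharacter_hom _)))
      (Char.isGeneralized_of_isCharacter (Char.isCharacter_indFun _ (Char.isCharacter_hom _)))
  have hsupp : ∀ v : M, (v : G) ∉ typeA1 M → indFun (core M) δ v = 0 := by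
    intro v hv
    by_cases hc : v ∈ core M
    · have h1 : v = 1 := by
        by_contra hne
        exact hv ((mem_typeA1 hd.minSimple hd.coatom).2 ⟨hc, fun e => hne (Subtype.ext e)⟩)
      rw [h1, Char.indFun_apply_one]
      simp [hδ]
    · exact Char.indFun_apply_of_normal _ _ hc
  obtain ⟨z, hz⟩ := Char.classInner_generalized_int
    (Coherence.Dade.isGeneralized_dade (dade1 hd.minSimple hd.coatom) hgen hsupp) hχ
  refine ⟨z, ?_⟩
  have hcl : IsClassFunction G χ := Char.IsGen.isClassFunction hχ
  have h : classInner (tau1Map M (indFun (core M) δ)) χ = (z : ℂ) := hz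
  rw [inner_tau1 hd.minSimple hd.coatom (Char.IsGen.isClassFunction hgen) hsupp hcl] at h
  have hind : classInner (indFun (core M) δ) (fun v : M => rho M χ (v : G)) =
      classInner δ (fun v : core M => rho M χ ((v : M) : G)) := by
    classical
    set R : M → ℂ := fun v => if v ∈ core M then rho M χ (v : G) else 0 with hR
    have h1 : classInner (indFun (core M) δ) (fun v : M => rho M χ (v : G)) =
        classInner (indFun (core M) δ) R := by
      simp only [classInner]
      congr 1
      refine Finset.sum_congr rfl fun v _ => ?_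
      by_cases hv : v ∈ core M
      · rw [hR]; simp [hv]
      · rw [Char.indFun_apply_of_normal _ _ hv, zero_mul, zero_mul]
    have hRcl : IsClassFunction M R := by
      intro v g
      have h2 : g * v * g⁻¹ ∈ core M ↔ v ∈ core M :=
        (core_normal M).mem_comm_iff.trans (by simp)
      by_cases hv : v ∈ core M
      · simp only [hR, if_pos (h2.2 hv), if_pos hv]
        exact rho_conj hd.minSimple hd.coatom hcl g.2 hv
      · simp only [hR, if_neg hv, if_neg (fun h => hv (h2.1 h))]
    rw [h1, Char.classInner_indFun_left _ _ hRcl]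
    simp only [classInner]
    congr 1
    refine Finset.sum_congr rfl fun v _ => ?_
    simp [hR, v.2]
  rw [hind, classInner, inv_mul_eq_iff_eq_mul₀ (Nat.cast_ne_zero.2 Nat.card_pos.ne')] at h
  have h' := congrArg conj h
  rw [map_sum, map_mul, map_natCast, map_intCast] at h'
  refine h'.symm.trans (Finset.sum_congr rfl fun v _ => ?_)
  simp [hδ]
  ring

variable [Fintype N] [Fintype (core N)] {Ψ : (↥N → ℂ) → G → ℂ} {φ₀ : ↥N → ℂ}

open scoped _root_.Classical in
theorem Pair.pint (hP : Pair M E p x a) {χ : G → ℂ} (hχ : IsGeneralizedCharacter G χ)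
    (v : core M) (f : ↥(core M) →* ℂˣ) :
    PInt p (rho M χ ((v : M) : G) * (1 - conj (f v : ℂ))) := by
  by_cases hv1 : v = 1
  · subst hv1
    simp only [map_one, Units.val_one, sub_self, mul_zero]
    exact pint_zero
  have hd := hP.compl.data
  obtain ⟨y, hy, hy1, hxy⟩ := hP.fixed
  have hv : ((v : M) : G) ∈ typeA1 M := (mem_typeA1 hd.minSimple hd.coatom).2
    ⟨v.2, fun e => hv1 (Subtype.ext (Subtype.ext e))⟩
  have hco := (dade1 hd.minSimple hd.coatom).coprime _ hv y
    ((mem_typeA1 hd.minSimple hd.coatom).2 ⟨hy, hy1⟩)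
  refine (pint_rho hd.minSimple hd.coatom hχ fun hpd => ?_).mul
    (pint_of_isIntegral (isIntegral_one.sub ?_))
  · have hpx : p ∣ Nat.card ↥(M ⊓ centralizer ({y} : Set G)) := by
      rw [← orderOf_eq_prime hP.pow hP.ne]
      exact orderOf_dvd_natCard _ (mem_inf.2 ⟨hP.compl.compl.1 hP.mem,
        mem_centralizer_singleton_iff.2 hxy.eq⟩)
    exact hp.out.not_dvd_one ((Nat.coprime_iff_gcd_eq_one.1 hco) ▸ Nat.dvd_gcd hpd hpx)
  · rw [conj_hom]
    exact Char.IsChar.isIntegral (Char.isCharacter_hom f⁻¹) v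

open scoped _root_.Classical in
/-- The congruence between the averaged value at `x` and the coefficients. -/
theorem Pair.cong (hP : Pair M E p x a) (hI : Images N K1 Ψ)
    (hnc : ∀ g : G, N ≠ M.map (MulAut.conj g).toMonoidHom) (h₀ : φ₀ ∈ fam N K1)
    (h3 : 3 ≤ (fam N K1).card) (hR : supportR N x = sigmaCore M ⊓ centralizer ({x} : Set G))
    {f : ↥(core M) →* ℂˣ} (hf : f ≠ 1)
    (hxf : (⟨x, hP.compl.compl.1 hP.mem⟩ : M) ∈ Char.inertia (lf f))
    {z : ℤ} (hz : IsCoeff M (Ψ φ₀) f z) :
    Cong p (rho N (Ψ φ₀) x) (z : ℂ) := by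
  have hd := hP.compl.data
  set ψ := Ψ φ₀ with hψ
  have hgen : IsGeneralizedCharacter G ψ := hI.gen _ h₀
  set xm : M := ⟨x, hP.compl.compl.1 hP.mem⟩ with hxm
  set am : M := ⟨a, hP.amem⟩ with ham
  set S := fixedSet M x with hS
  have hfixS : S = Finset.univ.filter (fun v : core M => coreConj M xm v = v) := by
    ext v; simp [hS, fixedSet, coreConj_fixed, hxm]
  -- the orders
  have hr1 : Cong p ((S.card : ℂ)) 1 := by
    have h := sum_fixed (p := p) S (coreConj M am) (fun v => by
        simp only [hS, fixedSet, Finset.mem_filter, Finset.mem_univ, true_and, coreConj_apply]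
        have ha : Commute x (a : G) := hP.comm.symm
        constructor
        · intro h
          have := ((ha.inv_right.mul_right h).mul_right ha)
          simpa [mul_assoc, ham] using this
        · exact fun h => (ha.mul_right h).mul_right ha.inv_right)
      (coreConj_pow hP.apow) (fun _ => (1 : ℂ)) (fun _ _ => rfl) (fun _ _ => pint_one)
    have hone : S.filter (fun v => coreConj M am v = v) = {1} := by
      ext v
      simp only [hS, fixedSet, Finset.mem_filter, Finset.mem_univ, true_and,
        Finset.mem_singleton, coreConj_fixed]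
      constructor
      · exact fun h => Subtype.ext (Subtype.ext (hP.free _ v.2 h.1 h.2))
      · rintro rfl; simp
    rwa [hone, Finset.sum_singleton, Finset.sum_const, nsmul_eq_mul, mul_one] at h
  have hhr : Cong p (Nat.card (core M) : ℂ) (S.card : ℂ) := by
    have h := sum_fixed (p := p) (Finset.univ : Finset (core M)) (coreConj M xm) (fun v => by simp)
      (coreConj_pow hP.pow) (fun _ => (1 : ℂ)) (fun _ _ => rfl) (fun _ _ => pint_one)
    rwa [← hfixS, Finset.sum_const, Finset.sum_const, nsmul_eq_mul, nsmul_eq_mul, mul_one, mul_one,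
      Finset.card_univ, ← Nat.card_eq_fintype_card] at h
  -- the vanishing sum over the fixed points
  have horth : ∑ c ∈ S, ψ (x * ((c : M) : G)) * conj (f c : ℂ) = 0 := by
    have h1 := hP.compl.orth hI hnc h₀ h3 hf (x := xm) hP.mem
      (fun e => hP.ne (congrArg Subtype.val e)) hxf
    have h2 := hP.compl.sum_coset (x := xm) hP.mem
      (F := fun n => ψ (x * ((n : M) : G)) * conj (f n : ℂ)) fun g c hc => by
        have hcl := Char.IsGen.isClassFunction hgen
        have e1 : x * ((((⟨xm⁻¹ * (g : M) * xm, (core_normal M).conj_mem' _ g.2 xm⟩ : core M) * c *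
            g⁻¹ : core M) : M) : G) = ((g : M) : G) * (x * ((c : M) : G)) * ((g : M) : G)⁻¹ := by
          simp only [Subgroup.coe_mul, Subgroup.coe_inv, hxm]
          group
        have e2 : f (⟨xm⁻¹ * (g : M) * xm, (core_normal M).conj_mem' _ g.2 xm⟩ * c * g⁻¹) = f c := by
          rw [map_mul, map_mul, map_inv,
            show f ⟨xm⁻¹ * (g : M) * xm, (core_normal M).conj_mem' _ g.2 xm⟩ = f g by
              simpa using inertia_apply (inv_mem hxf) g,
            mul_comm (f g), mul_inv_cancel_right]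
        simp only [e1, e2]
        rw [hcl]
    rw [h1, mul_zero, eq_comm] at h2
    exact (mul_eq_zero.1 h2).resolve_left (Nat.cast_ne_zero.2 Nat.card_pos.ne')
  have hrho : (S.card : ℂ) * rho N ψ x = ∑ c ∈ S, ψ (x * ((c : M) : G)) := by
    have hcard : Nat.card (supportR N x) = S.card := by
      rw [hR, hS, fixedSet, ← Fintype.card_subtype, ← Nat.card_eq_fintype_card]
      exact Nat.card_congr
        { toFun := fun u => ⟨⟨⟨u.1, OddLocal.sigmaCore_le M u.2.1⟩, u.2.1⟩,
            (mem_centralizer_singleton_iff.1 u.2.2).symm⟩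
          invFun := fun c => ⟨((c.1 : M) : G), c.1.2, mem_centralizer_singleton_iff.2 c.2.symm⟩
          left_inv := fun u => rfl
          right_inv := fun c => rfl }
    rw [rho, hcard, ← mul_assoc, mul_inv_cancel₀ (by
      rw [← hcard]; exact Nat.cast_ne_zero.2 Nat.card_pos.ne'), one_mul,
      finsum_mem_eq_finite_toFinset_sum _ (Set.toFinite _)]
    symm
    refine Finset.sum_bij' (fun c _ => ((c : M) : G))
      (fun u hu => ⟨⟨u, OddLocal.sigmaCore_le M (by
        have := (Set.Finite.mem_toFinset _).1 hu; rw [hR] at this; exact this.1)⟩, by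
        have := (Set.Finite.mem_toFinset _).1 hu; rw [hR] at this; exact this.1⟩)
      (fun c hc => (Set.Finite.mem_toFinset _).2 (by
        rw [hR]
        exact ⟨c.2, mem_centralizer_singleton_iff.2 (Finset.mem_filter.1 hc).2.symm⟩))
      (fun u hu => Finset.mem_filter.2 ⟨Finset.mem_univ _, by
        have := (Set.Finite.mem_toFinset _).1 hu
        rw [hR] at this
        exact (mem_centralizer_singleton_iff.1 this.2).symm⟩)
      (fun c _ => rfl) (fun u _ => rfl) fun c _ => rfl
  have hxo : orderOf x = p := orderOf_eq_prime hP.pow hP.ne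
  -- from the values at `x y` to the averaged values
  have hsum : Cong p (∑ c ∈ S, ψ (x * ((c : M) : G)) * (1 - conj (f c : ℂ)))
      (∑ c ∈ S, rho M ψ ((c : M) : G) * (1 - conj (f c : ℂ))) := by
    refine Cong.sum _ _ _ fun c hc => ?_
    have hxc : Commute x ((c : M) : G) := (Finset.mem_filter.1 hc).2
    by_cases hc1 : c = 1
    · subst hc1
      simp only [map_one, Units.val_one, map_one, sub_self, mul_zero]
      exact cong_rfl
    have hint : PInt p (1 - conj (f c : ℂ)) := pint_of_isIntegral (isIntegral_one.sub (by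
      rw [conj_hom]; exact Char.IsChar.isIntegral (Char.isCharacter_hom f⁻¹) c))
    have hc1' : ((c : M) : G) ≠ 1 := fun e => hc1 (Subtype.ext (Subtype.ext e))
    have hfree : supportR M ((c : M) : G) ⊓ centralizer ({x} : Set G) = ⊥ := by
      have hD := dade1 hd.minSimple hd.coatom
      have hca : ((c : M) : G) ∈ typeA1 M := (mem_typeA1 hd.minSimple hd.coatom).2 ⟨c.2, hc1'⟩
      rw [eq_bot_iff, ← hD.inf_eq_bot _ hca]
      exact fun u hu => ⟨hu.1, hP.cent hu.2, hD.le_centralizer _ hca hu.1⟩
    obtain ⟨h1, -⟩ := rho_cong hd.minSimple hd.coatom hgen (hP.compl.compl.1 hP.mem) hP.pow c.2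
      hc1' hxc hfree
    have := Cong.mul_left hint ((cong_mul hgen hxo hxc.eq).trans h1.symm)
    rwa [mul_comm _ (ψ _), mul_comm _ (rho M ψ _)] at this
  have hfull : Cong p (∑ v : core M, rho M ψ ((v : M) : G) * (1 - conj (f v : ℂ)))
      (∑ c ∈ S, rho M ψ ((c : M) : G) * (1 - conj (f c : ℂ))) := by
    have h := sum_fixed (p := p) (Finset.univ : Finset (core M)) (coreConj M xm) (fun v => by simp)
      (coreConj_pow hP.pow) (fun v => rho M ψ ((v : M) : G) * (1 - conj (f v : ℂ)))
      (fun v _ => by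
        have e2 : f (coreConj M xm v) = f v := inertia_apply hxf v
        simp only [coreConj_apply, e2]
        have e3 : rho M ψ ((xm : G) * ((v : M) : G) * (xm : G)⁻¹) = rho M ψ ((v : M) : G) :=
          rho_conj hd.minSimple hd.coatom (Char.IsGen.isClassFunction hgen) xm.2 v.2
        rw [e3])
      (fun v _ => hP.pint hgen v f)
    rwa [← hfixS] at h
  have hlhs : Cong p ((S.card : ℂ) * rho N ψ x) ((Nat.card (core M) : ℂ) * z) := by
    rw [hrho, show ∑ c ∈ S, ψ (x * ((c : M) : G)) =
      ∑ c ∈ S, ψ (x * ((c : M) : G)) * (1 - conj (f c : ℂ)) by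
        simp only [mul_sub, mul_one, Finset.sum_sub_distrib, horth, sub_zero]]
    exact (hsum.trans hfull.symm).trans (cong_of_eq hz.symm)
  have hρint : PInt p (rho N ψ x) := by
    refine pint_rho hI.side.minSimple hI.side.coatom hgen fun hpd => ?_
    rw [hR] at hpd
    have hco := OddLocal.compl_coprime hd.minSimple hd.coatom hP.compl.compl
    exact hp.out.not_dvd_one ((Nat.coprime_iff_gcd_eq_one.1 hco) ▸ Nat.dvd_gcd
      (hxo ▸ orderOf_dvd_natCard _ hP.mem) (hpd.trans (card_dvd_of_le inf_le_left)))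
  have h1 : Cong p ((S.card : ℂ) * rho N ψ x) (rho N ψ x) := by
    have := Cong.mul_left hρint hr1
    rwa [mul_one, mul_comm] at this
  have h2 : Cong p ((Nat.card (core M) : ℂ) * z) (z : ℂ) := by
    have := Cong.mul_left (pint_int (p := p) z) (hhr.trans hr1)
    rwa [mul_one, mul_comm] at this
  exact h1.symm.trans (hlhs.trans h2)

open scoped _root_.Classical in
/-- Coefficients bounded below force a large norm. -/
theorem Pair.gain (hP : Pair M E p x a) {χ : G → ℂ} {L : Subgroup (core M)} [L.Normal]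
    (hL : ∀ u v : core M, ⁅u, v⁆ ∈ L) (z : (↥(core M) →* ℂˣ) → ℤ)
    (hz : ∀ f, IsCoeff M χ f (z f)) {μ : ℝ} (hμ0 : 0 ≤ μ)
    (hμ : ∀ f ∈ lin L, f ≠ 1 → μ ≤ |(z f : ℝ)|) :
    (Nat.card (core M) : ℝ) * ((L.index : ℝ) - 1) * μ ^ 2 ≤
      (L.index : ℝ) * ∑ v ∈ Finset.univ.filter (fun v : M => (v : G) ∈ typeA1 M),
        ‖rho M χ (v : G)‖ ^ 2 := by
  have hd := hP.compl.data
  set F : core M → ℂ := fun v => if v = 1 then 0 else rho M χ ((v : M) : G) with hF
  have hsum : ∑ v : core M, ‖F v‖ ^ 2 =
      ∑ v ∈ Finset.univ.filter (fun v : M => (v : G) ∈ typeA1 M), ‖rho M χ (v : G)‖ ^ 2 := by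
    rw [← Finset.sum_filter_add_sum_filter_not Finset.univ (fun v : core M => v ≠ 1),
      Finset.sum_eq_zero (s := Finset.univ.filter fun v : core M => ¬ v ≠ 1) fun v hv => by
        simp [hF, not_not.1 (Finset.mem_filter.1 hv).2], add_zero]
    refine Finset.sum_bij' (fun v _ => (v : M))
      (fun v hv => ⟨v, ((mem_typeA1 hd.minSimple hd.coatom).1 (Finset.mem_filter.1 hv).2).1⟩)
      (fun v hv => Finset.mem_filter.2 ⟨Finset.mem_univ _, (mem_typeA1 hd.minSimple hd.coatom).2
        ⟨v.2, fun e => (Finset.mem_filter.1 hv).2 (Subtype.ext (Subtype.ext e))⟩⟩)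
      (fun v hv => Finset.mem_filter.2 ⟨Finset.mem_univ _, fun e =>
        ((mem_typeA1 hd.minSimple hd.coatom).1 (Finset.mem_filter.1 hv).2).2
          (congrArg (fun w : core M => ((w : M) : G)) e)⟩)
      (fun v _ => rfl) (fun v _ => rfl) fun v hv => by simp [hF, (Finset.mem_filter.1 hv).2]
  set A : (↥(core M) →* ℂˣ) → ℂ := fun f => ∑ v : core M, F v * conj (f v : ℂ) with hA
  set h : ℝ := (Nat.card (core M) : ℝ) with hh
  have hh0 : 0 < h := Nat.cast_pos.2 Nat.card_pos
  have hrel : ∀ f, A f = A 1 - ((h * z f : ℝ) : ℂ) := by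
    intro f
    rw [eq_sub_iff_add_eq, hh]
    push_cast
    rw [hz f, hA]
    simp only [MonoidHom.one_apply, Units.val_one, map_one, mul_one]
    rw [← Finset.sum_add_distrib]
    refine Finset.sum_congr rfl fun v _ => ?_
    by_cases hv : v = 1
    · subst hv; simp [hF]
    · simp [hF, hv]; ring
  have hb := bessel_lin F (lin L)
  rw [hsum] at hb
  have hb' : ∑ f ∈ lin L, ((A 1).re - h * (z f : ℝ)) ^ 2 ≤ h *
      ∑ v ∈ Finset.univ.filter (fun v : M => (v : G) ∈ typeA1 M), ‖rho M χ (v : G)‖ ^ 2 := by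
    refine le_trans (Finset.sum_le_sum fun f _ => ?_) hb
    change _ ≤ ‖A f‖ ^ 2
    rw [hrel f, Complex.sq_norm, Complex.normSq_apply, Complex.sub_re, Complex.ofReal_re,
      Complex.sub_im, Complex.ofReal_im, sub_zero]
    nlinarith [mul_self_nonneg (A 1).im]
  have hone : z 1 = 0 := by
    have := hz 1
    rw [IsCoeff, Finset.sum_eq_zero fun v _ => by simp, mul_eq_zero] at this
    exact_mod_cast this.resolve_left (Nat.cast_ne_zero.2 Nat.card_pos.ne')
  set n : ℝ := (L.index : ℝ) with hn
  have hcard : ((lin L).card : ℝ) = n := by rw [card_lin hL]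
  set P := ∑ f ∈ lin L, (z f : ℝ) with hPsum
  set Q := ∑ f ∈ lin L, (z f : ℝ) ^ 2 with hQ
  have hexp : ∑ f ∈ lin L, ((A 1).re - h * (z f : ℝ)) ^ 2 =
      n * (A 1).re ^ 2 - 2 * (A 1).re * h * P + h ^ 2 * Q := by
    rw [← hcard, hPsum, hQ, Finset.mul_sum, Finset.mul_sum, ← nsmul_eq_mul, ← Finset.sum_const,
      ← Finset.sum_sub_distrib, ← Finset.sum_add_distrib]
    exact Finset.sum_congr rfl fun f _ => by ring
  have hCS : P ^ 2 ≤ (n - 1) * Q := by
    have h1 := sq_sum_le_card_mul_sum_sq (s := (lin L).erase 1) (f := fun f => (z f : ℝ))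
    rw [Finset.sum_erase _ (by simp [hone]), Finset.sum_erase _ (by simp [hone]),
      Finset.cast_card_erase_of_mem one_mem_lin, hcard] at h1
    exact h1
  have hQ0 : (n - 1) * μ ^ 2 ≤ Q := by
    rw [hQ, ← Finset.sum_erase (lin L) (a := 1) (by simp [hone])]
    have h1 : ∀ f ∈ (lin L).erase 1, μ ^ 2 ≤ (z f : ℝ) ^ 2 := fun f hf => by
      rw [← sq_abs (z f : ℝ)]
      exact pow_le_pow_left₀ hμ0 (hμ f (Finset.mem_erase.1 hf).2 (Finset.mem_erase.1 hf).1) 2
    have := Finset.card_nsmul_le_sum _ _ _ h1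
    rwa [nsmul_eq_mul, Finset.cast_card_erase_of_mem one_mem_lin, hcard] at this
  rw [hexp] at hb'
  set U := ∑ v ∈ Finset.univ.filter (fun v : M => (v : G) ∈ typeA1 M), ‖rho M χ (v : G)‖ ^ 2
  have hn1 : 1 ≤ n := by
    rw [hn]; exact_mod_cast Nat.pos_of_ne_zero L.index_ne_zero_of_finite
  have key : h ^ 2 * Q ≤ n * (n * (A 1).re ^ 2 - 2 * (A 1).re * h * P + h ^ 2 * Q) := by
    nlinarith [sq_nonneg (n * (A 1).re - h * P), mul_le_mul_of_nonneg_left hCS (sq_nonneg h)]
  have : h * (h * ((n - 1) * μ ^ 2)) ≤ h * (n * U) := by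
    calc h * (h * ((n - 1) * μ ^ 2)) = h ^ 2 * ((n - 1) * μ ^ 2) := by ring
      _ ≤ h ^ 2 * Q := mul_le_mul_of_nonneg_left hQ0 (sq_nonneg h)
      _ ≤ n * (h * U) := key.trans (mul_le_mul_of_nonneg_left hb' (by linarith))
      _ = h * (n * U) := by ring
  have := le_of_mul_le_mul_left this hh0
  linarith

end Cfsg.Agent.OddCharTwelve
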