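import Cfsg.Agent.OddCharTwelve.MTI
import Cfsg.Agent.OddLocal.SigmaComplement

/-!
# Linear characters of `M_σ` fixed by an element of the complement
-/

set_option autoImplicit false
set_option linter.unusedSectionVars false

namespace Cfsg.Agent.OddCharTwelve

open Subgroup Cfsg
open scoped ComplexConjugate commutatorElement

universe u

variable {G : Type u} [Group G]

/-- A complement whose elements fixing a point of `M_σ` commute. -/
structure Compl (M E : Subgroup G) : Prop where
  data : MData M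
  compl : IsComplIn E (sigmaCore M) M
  comm : ∀ a ∈ E, ∀ b ∈ E, (∃ y ∈ sigmaCore M, y ≠ 1 ∧ Commute a y) →
    (∃ y ∈ sigmaCore M, y ≠ 1 ∧ Commute b y) → Commute a b

variable [Finite G] {M E : Subgroup G} (hC : Compl M E)

include hC

theorem Compl.coprime_compl {e : G} (he : e ∈ E) : (orderOf e).Coprime (Nat.card (core M)) := by
  rw [card_core]
  exact ((OddLocal.compl_coprime hC.data.minSimple hC.data.coatom hC.compl).coprime_dvd_left
    (orderOf_dvd_natCard _ he))

theorem Compl.part_unique {a a' b b' : G} (ha : a ∈ E) (ha' : a' ∈ E) (hb : b ∈ sigmaCore M)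
    (hb' : b' ∈ sigmaCore M) (h : a * b = a' * b') : a = a' ∧ b = b' := by
  have h1 : a'⁻¹ * a = b' * b⁻¹ := by
    rw [inv_mul_eq_iff_eq_mul, ← mul_assoc, ← h, mul_inv_cancel_right]
  have h2 : a'⁻¹ * a = 1 := mem_bot.1 (hC.compl.2.2.1 ▸
    ⟨E.mul_mem (E.inv_mem ha') ha, by rw [h1]; exact (sigmaCore M).mul_mem hb' ((sigmaCore M).inv_mem hb)⟩)
  have h3 : a' = a := inv_mul_eq_one.1 h2
  subst h3
  exact ⟨rfl, mul_left_cancel h⟩

variable {f : ↥(core M) →* ℂˣ}

theorem Compl.core_le : core M ≤ Char.inertia (G := ↥M) (lf f) :=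
  Char.le_inertia (Char.isClassFunction_of_isIrr (Char.isIrrCharacter_hom f))

omit hC in
theorem inertia_apply {w : M} (hw : w ∈ Char.inertia (lf f)) (v : core M) :
    f ⟨w * v * w⁻¹, (core_normal M).conj_mem _ v.2 w⟩ = f v :=
  Units.ext (congrFun (Char.mem_inertia.1 hw) v)

/-- The extension of the character to its inertia group. -/
theorem Compl.exists_ext :
    ∃ φ : ↥(Char.inertia (G := ↥M) (lf f)) →* ℂˣ,
      (∀ n : core M, φ ⟨n, hC.core_le n.2⟩ = f n) ∧
      ∀ (e : Char.inertia (G := ↥M) (lf f)), ((e : M) : G) ∈ E → φ e = 1 := by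
  have hdec : ∀ v : M, ∃ (e : M) (n : core M), (e : G) ∈ E ∧ v = e * (n : M) := by
    intro v
    obtain ⟨a, ha, b, hb, hab⟩ := hC.compl.2.2.2 (v : G) v.2
    exact ⟨⟨a, hC.compl.1 ha⟩, ⟨⟨b, OddLocal.sigmaCore_le M hb⟩, hb⟩, ha,
      Subtype.ext hab⟩
  choose ep np hep hnp using hdec
  have huniq : ∀ (v e : M) (n : core M), (e : G) ∈ E → v = e * (n : M) → ep v = e ∧ np v = n := by
    intro v e n he hv
    obtain ⟨h1, h2⟩ := hC.part_unique (hep v) he (np v).2 n.2
      (congrArg Subtype.val ((hnp v).symm.trans hv))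
    exact ⟨Subtype.ext h1, Subtype.ext (Subtype.ext h2)⟩
  have hin : ∀ v : Char.inertia (G := ↥M) (lf f), ep (v : M) ∈ Char.inertia (G := ↥M) (lf f) := by
    intro v
    rw [show ep (v : M) = (v : M) * ((np (v : M) : M))⁻¹ by
      rw [eq_mul_inv_iff_mul_eq]; exact (hnp _).symm]
    exact mul_mem v.2 (inv_mem (hC.core_le (np (v : M)).2))
  refine ⟨MonoidHom.mk' (fun v => f (np (v : M))) fun a b => ?_, fun n => ?_, fun e he => ?_⟩
  · have hconj : ((ep (b : M))⁻¹ * (np (a : M) : M) * ep (b : M)) ∈ core M :=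
      (core_normal M).conj_mem' _ (np (a : M)).2 _
    obtain ⟨-, h2⟩ := huniq ((a * b : Char.inertia (G := ↥M) (lf f)) : M)
      (ep (a : M) * ep (b : M)) (⟨_, hconj⟩ * np (b : M))
      (E.mul_mem (hep _) (hep _)) (by
        rw [Subgroup.coe_mul]
        conv_lhs => rw [hnp (a : M), hnp (b : M)]
        rw [Subgroup.coe_mul]
        group)
    show f (np ((a * b : _) : M)) = f (np (a : M)) * f (np (b : M))
    rw [h2, map_mul]
    congr 1
    have := inertia_apply (inv_mem (hin b)) (np (a : M))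
    simpa [inv_inv] using this
  · exact congrArg f (huniq _ 1 n (one_mem E) (one_mul _).symm).2
  · show f (np (e : M)) = 1
    rw [(huniq _ (e : M) 1 he (mul_one _).symm).2, map_one]

theorem Compl.inertia_comm (hf : f ≠ 1) (a b : Char.inertia (G := ↥M) (lf f)) :
    ⁅a, b⁆ ∈ (core M).subgroupOf (Char.inertia (G := ↥M) (lf f)) := by
  have hdec : ∀ v : Char.inertia (G := ↥M) (lf f), ∃ (e : M) (n : core M), (e : G) ∈ E ∧
      e ∈ Char.inertia (G := ↥M) (lf f) ∧ (v : M) = e * (n : M) := by
    intro v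
    obtain ⟨x, hx, y, hy, hxy⟩ := hC.compl.2.2.2 ((v : M) : G) (v : M).2
    have hv : (v : M) = ⟨x, hC.compl.1 hx⟩ * ⟨y, OddLocal.sigmaCore_le M hy⟩ :=
      Subtype.ext hxy
    refine ⟨_, ⟨⟨y, OddLocal.sigmaCore_le M hy⟩, hy⟩, hx, ?_, hv⟩
    rw [eq_mul_inv_iff_mul_eq.2 hv.symm]
    exact mul_mem v.2 (inv_mem (hC.core_le (show _ ∈ core M from hy)))
  obtain ⟨e, m, he, hei, ha⟩ := hdec a
  obtain ⟨e', m', he', hei', hb⟩ := hdec b
  have hfx : ∀ c : M, (c : G) ∈ E → c ∈ Char.inertia (G := ↥M) (lf f) →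
      ∃ y ∈ sigmaCore M, y ≠ 1 ∧ Commute (c : G) y := by
    intro c hc hci
    obtain ⟨d, hd1, hd2⟩ := hC.data.exists_fixed hf (w := c) (by
      rw [← Subgroup.orderOf_coe]; exact hC.coprime_compl hc) hci
    exact ⟨_, d.2, fun h => hd2 (by
      rw [show d = 1 from Subtype.ext (Subtype.ext h), map_one]), hd1⟩
  have hee : Commute e e' := Subtype.ext (hC.comm _ he _ he' (hfx e he hei) (hfx e' he' hei'))
  rw [mem_subgroupOf, ← QuotientGroup.eq_one_iff, ← QuotientGroup.mk'_apply]
  rw [show ((⁅a, b⁆ : Char.inertia (G := ↥M) (lf f)) : M) = ⁅(a : M), (b : M)⁆ by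
    simp [commutatorElement_def]]
  rw [map_commutatorElement, ha, hb, map_mul, map_mul,
    show QuotientGroup.mk' (core M) (m : M) = 1 from (QuotientGroup.eq_one_iff _).2 m.2,
    show QuotientGroup.mk' (core M) (m' : M) = 1 from (QuotientGroup.eq_one_iff _).2 m'.2,
    mul_one, mul_one, commutatorElement_eq_one_iff_mul_comm, ← map_mul, ← map_mul, hee.eq]

variable [Fintype G] [Fintype M] [Fintype (core M)]

open scoped _root_.Classical in
/-- The inertia part: the sum over a coset of `M_σ` vanishes. -/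
theorem Compl.orth {N K1 : Subgroup G} [Fintype N] [Fintype (core N)]
    {Ψ : (↥N → ℂ) → G → ℂ} (hI : Images N K1 Ψ)
    (hnc : ∀ g : G, N ≠ M.map (MulAut.conj g).toMonoidHom) {φ₀ : ↥N → ℂ}
    (h₀ : φ₀ ∈ fam N K1) (h3 : 3 ≤ (fam N K1).card) (hf : f ≠ 1) {x : M} (hx : (x : G) ∈ E)
    (hx1 : x ≠ 1) (hxf : x ∈ Char.inertia (lf f)) :
    ∑ n : core M, Ψ φ₀ ((x : G) * ((n : M) : G)) * conj (f n : ℂ) = 0 := by
  set T := Char.inertia (G := ↥M) (lf f) with hT
  letI : Fintype T := Fintype.ofFinite _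
  obtain ⟨φ, hφn, hφe⟩ := hC.exists_ext (f := f)
  set HT := (core M).subgroupOf T with hHT
  haveI : HT.Normal := inferInstance
  have hcm : ∀ a b : T, ⁅a, b⁆ ∈ HT := hC.inertia_comm hf
  have hd := hC.data
  -- the differences
  have hzero : ∀ ν ∈ lin HT,
      classInner (fun v : T => (φ v : ℂ) * (ν v : ℂ) - (φ v : ℂ))
        (fun v : T => Ψ φ₀ ((v : M) : G)) = 0 := by
    intro ν hν
    set δ : T → ℂ := fun v => (φ v : ℂ) * (ν v : ℂ) - (φ v : ℂ) with hδ
    have hagree : ∀ n : T, (n : M) ∈ core M → (φ * ν) n = φ n := fun n hn => by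
      rw [MonoidHom.mul_apply, mem_lin.1 hν n hn, mul_one]
    set β := indFun T δ with hβ
    have hβeq : β = indFun T (fun v => ((φ * ν) v : ℂ)) - indFun T (fun v => (φ v : ℂ)) := by
      rw [← Char.indFun_sub]; rfl
    have hcl : IsClassFunction M β := Char.isClassFunction_indFun T δ
    have hgen : IsGeneralizedCharacter M β := by
      rw [hβeq]
      exact Char.isGeneralized_sub
        (Char.isGeneralized_of_isCharacter (Char.isCharacter_indFun T (Char.isCharacter_hom _)))
        (Char.isGeneralized_of_isCharacter (Char.isCharacter_indFun T (Char.isCharacter_hom _)))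
    have hδ0 : ∀ v : T, (v : M) ∈ core M → δ v = 0 := fun v hv => by
      simp only [hδ, mem_lin.1 hν v hv, Units.val_one, mul_one, sub_self]
    have hsupp : ∀ v : M, ¬ Moving M (v : G) → β v = 0 := by
      intro v hv
      rw [hβ, Char.indFun_apply, Finset.sum_eq_zero, mul_zero]
      intro m _
      by_cases hm : m⁻¹ * v * m ∈ T
      · rw [Char.extendByZero_of_mem T δ hm]
        by_contra hne
        refine hv ?_
        set v' : M := m⁻¹ * v * m with hv'
        have hnot : v' ∉ core M := fun h => hne (hδ0 _ h)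
        have hpk : v' ^ pick M ∈ T := pow_mem hm _
        have hne1 : (v' : G) ^ pick M ≠ 1 := fun e => hnot (by
          have := hd.pow_mod v'.2
          rwa [e, inv_one, one_mul] at this)
        obtain ⟨d, hd1, hd2⟩ := hd.exists_fixed hf (w := v' ^ pick M) (by
          rw [← Subgroup.orderOf_coe]
          exact hd.coprime_part v'.2) hpk
        have hmov : Moving M (v' : G) := ⟨v'.2, hne1, _, d.2, fun h => hd2 (by
          rw [show d = 1 from Subtype.ext (Subtype.ext h), map_one]), hd1⟩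
        have := hd.moving_conj hmov m.2
        convert this using 1
        simp [hv', mul_assoc]
      · exact Char.extendByZero_of_not_mem T δ hm
    have hsep : ∀ (a b : T →* ℂˣ), (∀ n : T, (n : M) ∈ core M → a n = φ n) →
        (∀ n : T, (n : M) ∈ core M → b n = φ n) →
        classInner (indFun T fun v => (a v : ℂ)) (indFun T fun v => (b v : ℂ)) =
          classInner (fun v : T => (a v : ℂ)) (fun v : T => (b v : ℂ)) := by
      intro a b ha hb
      refine Char.classInner_ind_hom T a b fun z hz => ?_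
      have hne : Char.conjFun z⁻¹ (lf f) ≠ lf f := fun e => hz (inv_mem_iff.1 (Char.mem_inertia.2 e))
      obtain ⟨n, hn⟩ := Function.ne_iff.1 hne
      rw [Char.conjFun_apply] at hn
      have hzn : z⁻¹ * (n : M) * z ∈ core M := (core_normal M).conj_mem' _ n.2 z
      refine ⟨⟨n, hC.core_le n.2⟩, hC.core_le hzn, fun e => hn ?_⟩
      rw [ha _ n.2, hb ⟨_, hC.core_le hzn⟩ hzn, hφn n, hφn ⟨_, hzn⟩] at e
      simp only [lf]
      rw [e]
      congr 2
      exact Subtype.ext (by simp)
    have hnorm : (classInner β β).re ≤ (2 : ℕ) := by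
      rw [hβeq, Char.classInner_sub_left, Char.classInner_sub_right, Char.classInner_sub_right,
        hsep _ _ hagree hagree, hsep _ _ hagree (fun _ _ => rfl), hsep _ _ (fun _ _ => rfl) hagree,
        hsep _ _ (fun _ _ => rfl) (fun _ _ => rfl), classInner_hom, classInner_hom, classInner_hom,
        classInner_hom]
      split_ifs <;> norm_num
    have hz : ∀ w : M, (w : G) ≠ 1 → (orderOf (w : G)).Coprime (Nat.card (core M)) →
        ∑ c ∈ Finset.univ.filter (fun c : core M => Commute (w : G) ((c : M) : G)),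
          β (w * c) = 0 := by
      intro w _ hwc
      simp only [hβ, Char.indFun_apply]
      rw [← Finset.mul_sum, Finset.sum_comm]
      refine mul_eq_zero_of_right _ (Finset.sum_eq_zero fun m _ => ?_)
      by_cases hm : m⁻¹ * w * m ∈ T
      · obtain ⟨d, hd1, hd2⟩ := hd.exists_fixed hf (w := m⁻¹ * w * m) (by
          rwa [← Subgroup.orderOf_coe, Subgroup.coe_mul, Subgroup.coe_mul, Subgroup.coe_inv,
            show (m : G)⁻¹ * w * m = (m : G)⁻¹ * w * ((m : G)⁻¹)⁻¹ by rw [inv_inv],
            OddLocal.orderOf_conj]) hm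
        set S := ∑ c ∈ Finset.univ.filter (fun c : core M => Commute (w : G) ((c : M) : G)),
          (f ⟨m⁻¹ * (c : M) * m, (core_normal M).conj_mem' _ c.2 m⟩ : ℂ) with hS
        have hS0 : S = 0 := by
          have hshift : (f d : ℂ) * S = S := by
            rw [hS, Finset.mul_sum]
            have hdm : Commute (w : G) ((m * d * m⁻¹ : M) : G) := by
              have := (hd1.conj (m : G) : _)
              simpa [mul_assoc] using this
            refine Finset.sum_bij'
              (fun c _ => (⟨m * d * m⁻¹, (core_normal M).conj_mem _ d.2 m⟩ : core M) * c)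
              (fun c _ => (⟨m * d * m⁻¹, (core_normal M).conj_mem _ d.2 m⟩ : core M)⁻¹ * c)
              (fun c hc => Finset.mem_filter.2 ⟨Finset.mem_univ _,
                hdm.mul_right (Finset.mem_filter.1 hc).2⟩)
              (fun c hc => Finset.mem_filter.2 ⟨Finset.mem_univ _,
                hdm.inv_right.mul_right (Finset.mem_filter.1 hc).2⟩)
              (fun c _ => inv_mul_cancel_left _ c) (fun c _ => mul_inv_cancel_left _ c)
              fun c _ => ?_
            rw [← Units.val_mul, ← map_mul]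
            congr 2
            exact Subtype.ext (by simp [mul_assoc])
          have hne : (f d : ℂ) - 1 ≠ 0 := sub_ne_zero.2 fun e => hd2 (Units.ext e)
          exact (mul_eq_zero.1 (show ((f d : ℂ) - 1) * S = 0 by
            linear_combination hshift)).resolve_left hne
        rw [Finset.sum_congr rfl (g := fun c : core M => δ ⟨_, hm⟩ *
          (f ⟨m⁻¹ * (c : M) * m, (core_normal M).conj_mem' _ c.2 m⟩ : ℂ)) fun c _ => ?_,
          ← Finset.mul_sum, ← hS, hS0, mul_zero]
        have hcT : m⁻¹ * (c : M) * m ∈ T := hC.core_le ((core_normal M).conj_mem' _ c.2 m)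
        have hprod : m⁻¹ * (w * (c : M)) * m = (m⁻¹ * w * m) * (m⁻¹ * (c : M) * m) := by group
        rw [Char.extendByZero_of_mem T δ (by rw [hprod]; exact mul_mem hm hcT),
          show (⟨m⁻¹ * (w * (c : M)) * m, _⟩ : T) = ⟨_, hm⟩ * ⟨_, hcT⟩ from Subtype.ext hprod,
          ← hφn ⟨_, (core_normal M).conj_mem' _ c.2 m⟩]
        simp only [hδ, map_mul, Units.val_mul,
          mem_lin.1 hν ⟨_, hcT⟩ ((core_normal M).conj_mem' _ c.2 m), Units.val_one]
        ring
      · refine Finset.sum_eq_zero fun c _ => Char.extendByZero_of_not_mem T δ fun h => hm ?_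
        have hcT : m⁻¹ * (c : M) * m ∈ T := hC.core_le ((core_normal M).conj_mem' _ c.2 m)
        have := mul_mem h (inv_mem hcT)
        rwa [show m⁻¹ * (w * (c : M)) * m * (m⁻¹ * (c : M) * m)⁻¹ = m⁻¹ * w * m by group] at this
    have h := hI.orth_of_diff (β := indFun M β) (Char.isGeneralized_indFun M hgen)
      (fun a ha b hb => hd.cross hI.side.coatom hnc
        (Char.IsGen.isClassFunction (Char.isGeneralized_sub (hI.side.gen ha) (hI.side.gen hb)))
        hsupp hz)
      (n := 2) (by rw [hd.inner_moving hcl hsupp]; exact hnorm) (by omega) h₀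
    have hψ := Char.IsGen.isClassFunction (hI.gen _ h₀)
    rw [Char.classInner_indFun_left M β hψ, hβ,
      Char.classInner_indFun_left T δ (χ := fun v : M => Ψ φ₀ (v : G))
        (fun a b => by simpa using hψ (a : G) (b : G))] at h
    exact h
  -- inversion on the coset of `x`
  have hxT : x ∈ T := hxf
  set F : T → ℂ := fun v => (φ v : ℂ) * conj (Ψ φ₀ ((v : M) : G)) with hF
  have hconst : ∀ g ∈ lin HT, ∑ v : T, F v * conj (g v : ℂ) = ∑ v : T, F v := by
    intro g hg
    have h := hzero g⁻¹ (lin_inv hg)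
    rw [classInner, mul_eq_zero] at h
    have h' := h.resolve_left (inv_ne_zero (Nat.cast_ne_zero.2 Nat.card_pos.ne'))
    rw [← sub_eq_zero, ← Finset.sum_sub_distrib]
    refine Eq.trans (Finset.sum_congr rfl fun v _ => ?_) h'
    simp only [hF, conj_hom]
    ring
  have hxn : (⟨x, hxT⟩ : T) ∉ HT := by
    intro h
    refine hx1 (Subtype.ext (mem_bot.1 (hC.compl.2.2.1 ▸ ⟨hx, ?_⟩)))
    exact h
  have hs := sum_lin_coeff hcm F ⟨x, hxT⟩
  rw [Finset.sum_congr rfl (g := fun g : T →* ℂˣ => (g ⟨x, hxT⟩ : ℂ) * ∑ v : T, F v) fun g hg => by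
      rw [hconst g hg], ← Finset.sum_mul, sum_lin_not_mem hcm hxn, zero_mul, eq_comm,
    mul_eq_zero] at hs
  have hs' := hs.resolve_left (Nat.cast_ne_zero.2 HT.index_ne_zero_of_finite)
  have h1 := congrArg conj hs'
  rw [map_sum, map_zero] at h1
  refine Eq.trans ?_ h1
  refine Finset.sum_bij' (fun n _ => (⟨(n : M), hC.core_le n.2⟩ : T))
    (fun v hv => (⟨(v : M), (Finset.mem_filter.1 hv).2⟩ : core M)) (fun n _ => ?_)
    (fun _ _ => Finset.mem_univ _) (fun n _ => rfl) (fun v _ => rfl) fun n _ => ?_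
  · exact Finset.mem_filter.2 ⟨Finset.mem_univ _, n.2⟩
  · simp only [hF, map_mul, Units.val_mul, Complex.conj_conj, hφe ⟨x, hxT⟩ hx, hφn n,
      Units.val_one, one_mul, Subgroup.coe_mul]
    ring

open scoped _root_.Classical in
/-- Summing a conjugation invariant function over a coset. -/
theorem Compl.sum_coset {x : M} (hx : (x : G) ∈ E) {F : core M → ℂ}
    (hF : ∀ g c : core M, Commute (x : G) ((c : M) : G) →
      F (⟨x⁻¹ * (g : M) * x, (core_normal M).conj_mem' _ g.2 x⟩ * c * g⁻¹) = F c) :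
    ((Finset.univ.filter (fun c : core M => Commute (x : G) ((c : M) : G))).card : ℂ) *
        ∑ n : core M, F n =
      (Nat.card (core M) : ℂ) *
        ∑ c ∈ Finset.univ.filter (fun c : core M => Commute (x : G) ((c : M) : G)), F c := by
  set S := Finset.univ.filter (fun c : core M => Commute (x : G) ((c : M) : G)) with hS
  set Φ : core M × core M → core M := fun gc =>
    ⟨x⁻¹ * (gc.1 : M) * x, (core_normal M).conj_mem' _ gc.1.2 x⟩ * gc.2 * gc.1⁻¹ with hΦ
  have hle : ∀ n, ((Finset.univ ×ˢ S).filter (fun gc => Φ gc = n)).card ≤ S.card := by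
    intro n
    rcases ((Finset.univ ×ˢ S).filter (fun gc => Φ gc = n)).eq_empty_or_nonempty with h | ⟨⟨g₀, c₀⟩, h₀⟩
    · rw [h]; simp
    obtain ⟨h₀S, h₀n⟩ := Finset.mem_filter.1 h₀
    have hc₀ := (Finset.mem_filter.1 (Finset.mem_product.1 h₀S).2).2
    refine Finset.card_le_card_of_injOn (fun gc => g₀⁻¹ * gc.1) (fun gc hgc => ?_) fun a ha b hb e => ?_
    · obtain ⟨hgS, hgn⟩ := Finset.mem_filter.1 hgc
      have hc := (Finset.mem_filter.1 (Finset.mem_product.1 hgS).2).2
      refine Finset.mem_filter.2 ⟨Finset.mem_univ _, ?_⟩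
      have e := congrArg (fun z : core M => (x : G) * ((z : M) : G)) (hgn.trans h₀n.symm)
      simp only [hΦ, Subgroup.coe_mul, Subgroup.coe_inv] at e
      have e' : ((gc.1 : M) : G) * (x * ((gc.2 : M) : G)) * ((gc.1 : M) : G)⁻¹ =
          ((g₀ : M) : G) * (x * ((c₀ : M) : G)) * ((g₀ : M) : G)⁻¹ := by
        simpa [mul_assoc] using e
      have e'' := congrArg (fun z => z ^ pick M) e'
      have f1 : ((x : G) * ((gc.2 : M) : G)) ^ pick M = (x : G) :=
        hC.data.fib x.2 (hC.coprime_compl hx) gc.2.2 hc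
      have f2 : ((x : G) * ((c₀ : M) : G)) ^ pick M = (x : G) :=
        hC.data.fib x.2 (hC.coprime_compl hx) c₀.2 hc₀
      simp only [conj_pow] at e''
      rw [f1, f2] at e''
      show Commute (x : G) ((g₀⁻¹ * gc.1 : core M) : M)
      simp only [Subgroup.coe_mul, Subgroup.coe_inv]
      calc (x : G) * (((g₀ : M) : G)⁻¹ * ((gc.1 : M) : G))
          = ((g₀ : M) : G)⁻¹ * (((g₀ : M) : G) * x * ((g₀ : M) : G)⁻¹) * ((gc.1 : M) : G) := by
            group
        _ = ((g₀ : M) : G)⁻¹ * (((gc.1 : M) : G) * x * ((gc.1 : M) : G)⁻¹) * ((gc.1 : M) : G) := by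
            rw [e'']
        _ = ((g₀ : M) : G)⁻¹ * ((gc.1 : M) : G) * x := by group
    · have h1 : a.1 = b.1 := mul_left_cancel e
      refine Prod.ext h1 ?_
      have h2 := (Finset.mem_filter.1 ha).2.trans (Finset.mem_filter.1 hb).2.symm
      simp only [hΦ] at h2
      rw [h1] at h2
      exact mul_left_cancel (mul_right_cancel h2)
  have htot : ∑ n : core M, ((Finset.univ ×ˢ S).filter (fun gc => Φ gc = n)).card =
      ∑ n : core M, S.card := by
    rw [← Finset.card_eq_sum_card_fiberwise fun gc _ => Finset.mem_univ (Φ gc),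
      Finset.card_product, Finset.sum_const, smul_eq_mul]
  have heq := (Finset.sum_eq_sum_iff_of_le fun n _ => hle n).1 htot
  calc (S.card : ℂ) * ∑ n : core M, F n
      = ∑ n : core M, ∑ gc ∈ (Finset.univ ×ˢ S).filter (fun gc => Φ gc = n), F (Φ gc) := by
        rw [Finset.mul_sum]
        refine Finset.sum_congr rfl fun n hn => ?_
        rw [Finset.sum_congr rfl (g := fun _ => F n) fun gc hgc => by
          rw [(Finset.mem_filter.1 hgc).2], Finset.sum_const, nsmul_eq_mul, heq n hn]
    _ = ∑ gc ∈ Finset.univ ×ˢ S, F (Φ gc) := Finset.sum_fiberwise _ _ _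
    _ = _ := by
        rw [Finset.sum_product, Finset.sum_congr rfl (g := fun _ => ∑ c ∈ S, F c) fun g _ =>
          Finset.sum_congr rfl fun c hc => hF g c (Finset.mem_filter.1 hc).2,
          Finset.sum_const, nsmul_eq_mul, Finset.card_univ, Nat.card_eq_fintype_card]

end Cfsg.Agent.OddCharTwelve
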