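import Cfsg.Agent.OddCharTwelve.NImages
import Cfsg.Agent.OddLocal.SupportCount
import Cfsg.Agent.Char.OddCorr.Inertial
import Cfsg.Agent.Char.AvgDegree

/-!
# The elements of `M` with a fixed point in `M_σ`, for `κ(M) = ∅`
-/

set_option autoImplicit false
set_option linter.unusedSectionVars false

namespace Cfsg.Agent.OddCharTwelve

open Subgroup Cfsg
open scoped ComplexConjugate

universe u

variable {G : Type u} [Group G]

/-- Standing facts about `M`. -/
structure MData (M : Subgroup G) : Prop where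
  minSimple : IsMinSimpleOddOrder G
  coatom : IsCoatom M
  kappa : Cfsg.kappa M = ∅
  nilp : Group.IsNilpotent (sigmaCore M)

/-- The exponent that picks the part of an element outside `M_σ`. -/
noncomputable def pick (M : Subgroup G) : ℕ :=
  if h : (Nat.card (core M)).Coprime (core M).index then (Nat.chineseRemainder h 0 1).1 else 0

/-- Elements of `M` whose part outside `M_σ` is nontrivial and fixes a point of `M_σ`. -/
def Moving (M : Subgroup G) (a : G) : Prop :=
  a ∈ M ∧ a ^ pick M ≠ 1 ∧ ∃ y ∈ sigmaCore M, y ≠ 1 ∧ Commute (a ^ pick M) y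

variable [Finite G] {M N : Subgroup G} (hd : MData M)

include hd

theorem MData.coprime : (Nat.card (core M)).Coprime (core M).index := by
  have h := OddLocal.isPiHallOf_sigmaCore hd.minSimple hd.coatom
  refine Nat.coprime_of_dvd fun q hq h1 h2 => h.2.2 q hq (h.2.1 q hq ?_) h2
  rwa [card_core] at h1

theorem MData.pick_spec : Nat.card (core M) ∣ pick M ∧ pick M ≡ 1 [MOD (core M).index] := by
  rw [pick, dif_pos hd.coprime]
  exact ⟨Nat.modEq_zero_iff_dvd.1 (Nat.chineseRemainder hd.coprime 0 1).2.1,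
    (Nat.chineseRemainder hd.coprime 0 1).2.2⟩

theorem MData.pow_core {h : G} (hh : h ∈ sigmaCore M) : h ^ pick M = 1 := by
  refine orderOf_dvd_iff_pow_eq_one.1 (dvd_trans ?_ hd.pick_spec.1)
  rw [card_core]
  exact orderOf_dvd_natCard _ hh

theorem MData.dvd_index {w : G} (hw : w ∈ M) (hc : (orderOf w).Coprime (Nat.card (core M))) :
    orderOf w ∣ (core M).index := by
  have h1 : orderOf w ∣ Nat.card M := orderOf_dvd_natCard _ hw
  rw [card_eq] at h1
  exact hc.dvd_of_dvd_mul_right h1

theorem MData.pow_self {w : G} (hw : w ∈ M) (hc : (orderOf w).Coprime (Nat.card (core M))) :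
    w ^ pick M = w := by
  conv_rhs => rw [← pow_one w]
  exact pow_eq_pow_iff_modEq.2 (hd.pick_spec.2.of_dvd (hd.dvd_index hw hc))

theorem MData.pow_mod {a : G} (ha : a ∈ M) :
    (a ^ pick M)⁻¹ * a ∈ sigmaCore M := by
  have h1 : ((⟨a, ha⟩ : M) : M ⧸ core M) ^ pick M = ((⟨a, ha⟩ : M) : M ⧸ core M) := by
    conv_rhs => rw [← pow_one ((⟨a, ha⟩ : M) : M ⧸ core M)]
    refine pow_eq_pow_iff_modEq.2 (hd.pick_spec.2.of_dvd ?_)
    rw [Subgroup.index_eq_card]
    exact orderOf_dvd_natCard _
  rw [← QuotientGroup.mk_pow, QuotientGroup.eq] at h1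
  exact h1

theorem MData.coprime_part {a : G} (ha : a ∈ M) :
    (orderOf (a ^ pick M)).Coprime (Nat.card (core M)) := by
  refine Nat.Coprime.coprime_dvd_left ?_ hd.coprime.symm
  refine orderOf_dvd_iff_pow_eq_one.2 ?_
  rw [← pow_mul]
  refine orderOf_dvd_iff_pow_eq_one.1 ((orderOf_dvd_natCard _ ha).trans ?_)
  rw [card_eq (N := M), idx, mul_comm]
  exact Nat.mul_dvd_mul_right hd.pick_spec.1 _

theorem MData.fib {w h : G} (hw : w ∈ M) (hc : (orderOf w).Coprime (Nat.card (core M)))
    (hh : h ∈ sigmaCore M) (hcm : Commute w h) : (w * h) ^ pick M = w := by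
  rw [hcm.mul_pow, hd.pow_core hh, mul_one, hd.pow_self hw hc]

/-- A nontrivial element of order prime to `|M_σ|` fixing a point of `M_σ`. -/
theorem MData.unique {w : G} (hw : w ∈ M) (hc : (orderOf w).Coprime (Nat.card (core M)))
    (hw1 : w ≠ 1) {y : G} (hy : y ∈ sigmaCore M) (hy1 : y ≠ 1) (hwy : Commute w y) :
    centralizer ({w} : Set G) ≤ M ∧
      ∀ L : Subgroup G, IsCoatom L → centralizer ({w} : Set G) ≤ L → L = M := by
  refine OddLocal.unique_of_tau2_elt hd.minSimple hd.coatom hw hw1 (fun r hr hrd => ?_)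
    ⟨hw, y, hy, hy1, hwy⟩
  haveI := Fact.mk hr
  have hrM : r ∣ Nat.card M := hrd.trans (orderOf_dvd_natCard _ hw)
  have hrs : r ∉ sigma M := by
    intro hs
    have h2 := (OddLocal.isPiHallOf_sigmaCore hd.minSimple hd.coatom).2.2 r hr hs
    exact h2 (hrd.trans (hd.dvd_index hw hc))
  rcases OddLocal.tau_of_not_sigma hd.minSimple hd.coatom hrs hrM with h13 | h2
  · set v := w ^ (orderOf w / r) with hv
    have hvo : orderOf v = r := orderOf_pow_orderOf_div (orderOf_pos w).ne' hrd
    have := OddLocal.kappa_of_fixed hd.minSimple hd.coatom h13 (P := zpowers v)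
      (by rw [Nat.card_zpowers, hvo]) (zpowers_le.2 (pow_mem hw _)) fun hbot =>
        hy1 (mem_bot.1 (hbot ▸ mem_inf.2 ⟨hy, by
          rw [OddLocal.centralizer_zpowers]
          exact mem_centralizer_singleton_iff.2 (hwy.pow_left _).eq.symm⟩))
    rw [hd.kappa] at this
    exact this.elim
  · exact h2

theorem MData.moving_conj {a : G} (ha : Moving M a) {m : G} (hm : m ∈ M) :
    Moving M (m * a * m⁻¹) := by
  obtain ⟨haM, hne, y, hy, hy1, hc⟩ := ha
  refine ⟨M.mul_mem (M.mul_mem hm haM) (M.inv_mem hm), ?_, m * y * m⁻¹,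
    (mem_normalizer_iff.1 (OddLocal.le_normalizer_sigmaCore M hm) y).1 hy,
    fun e => hy1 (conj_eq_one_iff.1 e), ?_⟩
  · rw [conj_pow]
    exact fun e => hne (conj_eq_one_iff.1 e)
  · rw [conj_pow]
    exact (hc.conj m : _)

/-- The moving elements form a trivial intersection set. -/
theorem MData.moving_TI {a g : G} (ha : Moving M a) (hga : Moving M (g * a * g⁻¹)) : g ∈ M := by
  obtain ⟨haM, hne, y, hy, hy1, hc⟩ := ha
  obtain ⟨hbM, hne', y', hy', hy1', hc'⟩ := hga
  obtain ⟨hC, -⟩ := hd.unique (pow_mem haM _) (hd.coprime_part haM) hne hy hy1 hc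
  obtain ⟨-, huniq⟩ := hd.unique (pow_mem hbM _) (hd.coprime_part hbM) hne' hy' hy1' hc'
  have e : M.map (MulAut.conj g).toMonoidHom = M := by
    refine huniq _ (OddLocal.isCoatom_map_conj hd.coatom g) ?_
    intro c hc2
    rw [OddLocal.mem_map_conj_iff]
    refine hC (mem_centralizer_singleton_iff.2 ?_)
    have h2 := mem_centralizer_singleton_iff.1 hc2
    rw [conj_pow] at h2
    calc g⁻¹ * c * g * a ^ pick M = g⁻¹ * (c * (g * a ^ pick M * g⁻¹)) * g := by group
      _ = g⁻¹ * (g * a ^ pick M * g⁻¹ * c) * g := by rw [h2]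
      _ = a ^ pick M * (g⁻¹ * c * g) := by group
  exact OddLocal.mem_of_map_conj_eq hd.minSimple hd.coatom e

/-- An element fixing a nontrivial linear character fixes a point where it is nontrivial. -/
theorem MData.exists_fixed {f : ↥(core M) →* ℂˣ} (hf : f ≠ 1) {w : M}
    (hc : (orderOf w).Coprime (Nat.card (core M)))
    (hfix : w ∈ Char.inertia (lf f)) :
    ∃ c : core M, Commute (w : G) ((c : M) : G) ∧ f c ≠ 1 := by
  obtain ⟨g, hg⟩ : ∃ g, f g ≠ 1 := by
    by_contra h
    push Not at h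
    exact hf (MonoidHom.ext h)
  haveI := hd.nilp
  haveI : Group.IsNilpotent (core M) := Group.nilpotent_of_mulEquiv
    (Subgroup.subgroupOfEquivOfLe (OddLocal.sigmaCore_le M)).symm
  have hfix' : ∀ (t : zpowers w) (v : core M),
      f ((MulAut.conjNormal.comp (zpowers w).subtype) t v) = f v := by
    intro t v
    have := congrFun (Char.mem_inertia.1 ((zpowers_le.2 hfix) t.2)) v
    exact Units.ext this
  obtain ⟨c, hcf, hcN⟩ := Char.OddCorr.exists_fixed_coset
    ((MulAut.conjNormal (H := core M)).comp (zpowers w).subtype) f.ker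
    (fun t n hn => by rw [MonoidHom.mem_ker, hfix', MonoidHom.mem_ker.1 hn])
    (by rw [Nat.card_zpowers]; exact hc.symm) inferInstance g
    (fun t => by rw [MonoidHom.mem_ker, map_mul, map_inv, hfix', inv_mul_cancel])
  refine ⟨c, ?_, fun e => hg ?_⟩
  · have := congrArg (fun v : core M => ((v : M) : G)) (hcf ⟨w, mem_zpowers w⟩)
    exact mul_inv_eq_iff_eq_mul.1 (by simpa using this)
  · have := MonoidHom.mem_ker.1 hcN
    rwa [map_mul, map_inv, e, mul_one, inv_eq_one] at this

theorem MData.dade_value (hN : IsCoatom N)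
    (hnc : ∀ g : G, N ≠ M.map (MulAut.conj g).toMonoidHom) {α : ↥N → ℂ}
    (hα : IsClassFunction N α) {w : G} (hw : w ∈ M)
    (hwc : (orderOf w).Coprime (Nat.card (core M))) {y : G} (hy : y ∈ sigmaCore M) (hy1 : y ≠ 1)
    (hwy : Commute w y) {c : G} (hc : c ∈ sigmaCore M) (hwcm : Commute w c)
    (hs : w * c ∈ Coherence.Dade.support (typeA1 N) (supportR N)) :
    ∀ c' ∈ sigmaCore M, Commute w c' → tau1Map N α (w * c') = tau1Map N α (w * c) := by
  classical
  have := Fintype.ofFinite G
  have hG := hd.minSimple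
  have hD := dade1 hG hN
  obtain ⟨a, ha, u, hu, x, hx⟩ := hs
  obtain ⟨haσ, ha1⟩ := (mem_typeA1 hG hN).1 ha
  have hau : Commute a u := Coherence.Dade.comm_of_mem hD ha hu
  have hco : (orderOf u).Coprime (orderOf a) :=
    ((hD.coprime a ha a ha).coprime_dvd_left (orderOf_dvd_natCard _ hu)).coprime_dvd_right
      (orderOf_dvd_natCard _ (mem_inf.2
        ⟨hD.subset ha, mem_centralizer_singleton_iff.2 rfl⟩))
  obtain ⟨j, hj0, hj1⟩ := Nat.chineseRemainder hco 0 1
  have hpow : x * (w ^ j * c ^ j) * x⁻¹ = a := by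
    rw [← hwcm.mul_pow, ← conj_pow, hx, hau.mul_pow,
      orderOf_dvd_iff_pow_eq_one.1 (Nat.modEq_zero_iff_dvd.1 hj0), mul_one]
    conv_rhs => rw [← pow_one a]
    exact pow_eq_pow_iff_modEq.2 hj1
  have hcj : c ^ j ∈ sigmaCore M := pow_mem hc j
  have hwj : (orderOf (w ^ j)).Coprime (Nat.card (core M)) :=
    hwc.coprime_dvd_left (orderOf_dvd_of_mem_zpowers (pow_mem (mem_zpowers w) j))
  have hcm : Commute (w ^ j) (c ^ j) := hwcm.pow_pow j j
  have horder : orderOf a = orderOf (w ^ j * c ^ j) := by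
    rw [← hpow, ← MulAut.conj_apply, MulEquiv.orderOf_eq]
  have hc1 : c ^ j = 1 := by
    by_contra hne
    obtain ⟨q, hq, hqd⟩ := Nat.exists_prime_and_dvd (mt orderOf_eq_one_iff.mp hne)
    haveI := Fact.mk hq
    have hdvd : orderOf (c ^ j) ∣ orderOf a := by
      rw [horder]
      refine orderOf_dvd_iff_pow_eq_one.2 ?_
      have h1 := pow_orderOf_eq_one (w ^ j * c ^ j)
      have h2 : w ^ j * c ^ j = c ^ j * w ^ j := hcm
      rw [hcm.mul_pow] at h1
      have h3 := congrArg (fun z => z ^ pick M) h1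
      simp only [one_pow] at h3
      rw [(hcm.pow_pow _ _).mul_pow, hd.pow_core (pow_mem hcj _), mul_one,
        hd.pow_self (pow_mem (pow_mem hw _) _)
          (hwj.coprime_dvd_left (orderOf_dvd_of_mem_zpowers (pow_mem (mem_zpowers _) _)))] at h3
      rwa [h3, one_mul] at h1
    obtain ⟨g, hg⟩ := OddLocal.exists_conj_of_sigma_inter hG hd.coatom hN (p := q)
      (OddLocal.prime_mem_sigma_of_mem hG hd.coatom hcj hq hqd)
      (OddLocal.prime_mem_sigma_of_mem hG hN haσ hq (hqd.trans hdvd))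
    exact hnc g hg
  rw [hc1, mul_one] at hpow
  have hwj1 : w ^ j ≠ 1 := fun e => ha1 (by rw [← hpow, e, mul_one, mul_inv_cancel])
  obtain ⟨hC, huniq⟩ := hd.unique (pow_mem hw j) hwj hwj1 hy hy1 (hwy.pow_left j)
  set M' := M.map (MulAut.conj x).toMonoidHom with hM'
  have hM'c : IsCoatom M' := OddLocal.isCoatom_map_conj hd.coatom x
  have hCa : centralizer ({a} : Set G) ≤ M' := by
    intro z hz
    rw [hM', OddLocal.mem_map_conj_iff]
    refine hC (mem_centralizer_singleton_iff.2 ?_)
    have h2 := mem_centralizer_singleton_iff.1 hz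
    rw [← hpow] at h2
    calc x⁻¹ * z * x * w ^ j = x⁻¹ * (z * (x * w ^ j * x⁻¹)) * x := by group
      _ = x⁻¹ * (x * w ^ j * x⁻¹ * z) * x := by rw [h2]
      _ = w ^ j * (x⁻¹ * z * x) := by group
  have hCu : ∀ L : Subgroup G, IsCoatom L → centralizer ({a} : Set G) ≤ L → L = M' := by
    intro L hL hle
    have h' : L.map (MulAut.conj x⁻¹).toMonoidHom = M := by
      refine huniq _ (OddLocal.isCoatom_map_conj hL x⁻¹) fun z hz => ?_
      rw [OddLocal.mem_map_conj_iff, inv_inv]
      refine hle (mem_centralizer_singleton_iff.2 ?_)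
      have h2 := mem_centralizer_singleton_iff.1 hz
      rw [← hpow]
      calc x * z * x⁻¹ * (x * w ^ j * x⁻¹) = x * (z * w ^ j) * x⁻¹ := by group
        _ = x * (w ^ j * z) * x⁻¹ := by rw [h2]
        _ = x * w ^ j * x⁻¹ * (x * z * x⁻¹) := by group
    rw [hM', ← h', OddLocal.map_conj_map_conj, mul_inv_cancel,
      OddLocal.map_conj_eq_self_of_mem (one_mem _)]
  have hex : ¬ centralizer ({a} : Set G) ≤ N ∧
      ∃! L : Subgroup G, IsCoatom L ∧ centralizer ({a} : Set G) ≤ L :=
    ⟨fun hle => hnc x (hCu N hN hle), M', ⟨hM'c, hCa⟩, fun L hL => hCu L hL.1 hL.2⟩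
  have hcore : sigmaCore M' = (sigmaCore M).map (MulAut.conj x).toMonoidHom :=
    OddLocal.sigmaCore_map_conj hG hd.coatom x
  have hR : supportR N a = sigmaCore M' ⊓ centralizer ({a} : Set G) := by
    rw [supportR, dif_pos hex]
    congr 1
    rw [hCu _ (Classical.choose_spec hex.2.exists).1 (Classical.choose_spec hex.2.exists).2]
    refine OddLocal.fittingHallOf_eq_of_nilpotent hG hM'c ?_
    rw [hcore]
    exact (Group.isNilpotent_congr
      (equivMapOfInjective (sigmaCore M) _ (MulAut.conj x).injective)).1 hd.nilp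
  -- the part in the support is `w`
  rw [hR, hcore, mem_inf, OddLocal.mem_map_conj_iff] at hu
  have hu2 := mem_centralizer_singleton_iff.1 hu.2
  have hwu : Commute (w ^ j) (x⁻¹ * u * x) := by
    rw [← hpow] at hu2
    show w ^ j * (x⁻¹ * u * x) = x⁻¹ * u * x * w ^ j
    calc w ^ j * (x⁻¹ * u * x) = x⁻¹ * (x * w ^ j * x⁻¹ * u) * x := by group
      _ = x⁻¹ * (u * (x * w ^ j * x⁻¹)) * x := by rw [hu2]
      _ = x⁻¹ * u * x * w ^ j := by group
  have hw' : w ^ j = w := by
    have e : w * c = w ^ j * (x⁻¹ * u * x) := by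
      rw [← hpow] at hx
      calc w * c = x⁻¹ * (x * (w * c) * x⁻¹) * x := by group
        _ = x⁻¹ * (x * w ^ j * x⁻¹ * u) * x := by rw [hx]
        _ = w ^ j * (x⁻¹ * u * x) := by group
    have := congrArg (fun z => z ^ pick M) e
    simp only [hd.fib hw hwc hc hwcm, hd.fib (pow_mem hw j) hwj hu.1 hwu] at this
    exact this.symm
  rw [hw'] at hpow
  have val : ∀ c' ∈ sigmaCore M, Commute w c' →
      tau1Map N α (w * c') = α ⟨a, hD.subset ha⟩ := by
    intro c' hc' hwc'
    refine Coherence.Dade.dade_apply hD hα ha (u := x * c' * x⁻¹) (x := x) ?_ ?_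
    · show x * c' * x⁻¹ ∈ supportR N a
      rw [hR, hcore]
      refine mem_inf.2 ⟨mem_map_of_mem _ hc', mem_centralizer_singleton_iff.2 ?_⟩
      rw [← hpow]
      exact ((hwc'.symm.conj x : _) : Commute _ _).eq
    · show x * (w * c') * x⁻¹ = a * (x * c' * x⁻¹)
      rw [← hpow]; group
  intro c' hc' hwc'
  rw [val c' hc' hwc', val c hc hwcm]

variable [Fintype G] [Fintype M]

/-- Induction from `M` preserves the inner product of functions on the moving elements. -/
theorem MData.indFun_moving {β : ↥M → ℂ} (hβ : IsClassFunction M β)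
    (hs : ∀ v : M, ¬ Moving M (v : G) → β v = 0) {v : M} (hv : Moving M (v : G)) :
    indFun M β (v : G) = β v := by
  classical
  rw [Char.indFun_apply, ← Finset.sum_subset (Finset.subset_univ (Finset.univ.filter (· ∈ M)))
    fun x _ hx => ?_]
  · rw [Finset.sum_congr rfl (g := fun _ => β v) fun x hx => ?_, Finset.sum_const, nsmul_eq_mul,
      ← Fintype.card_subtype, ← Nat.card_eq_fintype_card, ← mul_assoc,
      inv_mul_cancel₀ (Nat.cast_ne_zero.2 Nat.card_pos.ne'), one_mul]
    have hxM := (Finset.mem_filter.1 hx).2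
    rw [Char.extendByZero_of_mem M β (M.mul_mem (M.mul_mem (M.inv_mem hxM) v.2) hxM)]
    exact (congrArg β (Subtype.ext (by simp))).trans (hβ v (⟨x, hxM⟩ : M)⁻¹)
  · by_cases hm : x⁻¹ * v * x ∈ M
    · rw [Char.extendByZero_of_mem M β hm]
      refine hs _ fun hmov => hx (Finset.mem_filter.2 ⟨Finset.mem_univ _, ?_⟩)
      refine inv_mem_iff.1 (hd.moving_TI hv (g := x⁻¹) ?_)
      rwa [inv_inv]
    · exact Char.extendByZero_of_not_mem M β hm

theorem MData.inner_moving {β : ↥M → ℂ} (hβ : IsClassFunction M β)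
    (hs : ∀ v : M, ¬ Moving M (v : G) → β v = 0) :
    classInner (indFun M β) (indFun M β) = classInner β β := by
  rw [Char.classInner_indFun_left M β (Char.isClassFunction_indFun M β), classInner, classInner]
  congr 1
  refine Finset.sum_congr rfl fun v _ => ?_
  by_cases hv : Moving M (v : G)
  · rw [hd.indFun_moving hβ hs hv]
  · rw [hs v hv, zero_mul, zero_mul]

open scoped _root_.Classical in
/-- Functions with vanishing sums over the fixed points are orthogonal to the images from `N`. -/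
theorem MData.cross [Fintype (core M)] (hN : IsCoatom N)
    (hnc : ∀ g : G, N ≠ M.map (MulAut.conj g).toMonoidHom) {α : ↥N → ℂ}
    (hα : IsClassFunction N α) {β : ↥M → ℂ}
    (hs : ∀ v : M, ¬ Moving M (v : G) → β v = 0)
    (hz : ∀ w : M, (w : G) ≠ 1 → (orderOf (w : G)).Coprime (Nat.card (core M)) →
      ∑ c ∈ Finset.univ.filter (fun c : core M => Commute (w : G) ((c : M) : G)), β (w * c) = 0) :
    classInner (indFun M β) (tau1Map N α) = 0 := by
  have hcl : IsClassFunction G (tau1Map N α) :=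
    Coherence.Dade.isClassFunction_dade (dade1 hd.minSimple hN) hα
  rw [Char.classInner_indFun_left M β hcl, classInner]
  refine mul_eq_zero_of_right _ ?_
  rw [← Finset.sum_fiberwise Finset.univ (fun v : M => v ^ pick M)]
  refine Finset.sum_eq_zero fun w _ => ?_
  by_cases hmv : ∀ v : M, v ^ pick M = w → β v = 0
  · exact Finset.sum_eq_zero fun v hv => by rw [hmv v (Finset.mem_filter.1 hv).2, zero_mul]
  push Not at hmv
  obtain ⟨v₀, hv₀, hv₀'⟩ := hmv
  have hmov : Moving M (v₀ : G) := not_not.1 fun h => hv₀' (hs v₀ h)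
  obtain ⟨hv₀M, hne, y, hy, hy1, hyc⟩ := hmov
  have hwG : (v₀ : G) ^ pick M = (w : G) := by rw [← hv₀]; rfl
  rw [hwG] at hne hyc
  have hwc : (orderOf (w : G)).Coprime (Nat.card (core M)) := hwG ▸ hd.coprime_part v₀.2
  have hfib : ∀ v : M, v ^ pick M = w ↔
      ∃ c : core M, Commute (w : G) ((c : M) : G) ∧ w * c = v := by
    intro v
    constructor
    · intro hv
      have hm := hd.pow_mod v.2
      rw [show (v : G) ^ pick M = (w : G) by rw [← hv]; rfl] at hm
      refine ⟨⟨w⁻¹ * v, hm⟩, ?_, mul_inv_cancel_left w v⟩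
      have h1 : Commute (w : G) (v : G) := by
        rw [← hv]; exact (Commute.refl (v : G)).pow_left _
      exact ((Commute.refl (w : G)).inv_right).mul_right h1
    · rintro ⟨c, hc, rfl⟩
      exact Subtype.ext (hd.fib w.2 hwc c.2 hc)
  rw [show Finset.univ.filter (fun v : M => v ^ pick M = w) =
      (Finset.univ.filter (fun c : core M => Commute (w : G) ((c : M) : G))).image
        (fun c : core M => w * (c : M)) by
    ext v; simp [hfib],
    Finset.sum_image fun c _ c' _ e => Subtype.ext (mul_left_cancel e)]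
  by_cases hsup : ∃ c : core M, Commute (w : G) ((c : M) : G) ∧
      (w : G) * ((c : M) : G) ∈ Coherence.Dade.support (typeA1 N) (supportR N)
  · obtain ⟨c, hc, hcs⟩ := hsup
    rw [Finset.sum_congr rfl (g := fun c' : core M =>
        β (w * c') * conj (tau1Map N α ((w : G) * ((c : M) : G)))) fun c' hc' => by
      have hval : tau1Map N α ((w : G) * ((c' : M) : G)) =
          tau1Map N α ((w : G) * ((c : M) : G)) :=
        hd.dade_value hN hnc hα w.2 hwc hy hy1 hyc c.2 hc hcs _ c'.2 (Finset.mem_filter.1 hc').2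
      rw [Subgroup.coe_mul, hval], ← Finset.sum_mul, hz w hne hwc, zero_mul]
  · refine Finset.sum_eq_zero fun c hc => ?_
    rw [Subgroup.coe_mul, tau1Map, Coherence.Dade.dade_eq_zero (dade1 hd.minSimple hN)
      fun h => hsup ⟨c, (Finset.mem_filter.1 hc).2, h⟩, map_zero, mul_zero]

end Cfsg.Agent.OddCharTwelve
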