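import Cfsg.Agent.OddCharTwelve.NFamily

/-!
# Coset sums and the norm on the side of `N`
-/

set_option autoImplicit false
set_option linter.unusedSectionVars false

namespace Cfsg.Agent.OddCharTwelve

open Subgroup Cfsg
open scoped ComplexConjugate

universe u

variable {G : Type u} [Group G] [Fintype G] {N K1 : Subgroup G} [Fintype N] [Fintype (core N)]
variable {Ψ : (↥N → ℂ) → G → ℂ} (hI : Images N K1 Ψ) {φ₀ : ↥N → ℂ}

open scoped _root_.Classical in
/-- The excess of the average over the member, off `K₁`. -/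
noncomputable def excess (K1 : Subgroup G) (Ψ : (↥N → ℂ) → G → ℂ) (φ₀ : ↥N → ℂ) (v : N) : ℂ :=
  if v ∈ core N ∧ (v : G) ∉ K1 then rho N (Ψ φ₀) v - φ₀ v else 0

/-- The Fourier coefficient of the excess. -/
noncomputable def coef (K1 : Subgroup G) (Ψ : (↥N → ℂ) → G → ℂ) (φ₀ : ↥N → ℂ)
    (f : ↥(core N) →* ℂˣ) : ℂ :=
  ∑ v : core N, excess K1 Ψ φ₀ (v : N) * conj (f v : ℂ)

open scoped _root_.Classical in
/-- The norm of the average on `K₁`. -/
noncomputable def psiZero (N K1 : Subgroup G) [Fintype N] (χ : G → ℂ) : ℝ :=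
  ∑ v ∈ Finset.univ.filter (fun v : N => (v : G) ∈ K1 ∧ v ≠ 1), ‖rho N χ v‖ ^ 2

include hI

theorem Images.class_excess (h₀ : φ₀ ∈ fam N K1) : IsClassFunction N (excess K1 Ψ φ₀) := by
  intro v g
  have hs := hI.side
  have h1 : g * v * g⁻¹ ∈ core N ↔ v ∈ core N := (core_normal N).mem_comm_iff.trans (by simp)
  have h2 : ((g * v * g⁻¹ : N) : G) ∈ K1 ↔ (v : G) ∈ K1 := by
    simpa using (mem_normalizer_iff.1 (hs.normal g.2) (v : G)).symm
  simp only [excess]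
  by_cases h : v ∈ core N ∧ (v : G) ∉ K1
  · rw [if_pos h, if_pos ⟨h1.2 h.1, fun e => h.2 (h2.1 e)⟩,
      Char.isClassFunction_of_isIrr (hs.irr h₀) v g]
    congr 1
    exact rho_conj hs.minSimple hs.coatom (Char.IsGen.isClassFunction (hI.gen _ h₀))
      (m := (g : G)) (g := (v : G)) g.2 (mem_subgroupOf.1 h.1)
  · rw [if_neg h, if_neg fun hh => h ⟨h1.1 hh.1, fun e => hh.2 (h2.2 e)⟩]

/-- Inner products of functions living off `K₁` with the excess. -/
theorem Images.inner_excess (h₀ : φ₀ ∈ fam N K1) {α : N → ℂ} (hα : IsClassFunction N α)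
    (hoff : ∀ v : N, ¬ (v ∈ core N ∧ (v : G) ∉ K1) → α v = 0) :
    classInner α (excess K1 Ψ φ₀) =
      classInner (tau1Map N α) (Ψ φ₀) - classInner α φ₀ := by
  classical
  have hs := hI.side
  have hsupp : ∀ v : N, (v : G) ∉ typeA1 N → α v = 0 := fun v hv => hoff v fun h =>
    hv ((mem_typeA1 hs.minSimple hs.coatom).2 ⟨h.1, fun e => h.2 (e ▸ one_mem K1)⟩)
  rw [inner_tau1 hs.minSimple hs.coatom hα hsupp (Char.IsGen.isClassFunction (hI.gen _ h₀)),
    ← Char.classInner_sub_right]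
  simp only [classInner]
  congr 1
  refine Finset.sum_congr rfl fun v _ => ?_
  by_cases hv : v ∈ core N ∧ (v : G) ∉ K1
  · rw [excess, if_pos hv]; rfl
  · rw [hoff v hv, zero_mul, zero_mul]

theorem Images.inner_ind (h₀ : φ₀ ∈ fam N K1) (f : ↥(core N) →* ℂˣ) :
    conj (classInner (xi N f) (excess K1 Ψ φ₀)) =
      (Nat.card (core N) : ℂ)⁻¹ * coef K1 Ψ φ₀ f := by
  rw [xi, Char.classInner_indFun_left (core N) (lf f) (hI.class_excess h₀),
    Char.classInner_conj_symm]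
  rfl

theorem Images.xi_cut {f : ↥(core N) →* ℂˣ} (hf : f ∈ lin (cut N K1)) {v : N} (hv : v ∈ core N)
    (hK : (v : G) ∈ K1) : xi N f v = idx N := by
  have hA : (K1.subgroupOf N).Normal := normal_subgroupOf_of_le_normalizer hI.side.normal
  have hmem : (⟨v, hv⟩ : core N) ∈ cut N K1 := hK
  rw [xi, show v = ((⟨v, hv⟩ : core N) : N) from rfl, Char.indFun_apply_coe_of_normal,
    Finset.sum_congr rfl (g := fun _ => (1 : ℂ)) fun x _ => by
      show ((f _ : ℂˣ) : ℂ) = 1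
      rw [mem_lin.1 hf _ (hA.conj_mem' _ hmem x)]
      rfl]
  rw [Finset.sum_const, nsmul_eq_mul, mul_one, Finset.card_univ, ← Nat.card_eq_fintype_card,
    card_eq (N := N), Nat.cast_mul, mul_comm (idx N : ℂ), ← mul_assoc,
    inv_mul_cancel₀ (Nat.cast_ne_zero.2 Nat.card_pos.ne'), one_mul]

theorem Images.xi_sub_off {f g : ↥(core N) →* ℂˣ} (hf : f ∈ lin (cut N K1))
    (hg : g ∈ lin (cut N K1)) (v : N) (hv : ¬ (v ∈ core N ∧ (v : G) ∉ K1)) :
    (xi N f - xi N g) v = 0 := by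
  rw [Pi.sub_apply]
  by_cases hc : v ∈ core N
  · have hK : (v : G) ∈ K1 := by by_contra hK; exact hv ⟨hc, hK⟩
    rw [hI.xi_cut hf hc hK, hI.xi_cut hg hc hK, sub_self]
  · rw [xi_off f hc, xi_off g hc, sub_self]

theorem Images.coef_sub (h₀ : φ₀ ∈ fam N K1) {f g : ↥(core N) →* ℂˣ}
    (hf : f ∈ lin (cut N K1)) (hg : g ∈ lin (cut N K1)) :
    conj (classInner (tau1Map N (xi N f - xi N g)) (Ψ φ₀) -
      classInner (xi N f - xi N g) φ₀) =
      (Nat.card (core N) : ℂ)⁻¹ * (coef K1 Ψ φ₀ f - coef K1 Ψ φ₀ g) := by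
  rw [← hI.inner_excess h₀ (Char.IsGen.isClassFunction
      (Char.isGeneralized_sub (isGen_xi f) (isGen_xi g))) (hI.xi_sub_off hf hg),
    Char.classInner_sub_left, map_sub, hI.inner_ind h₀, hI.inner_ind h₀, mul_sub]

theorem Images.coef_eq (h₀ : φ₀ ∈ fam N K1) {f g : ↥(core N) →* ℂˣ}
    (hf : f ∈ lin (cut N K1)) (hf1 : f ≠ 1) (hg : g ∈ lin (cut N K1)) (hg1 : g ≠ 1) :
    coef K1 Ψ φ₀ f = coef K1 Ψ φ₀ g := by
  have h1 : xi N f ∈ fam N K1 := mem_fam.2 ⟨f, hf, hf1, rfl⟩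
  have h2 : xi N g ∈ fam N K1 := mem_fam.2 ⟨g, hg, hg1, rfl⟩
  have h := hI.coef_sub h₀ hf hg
  rw [hI.diff _ h1 _ h2, Char.classInner_sub_left, Char.classInner_sub_left,
    hI.inner _ h1 _ h₀, hI.inner _ h2 _ h₀, sub_self, map_zero, eq_comm, mul_eq_zero] at h
  exact sub_eq_zero.1 (h.resolve_left (inv_ne_zero (Nat.cast_ne_zero.2 Nat.card_pos.ne')))

/-- The integer `a`. -/
theorem Images.exists_a (h₀ : φ₀ ∈ fam N K1) :
    ∃ a : ℤ, ∀ f ∈ lin (cut N K1), f ≠ 1 →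
      coef K1 Ψ φ₀ 1 = (Nat.card (core N) : ℂ) * a + coef K1 Ψ φ₀ f ∧
      coef K1 Ψ φ₀ f = -(Nat.card K1 : ℂ) * a := by
  classical
  have hs := hI.side
  haveI := hs.cut_normal
  obtain ⟨f₀, hf₀, hf₀1, -⟩ := mem_fam.1 h₀
  set α := xi N 1 - xi N f₀ with hα
  have hgen : IsGeneralizedCharacter N α :=
    Char.isGeneralized_sub (isGen_xi 1) (isGen_xi f₀)
  have hsupp : ∀ v : N, (v : G) ∉ typeA1 N → α v = 0 := fun v hv =>
    hI.xi_sub_off one_mem_lin hf₀ v fun h => hv ((mem_typeA1 hs.minSimple hs.coatom).2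
      ⟨h.1, fun e => h.2 (e ▸ one_mem K1)⟩)
  obtain ⟨z, hz⟩ := Char.classInner_generalized_int
    (Coherence.Dade.isGeneralized_dade (dade1 hs.minSimple hs.coatom) hgen hsupp)
    (hI.gen _ h₀)
  obtain ⟨w, hw⟩ := Char.classInner_generalized_int hgen (hs.gen h₀)
  have h := hI.coef_sub h₀ one_mem_lin hf₀ (g := f₀)
  rw [← hα, show classInner (tau1Map N α) (Ψ φ₀) = (z : ℂ) from hz, hw, map_sub, map_intCast,
    map_intCast] at h
  have hk0 : (Nat.card (core N) : ℂ) ≠ 0 := Nat.cast_ne_zero.2 Nat.card_pos.ne'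
  refine ⟨z - w, fun f hf hf1 => ?_⟩
  have h1 : coef K1 Ψ φ₀ 1 = (Nat.card (core N) : ℂ) * ((z - w : ℤ) : ℂ) + coef K1 Ψ φ₀ f := by
    rw [hI.coef_eq h₀ hf hf1 hf₀ hf₀1]
    push_cast
    rw [h, mul_inv_cancel_left₀ hk0]
    ring
  refine ⟨h1, ?_⟩
  have hsum := sum_lin_coeff hs.cut_comm (fun v : core N => excess K1 Ψ φ₀ (v : N)) 1
  rw [Finset.sum_eq_zero (s := Finset.univ.filter (· ∈ cut N K1)) fun n hn => by
      rw [excess, if_neg]
      rintro ⟨-, h'⟩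
      exact h' (by simpa [mem_cut] using (Finset.mem_filter.1 hn).2),
    mul_zero, ← Finset.add_sum_erase _ _ one_mem_lin] at hsum
  simp only [map_one, Units.val_one, one_mul] at hsum
  change coef K1 Ψ φ₀ 1 + ∑ g ∈ (lin (cut N K1)).erase 1, coef K1 Ψ φ₀ g = 0 at hsum
  rw [Finset.sum_congr rfl (g := fun _ => coef K1 Ψ φ₀ f) fun g hg =>
      hI.coef_eq h₀ (Finset.mem_erase.1 hg).2 (Finset.mem_erase.1 hg).1 hf hf1,
    Finset.sum_const, nsmul_eq_mul, h1, Finset.card_erase_of_mem one_mem_lin,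
    card_lin hs.cut_comm] at hsum
  have hq := hs.quo_pos
  change _ + ((quo N K1 - 1 : ℕ) : ℂ) * _ = 0 at hsum
  rw [Nat.cast_sub hq, Nat.cast_one, card_core_eq hs.le_core, Nat.cast_mul] at hsum
  have hq0 : (quo N K1 : ℂ) ≠ 0 := Nat.cast_ne_zero.2 hq.ne'
  refine mul_left_cancel₀ hq0 ?_
  linear_combination hsum

/-- The pair `(a, φ₀)`: coefficient equations. -/
def Images.IsA (_ : Images N K1 Ψ) (φ₀ : ↥N → ℂ) (a : ℤ) : Prop :=
  ∀ f ∈ lin (cut N K1), f ≠ 1 →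
    coef K1 Ψ φ₀ 1 = (Nat.card (core N) : ℂ) * a + coef K1 Ψ φ₀ f ∧
      coef K1 Ψ φ₀ f = -(Nat.card K1 : ℂ) * a

open scoped _root_.Classical in
/-- The coset sums of the average. -/
theorem Images.coset_sum (h₀ : φ₀ ∈ fam N K1) {a : ℤ} (ha : hI.IsA φ₀ a) {v : core N}
    (hv : v ∉ cut N K1) :
    ∑ n ∈ Finset.univ.filter (· ∈ cut N K1), rho N (Ψ φ₀) ((v * n : core N) : N) =
      (Nat.card K1 : ℂ) * (φ₀ (v : N) + a) := by
  have hs := hI.side
  haveI := hs.cut_normal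
  obtain ⟨f₀, hf₀, hf₀1, -⟩ := mem_fam.1 h₀
  obtain ⟨h1, -⟩ := ha f₀ hf₀ hf₀1
  have hsum := sum_lin_coeff hs.cut_comm (fun u : core N => excess K1 Ψ φ₀ (u : N)) v
  rw [← Finset.add_sum_erase _ _ one_mem_lin] at hsum
  simp only [MonoidHom.one_apply, Units.val_one, one_mul] at hsum
  change coef K1 Ψ φ₀ 1 + ∑ g ∈ (lin (cut N K1)).erase 1, (g v : ℂ) * coef K1 Ψ φ₀ g = _ at hsum
  have hchar := sum_lin_not_mem hs.cut_comm hv
  rw [← Finset.add_sum_erase _ _ one_mem_lin, MonoidHom.one_apply, Units.val_one] at hchar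
  rw [Finset.sum_congr rfl (g := fun g : core N →* ℂˣ => (g v : ℂ) * coef K1 Ψ φ₀ f₀) fun g hg => by
      rw [hI.coef_eq h₀ (Finset.mem_erase.1 hg).2 (Finset.mem_erase.1 hg).1 hf₀ hf₀1],
    ← Finset.sum_mul, show (∑ g ∈ (lin (cut N K1)).erase 1, (g v : ℂ)) = -1 by
      linear_combination hchar, h1] at hsum
  have hexc : ∀ n ∈ Finset.univ.filter (· ∈ cut N K1),
      excess K1 Ψ φ₀ ((v * n : core N) : N) =
        rho N (Ψ φ₀) ((v * n : core N) : N) - φ₀ (v : N) := by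
    intro n hn
    have hn' := (Finset.mem_filter.1 hn).2
    have hnot : (((v * n : core N) : N) : G) ∉ K1 := fun h => hv (by
      have := (cut N K1).mul_mem (show v * n ∈ cut N K1 from h) ((cut N K1).inv_mem hn')
      rwa [mul_inv_cancel_right] at this)
    rw [excess, if_pos ⟨(v * n).2, hnot⟩, hs.const h₀ v hn']
  rw [Finset.sum_congr rfl hexc, Finset.sum_sub_distrib, Finset.sum_const, nsmul_eq_mul,
    ← Fintype.card_subtype, ← Nat.card_eq_fintype_card,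
    show Nat.card {x // x ∈ cut N K1} = Nat.card K1 from card_cut hs.le_core,
    show (cut N K1).index = quo N K1 from rfl, card_core_eq hs.le_core, Nat.cast_mul] at hsum
  have hq0 : (quo N K1 : ℂ) ≠ 0 := Nat.cast_ne_zero.2 hs.quo_pos.ne'
  refine mul_left_cancel₀ hq0 ?_
  linear_combination -hsum

open scoped _root_.Classical in
/-- The exact norm of the average over `N_σ`. -/
theorem Images.split_norm (h₀ : φ₀ ∈ fam N K1) {a : ℤ} (ha : hI.IsA φ₀ a) :
    ∑ v ∈ Finset.univ.filter (fun v : N => (v : G) ∈ typeA1 N), ‖rho N (Ψ φ₀) v‖ ^ 2 =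
      psiZero N K1 (Ψ φ₀) + Nat.card N - Nat.card K1 * (idx N : ℝ) ^ 2 -
        2 * idx N * Nat.card K1 * a +
      ∑ v ∈ Finset.univ.filter (fun v : N => v ∈ core N ∧ (v : G) ∉ K1),
        ‖excess K1 Ψ φ₀ v‖ ^ 2 := by
  have hs := hI.side
  haveI := hs.cut_normal
  obtain ⟨f₀, hf₀, hf₀1, hφ⟩ := mem_fam.1 h₀
  set D := Finset.univ.filter (fun v : N => v ∈ core N ∧ (v : G) ∉ K1) with hD
  set T := Finset.univ.filter (fun v : N => (v : G) ∈ K1 ∧ v ≠ 1) with hT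
  have hsplit : Finset.univ.filter (fun v : N => (v : G) ∈ typeA1 N) = T ∪ D := by
    ext v
    simp only [hT, hD, Finset.mem_filter, Finset.mem_univ, true_and, Finset.mem_union,
      mem_typeA1 hs.minSimple hs.coatom]
    constructor
    · rintro ⟨hc, h1⟩
      by_cases hK : (v : G) ∈ K1
      · exact Or.inl ⟨hK, fun e => h1 (by rw [e]; rfl)⟩
      · exact Or.inr ⟨hc, hK⟩
    · rintro (⟨hK, h1⟩ | ⟨hc, hK⟩)
      · exact ⟨hs.le_core hK, fun e => h1 (Subtype.ext e)⟩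
      · exact ⟨hc, fun e => hK (e ▸ one_mem K1)⟩
  have hdisj : Disjoint T D := Finset.disjoint_left.2 fun v h1 h2 =>
    (Finset.mem_filter.1 h2).2.2 (Finset.mem_filter.1 h1).2.1
  rw [hsplit, Finset.sum_union hdisj]
  -- the norm of the member
  have hnorm : ∑ v ∈ D, ‖φ₀ v‖ ^ 2 = (Nat.card N : ℝ) - Nat.card K1 * (idx N : ℝ) ^ 2 := by
    have h1 : ∑ v : N, ‖φ₀ v‖ ^ 2 = (Nat.card N : ℝ) := by
      have h := Char.classInner_irr_self (hs.irr h₀)
      rw [classInner, inv_mul_eq_one₀ (Nat.cast_ne_zero.2 Nat.card_pos.ne')] at h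
      have := congrArg Complex.re h
      simpa [Complex.mul_conj, Complex.normSq_eq_norm_sq, Complex.re_sum, ← Complex.ofReal_pow]
        using this.symm
    rw [← h1, eq_sub_iff_add_eq, ← Finset.sum_filter_add_sum_filter_not Finset.univ
      (fun v : N => v ∈ core N ∧ (v : G) ∉ K1)]
    congr 1
    rw [← Finset.sum_filter_add_sum_filter_not (Finset.univ.filter
      (fun v : N => ¬(v ∈ core N ∧ (v : G) ∉ K1))) (fun v : N => (v : G) ∈ K1),
      Finset.sum_eq_zero (s := Finset.filter (fun v : N => ¬ (v : G) ∈ K1) _) fun v hv => ?_,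
      add_zero, Finset.sum_congr rfl (g := fun _ => (idx N : ℝ) ^ 2) fun v hv => ?_,
      Finset.sum_const, nsmul_eq_mul, Finset.filter_filter,
      show Finset.univ.filter (fun v : N => ¬(v ∈ core N ∧ (v : G) ∉ K1) ∧ (v : G) ∈ K1) =
        Finset.univ.filter (fun v : N => v ∈ K1.subgroupOf N) by
          ext v; simp [Subgroup.mem_subgroupOf]; intros; assumption,
      ← Fintype.card_subtype, ← Nat.card_eq_fintype_card,
      show Nat.card {v : N // v ∈ K1.subgroupOf N} = Nat.card K1 from Nat.card_congr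
        (Subgroup.subgroupOfEquivOfLe (hs.le_core.trans (OddLocal.sigmaCore_le N))).toEquiv]
    · have hK := (Finset.mem_filter.1 hv).2
      rw [← hφ, hI.xi_cut hf₀ (hs.le_core hK) hK, Complex.norm_natCast]
    · obtain ⟨h1', h2'⟩ := Finset.mem_filter.1 hv
      rw [hs.off h₀ fun hc => (Finset.mem_filter.1 h1').2 ⟨hc, h2'⟩]
      simp
  -- the cross term
  have hV := (ha f₀ hf₀ hf₀1).2
  have hcross : ∑ v ∈ D, excess K1 Ψ φ₀ v * conj (φ₀ v) =
      -((idx N : ℂ) * Nat.card K1 * a) := by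
    rw [Finset.sum_subset (Finset.subset_univ D) fun v _ hv => by
      rw [excess, if_neg (fun h => hv (Finset.mem_filter.2 ⟨Finset.mem_univ _, h⟩)), zero_mul]]
    have h := hI.inner_ind h₀ f₀
    rw [hφ, hV, Char.classInner_conj_symm, classInner] at h
    have hn0 : (Nat.card N : ℂ) ≠ 0 := Nat.cast_ne_zero.2 Nat.card_pos.ne'
    rw [inv_mul_eq_iff_eq_mul₀ hn0] at h
    rw [h, card_eq (N := N), Nat.cast_mul, mul_assoc,
      mul_inv_cancel_left₀ (Nat.cast_ne_zero.2 Nat.card_pos.ne')]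
    ring
  have hexp : ∑ v ∈ D, ‖rho N (Ψ φ₀) v‖ ^ 2 = ∑ v ∈ D, ‖φ₀ v‖ ^ 2 +
      2 * (∑ v ∈ D, excess K1 Ψ φ₀ v * conj (φ₀ v)).re + ∑ v ∈ D, ‖excess K1 Ψ φ₀ v‖ ^ 2 := by
    rw [Complex.re_sum, Finset.mul_sum, ← Finset.sum_add_distrib, ← Finset.sum_add_distrib]
    refine Finset.sum_congr rfl fun v hv => ?_
    rw [show rho N (Ψ φ₀) v = excess K1 Ψ φ₀ v + φ₀ v by
      rw [excess, if_pos (Finset.mem_filter.1 hv).2, sub_add_cancel]]
    rw [Complex.sq_norm, Complex.sq_norm, Complex.sq_norm, Complex.normSq_add]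
    ring
  rw [hexp, hnorm, hcross]
  simp only [psiZero, ← hT, Complex.neg_re, Complex.mul_re, Complex.natCast_re, Complex.natCast_im,
    Complex.intCast_re, Complex.intCast_im, Complex.mul_im, mul_zero, zero_mul, sub_zero, add_zero]
  ring


open scoped _root_.Classical in
/-- The lower bound on the part of the norm over `N_σ`. -/
theorem Images.lower (h₀ : φ₀ ∈ fam N K1) {a : ℤ} (ha : hI.IsA φ₀ a) :
    psiZero N K1 (Ψ φ₀) + Nat.card N - Nat.card K1 * (idx N : ℝ) ^ 2 -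
        2 * idx N * Nat.card K1 * a + ((quo N K1 : ℝ) - 1) * Nat.card K1 * (a : ℝ) ^ 2 ≤
      ∑ v ∈ Finset.univ.filter (fun v : N => (v : G) ∈ typeA1 N),
        ‖rho N (Ψ φ₀) v‖ ^ 2 := by
  have hs := hI.side
  haveI := hs.cut_normal
  obtain ⟨f₀, hf₀, hf₀1, hφ⟩ := mem_fam.1 h₀
  set D := Finset.univ.filter (fun v : N => v ∈ core N ∧ (v : G) ∉ K1) with hD
  have hV := (ha f₀ hf₀ hf₀1).2
  -- Bessel for the excess
  have hbes : (quo N K1 - 1 : ℝ) * Nat.card K1 * (a : ℝ) ^ 2 ≤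
      ∑ v ∈ D, ‖excess K1 Ψ φ₀ v‖ ^ 2 := by
    have h := bessel_lin (fun v : core N => excess K1 Ψ φ₀ (v : N)) (lin (cut N K1))
    rw [← Finset.add_sum_erase _ _ one_mem_lin, Finset.sum_congr rfl
      (g := fun _ => ((Nat.card K1 : ℝ) * |(a : ℝ)|) ^ 2) fun f hf => by
        show ‖coef K1 Ψ φ₀ f‖ ^ 2 = _
        rw [(ha f (Finset.mem_erase.1 hf).2 (Finset.mem_erase.1 hf).1).2]
        simp,
      Finset.sum_const, nsmul_eq_mul, Finset.card_erase_of_mem one_mem_lin,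
      card_lin hs.cut_comm] at h
    have hT1 : ‖coef K1 Ψ φ₀ 1‖ ^ 2 =
        (((quo N K1 : ℝ) - 1) * Nat.card K1) ^ 2 * (a : ℝ) ^ 2 := by
      rw [(ha f₀ hf₀ hf₀1).1, hV, card_core_eq hs.le_core,
        show ((quo N K1 * Nat.card K1 : ℕ) : ℂ) * a + -(Nat.card K1 : ℂ) * a =
          ((((quo N K1 : ℝ) - 1) * Nat.card K1 * a : ℝ) : ℂ) by push_cast; ring,
        Complex.norm_real, Real.norm_eq_abs, sq_abs, mul_pow]
    change ‖coef K1 Ψ φ₀ 1‖ ^ 2 + ((quo N K1 - 1 : ℕ) : ℝ) * _ ≤ _ at h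
    rw [hT1, Nat.cast_sub hs.quo_pos, Nat.cast_one, mul_pow ((Nat.card K1 : ℝ)), card_core_eq hs.le_core,
      Nat.cast_mul] at h
    simp only [sq_abs] at h
    have hsum : ∑ v : core N, ‖excess K1 Ψ φ₀ (v : N)‖ ^ 2 =
        ∑ v ∈ D, ‖excess K1 Ψ φ₀ v‖ ^ 2 := by
      rw [← Finset.sum_subtype (Finset.univ.filter (· ∈ core N)) (fun v => by simp)
        (fun v : N => ‖excess K1 Ψ φ₀ v‖ ^ 2)]
      refine (Finset.sum_subset (fun v hv => Finset.mem_filter.2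
        ⟨Finset.mem_univ _, (Finset.mem_filter.1 hv).2.1⟩) fun v _ hv => ?_).symm
      rw [excess, if_neg fun h' => hv (Finset.mem_filter.2 ⟨Finset.mem_univ _, h'⟩)]
      simp
    rw [hsum] at h
    have hq : (1 : ℝ) ≤ quo N K1 := by exact_mod_cast hs.quo_pos
    have hk : (0 : ℝ) < Nat.card K1 := Nat.cast_pos.2 Nat.card_pos
    nlinarith [h, mul_pos (lt_of_lt_of_le one_pos hq) hk]
  rw [hI.split_norm h₀ ha, ← hD]
  linarith

end Cfsg.Agent.OddCharTwelve
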