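import Cfsg.Agent.OddCharTwelve.Rho
import Cfsg.Agent.OddCharTwelve.Dual
import Cfsg.Agent.OddChars.InducedFamily
import Cfsg.Agent.OddChars.IrrCriteria
import Cfsg.Agent.Coherence.Criteria
import Cfsg.Agent.Char.Galois

/-!
# The coherent family induced from the linear characters of `N_σ`
-/

set_option autoImplicit false
set_option linter.unusedSectionVars false

namespace Cfsg.Agent.OddCharTwelve

open Subgroup Cfsg
open scoped ComplexConjugate commutatorElement

universe u

variable {G : Type u} [Group G] [Finite G]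

/-- `N_σ` inside `N`. -/
abbrev core (N : Subgroup G) : Subgroup ↥N := (sigmaCore N).subgroupOf N

instance core_normal (N : Subgroup G) : (core N).Normal :=
  normal_subgroupOf_of_le_normalizer (OddLocal.le_normalizer_sigmaCore N)

/-- `K₁` inside `N_σ` inside `N`. -/
abbrev cut (N K1 : Subgroup G) : Subgroup ↥(core N) := (K1.subgroupOf N).subgroupOf (core N)

/-- `N / K₁` has the kernel `N_σ / K₁` with abelian quotient and no fixed points. -/
structure NSide (N K1 : Subgroup G) : Prop where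
  minSimple : IsMinSimpleOddOrder G
  coatom : IsCoatom N
  le_core : K1 ≤ sigmaCore N
  normal : N ≤ normalizer (K1 : Set G)
  comm : ⁅sigmaCore N, sigmaCore N⁆ ≤ K1
  lt : K1 < sigmaCore N
  fpf : ∀ w ∈ N, w ∉ sigmaCore N → ∀ v ∈ sigmaCore N, ⁅w, v⁆ ∈ K1 → v ∈ K1

/-- The number `e`. -/
noncomputable def idx (N : Subgroup G) : ℕ := (core N).index

/-- The number `K`. -/
noncomputable def quo (N K1 : Subgroup G) : ℕ := (cut N K1).index

theorem mem_cut {N K1 : Subgroup G} {v : core N} : v ∈ cut N K1 ↔ ((v : N) : G) ∈ K1 := Iff.rfl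

theorem card_core (N : Subgroup G) : Nat.card (core N) = Nat.card (sigmaCore N) :=
  Nat.card_congr (Subgroup.subgroupOfEquivOfLe (OddLocal.sigmaCore_le N)).toEquiv

theorem card_cut {N K1 : Subgroup G} (h : K1 ≤ sigmaCore N) :
    Nat.card (cut N K1) = Nat.card K1 := by
  rw [Nat.card_congr (Subgroup.subgroupOfEquivOfLe
    (show K1.subgroupOf N ≤ core N from fun v hv => h hv)).toEquiv]
  exact Nat.card_congr (Subgroup.subgroupOfEquivOfLe (h.trans (OddLocal.sigmaCore_le N))).toEquiv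

theorem card_eq {N : Subgroup G} : Nat.card N = idx N * Nat.card (core N) := by
  rw [idx, mul_comm, Subgroup.card_mul_index]

theorem card_core_eq {N K1 : Subgroup G} (h : K1 ≤ sigmaCore N) :
    Nat.card (core N) = quo N K1 * Nat.card K1 := by
  rw [quo, mul_comm, ← card_cut h, Subgroup.card_mul_index]

/-- A linear character as a function. -/
noncomputable def lf {N : Subgroup G} (f : ↥(core N) →* ℂˣ) : ↥(core N) → ℂ := fun v => (f v : ℂ)

variable [Fintype G]

/-- The induced function. -/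
noncomputable def xi (N : Subgroup G) [Fintype N] (f : ↥(core N) →* ℂˣ) : ↥N → ℂ :=
  indFun (core N) (lf f)

open scoped _root_.Classical in
/-- The family. -/
noncomputable def fam (N K1 : Subgroup G) [Fintype N] [Fintype (core N)] : Finset (↥N → ℂ) :=
  ((lin (cut N K1)).erase 1).image (xi N)

variable {N K1 : Subgroup G} [Fintype N] [Fintype (core N)]

theorem xi_apply_one (f : ↥(core N) →* ℂˣ) : xi N f 1 = idx N := by
  rw [xi, Char.indFun_apply_one, idx]; simp [lf]

theorem xi_off (f : ↥(core N) →* ℂˣ) {v : N} (hv : v ∉ core N) : xi N f v = 0 :=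
  Char.indFun_apply_of_normal _ _ hv

theorem isGen_xi (f : ↥(core N) →* ℂˣ) : IsGeneralizedCharacter N (xi N f) :=
  Char.isGeneralized_of_isCharacter (Char.isCharacter_indFun _ (Char.isCharacter_hom f))

theorem mem_fam {φ : N → ℂ} :
    φ ∈ fam N K1 ↔ ∃ f ∈ lin (cut N K1), f ≠ 1 ∧ xi N f = φ := by
  simp [fam]; tauto

variable (h : NSide N K1)

include h

theorem NSide.cut_normal : (cut N K1).Normal := by
  haveI : (K1.subgroupOf N).Normal := normal_subgroupOf_of_le_normalizer h.normal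
  infer_instance

theorem NSide.cut_comm (a b : core N) : ⁅a, b⁆ ∈ cut N K1 := by
  refine mem_cut.2 (h.comm ?_)
  simpa [commutatorElement_def] using
    commutator_mem_commutator (H₁ := sigmaCore N) (H₂ := sigmaCore N) a.2 b.2

theorem NSide.idx_pos : 0 < idx N := Nat.pos_of_ne_zero (core N).index_ne_zero_of_finite

theorem NSide.quo_pos : 0 < quo N K1 := Nat.pos_of_ne_zero (cut N K1).index_ne_zero_of_finite

theorem NSide.inertia_eq {f : ↥(core N) →* ℂˣ} (hf : f ∈ lin (cut N K1)) (hf1 : f ≠ 1) :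
    Char.inertia (G := ↥N) (lf f) = core N := by
  haveI := h.cut_normal
  refine le_antisymm (fun g hg => ?_) (Char.le_inertia
    (Char.isClassFunction_of_isIrr (Char.isIrrCharacter_hom f)))
  by_contra hgK
  refine hf1 ?_
  have hfix : ∀ v : core N, f ⟨g * v * g⁻¹, (core_normal N).conj_mem _ v.2 g⟩ = f v := by
    intro v
    have := congrFun (Char.mem_inertia.1 hg) v
    rw [Char.conjFun_apply] at this
    exact Units.ext this
  let φ : core N → core N := fun v =>
    ⟨g * v * g⁻¹, (core_normal N).conj_mem _ v.2 g⟩ * v⁻¹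
  have hφ : ∀ v, f (φ v) = 1 := fun v => by
    simp only [φ, map_mul, map_inv, hfix v, mul_inv_cancel]
  let σ : core N →* core N :=
    MonoidHom.mk' (fun v => ⟨g * v * g⁻¹, (core_normal N).conj_mem _ v.2 g⟩)
      fun a b => Subtype.ext (by simp [mul_assoc])
  -- the induced map on the quotient is injective
  let q := QuotientGroup.mk' (cut N K1)
  letI : CommGroup (core N ⧸ cut N K1) :=
    { (inferInstance : Group (core N ⧸ cut N K1)) with
      mul_comm := fun a b => by
        induction a using QuotientGroup.induction_on with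
        | _ a =>
        induction b using QuotientGroup.induction_on with
        | _ b =>
        rw [← commutatorElement_eq_one_iff_mul_comm, ← QuotientGroup.mk'_apply,
          ← QuotientGroup.mk'_apply, ← map_commutatorElement, QuotientGroup.mk'_apply,
          QuotientGroup.eq_one_iff]
        exact h.cut_comm a b }
  let ψ : core N →* core N ⧸ cut N K1 := MonoidHom.mk' (fun v => q (φ v)) fun a b => by
    show q (σ (a * b) * (a * b)⁻¹) = q (σ a * a⁻¹) * q (σ b * b⁻¹)
    simp only [map_mul, map_inv, mul_inv_rev]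
    rw [mul_assoc, mul_assoc, mul_left_comm (q a)⁻¹, mul_comm (q b)⁻¹]
  have hker : ψ.ker ≤ cut N K1 := fun v hv => by
    refine mem_cut.2 (h.fpf (g : G) g.2 hgK _ v.2 ?_)
    have : φ v ∈ cut N K1 := (QuotientGroup.eq_one_iff _).1 hv
    simpa [φ, commutatorElement_def, mem_cut] using this
  have hle : cut N K1 ≤ ψ.ker := fun v hv => by
    refine (QuotientGroup.eq_one_iff _).2 (mem_cut.2 ?_)
    show ((g : G) * ((v : N) : G) * (g : G)⁻¹) * ((v : N) : G)⁻¹ ∈ K1
    exact K1.mul_mem ((mem_normalizer_iff.1 (h.normal g.2) _).1 hv) (K1.inv_mem hv)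
  have hsurj : Function.Surjective (QuotientGroup.lift (cut N K1) ψ hle) := by
    refine Finite.surjective_of_injective ((injective_iff_map_eq_one _).2 fun a ha => ?_)
    induction a using QuotientGroup.induction_on with
    | _ a => exact (QuotientGroup.eq_one_iff a).2 (hker ha)
  refine MonoidHom.ext fun v => ?_
  obtain ⟨a, ha⟩ := hsurj (v : core N ⧸ cut N K1)
  induction a using QuotientGroup.induction_on with
  | _ a =>
    have he : (φ a)⁻¹ * v ∈ cut N K1 := QuotientGroup.eq.1 ha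
    rw [← mul_inv_cancel_left (φ a) v, map_mul, hφ, one_mul, mem_lin.1 hf _ he]
    rfl

theorem NSide.irr {φ : N → ℂ} (hφ : φ ∈ fam N K1) : IsIrrCharacter N φ := by
  obtain ⟨f, hf, hf1, rfl⟩ := mem_fam.1 hφ
  exact Char.isIrr_indFun_of_inertia (Char.isIrrCharacter_hom f) (h.inertia_eq hf hf1)

theorem NSide.apply_one {φ : N → ℂ} (hφ : φ ∈ fam N K1) : φ 1 = idx N := by
  obtain ⟨f, -, -, rfl⟩ := mem_fam.1 hφ
  exact xi_apply_one f

theorem NSide.off {φ : N → ℂ} (hφ : φ ∈ fam N K1) {v : N} (hv : v ∉ core N) : φ v = 0 := by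
  obtain ⟨f, -, -, rfl⟩ := mem_fam.1 hφ
  exact xi_off f hv

theorem NSide.gen {φ : N → ℂ} (hφ : φ ∈ fam N K1) : IsGeneralizedCharacter N φ :=
  Char.isGeneralized_of_isCharacter (Char.IsIrr.isCharacter (h.irr hφ))

/-- The members are invariant under multiplication by `K₁`. -/
theorem NSide.const {φ : N → ℂ} (hφ : φ ∈ fam N K1) (v : core N) {n : core N}
    (hn : n ∈ cut N K1) : φ ((v * n : core N) : N) = φ (v : N) := by
  obtain ⟨f, hf, -, rfl⟩ := mem_fam.1 hφ
  rw [xi]
  have hA : (K1.subgroupOf N).Normal := normal_subgroupOf_of_le_normalizer h.normal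
  rw [Char.indFun_apply_coe_of_normal, Char.indFun_apply_coe_of_normal]
  congr 1
  refine Finset.sum_congr rfl fun x _ => ?_
  have hn' : (⟨x⁻¹ * (n : N) * x, (core_normal N).conj_mem' _ n.2 x⟩ : core N) ∈ cut N K1 :=
    hA.conj_mem' _ hn x
  refine congrArg (fun u : ℂˣ => (u : ℂ)) ?_
  rw [show (⟨x⁻¹ * ((v * n : core N) : N) * x, _⟩ : core N) =
    ⟨x⁻¹ * (v : N) * x, (core_normal N).conj_mem' _ v.2 x⟩ *
      ⟨x⁻¹ * (n : N) * x, (core_normal N).conj_mem' _ n.2 x⟩ from Subtype.ext (by simp [mul_assoc]),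
    lin_mul_right hf hn']

theorem NSide.apply_cut {φ : N → ℂ} (hφ : φ ∈ fam N K1) {n : core N} (hn : n ∈ cut N K1) :
    φ (n : N) = idx N := by
  have := h.const hφ 1 hn
  rw [one_mul] at this
  rw [this, OneMemClass.coe_one, h.apply_one hφ]

open scoped _root_.Classical in
theorem NSide.card_fam : quo N K1 - 1 ≤ idx N * (fam N K1).card := by
  haveI := h.cut_normal
  have hc : ((lin (cut N K1)).erase 1).card = quo N K1 - 1 := by
    rw [Finset.card_erase_of_mem one_mem_lin, card_lin h.cut_comm, quo]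
  rw [← hc, fam]
  refine Finset.card_le_mul_card_image_of_maps_to (fun f hf => Finset.mem_image_of_mem _ hf)
    (idx N) fun b hb => ?_
  obtain ⟨f, hf, rfl⟩ := Finset.mem_image.1 hb
  obtain ⟨hf1, hfl⟩ := Finset.mem_erase.1 hf
  refine le_trans ?_ (le_of_eq ((Char.card_orbit (G := ↥N) (lf f)).trans
    (congrArg Subgroup.index (h.inertia_eq hfl hf1))))
  refine Finset.card_le_card_of_injOn lf (fun g hg => ?_) fun a _ b _ e =>
    MonoidHom.ext fun v => Units.ext (congrFun e v)
  exact (OddChars.indFun_eq_iff (Char.isIrrCharacter_hom f) (Char.isIrrCharacter_hom g)).1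
    (Finset.mem_filter.1 hg).2.symm

theorem NSide.two_le_quo : 2 ≤ quo N K1 := by
  refine Subgroup.one_lt_index_of_ne_top fun e => h.lt.not_ge fun v hv => ?_
  exact mem_cut.1 (e ▸ mem_top (⟨⟨v, OddLocal.sigmaCore_le N hv⟩, hv⟩ : core N))

theorem NSide.sub_supp {φ φ' : N → ℂ} (hφ : φ ∈ fam N K1) (hφ' : φ' ∈ fam N K1) (v : N)
    (hv : (v : G) ∉ typeA1 N) : (φ - φ') v = 0 := by
  rw [mem_typeA1 h.minSimple h.coatom, not_and_or, not_not] at hv
  rcases hv with hv | hv
  · have hv' : v ∉ core N := hv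
    simp [h.off hφ hv', h.off hφ' hv']
  · obtain rfl : v = 1 := Subtype.ext hv
    simp [h.apply_one hφ, h.apply_one hφ']

/-- The coherent images. -/
structure Images (N K1 : Subgroup G) [Fintype N] [Fintype (core N)]
    (Ψ : (↥N → ℂ) → G → ℂ) : Prop where
  side : NSide N K1
  gen : ∀ φ ∈ fam N K1, IsGeneralizedCharacter G (Ψ φ)
  inner : ∀ φ ∈ fam N K1, ∀ φ' ∈ fam N K1, classInner (Ψ φ) (Ψ φ') = classInner φ φ'
  diff : ∀ φ ∈ fam N K1, ∀ φ' ∈ fam N K1, tau1Map N (φ - φ') = Ψ φ - Ψ φ'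

theorem NSide.irrIso : OddChars.IrrIso (↑(fam N K1) : Set (N → ℂ)) (tau1Map N) := by
  have hD := dade1 h.minSimple h.coatom
  have hgen : ∀ α ∈ zspanOn (↑(fam N K1) : Set (N → ℂ)) {1}ᶜ, IsGeneralizedCharacter N α :=
    fun α hα => Coherence.isGeneralized_zspan (fun φ hφ => h.gen hφ) hα.1
  have hoff : ∀ α ∈ zspanOn (↑(fam N K1) : Set (N → ℂ)) {1}ᶜ,
      ∀ v : N, (v : G) ∉ typeA1 N → α v = 0 := by
    intro α hα v hv
    rcases eq_or_ne v 1 with rfl | hv1
    · exact (Coherence.mem_zspanOn_compl_one.1 hα).2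
    have hv' : v ∉ core N := fun hc => hv ((mem_typeA1 h.minSimple h.coatom).2
      ⟨hc, fun e => hv1 (Subtype.ext e)⟩)
    refine Coherence.zspan_induction (P := fun β : N → ℂ => β v = 0) hα.1
      (fun φ hφ => h.off hφ hv') rfl (fun β γ _ _ hb hc => ?_) fun n β _ hb => ?_
    · rw [Pi.add_apply, hb, hc, add_zero]
    · rw [Pi.smul_apply, hb, smul_zero]
  refine ⟨fun φ hφ => h.irr hφ, ⟨fun α _ β _ => ?_, fun α _ n => ?_,
    fun α hα β hβ => Coherence.Dade.inner_dade_dade hD α β
      (Char.IsGen.isClassFunction (hgen α hα)) (hoff α hα)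
      (Char.IsGen.isClassFunction (hgen β hβ)),
    fun α hα => Coherence.Dade.isGeneralized_dade hD (hgen α hα) (hoff α hα)⟩, fun α hα => ?_⟩
  · funext g; simp only [tau1Map, dadeIsometry, Pi.add_apply]; split_ifs <;> simp
  · funext g; simp only [tau1Map, dadeIsometry, Pi.smul_apply]; split_ifs <;> simp
  · refine Coherence.Dade.dade_eq_zero hD ?_
    rintro ⟨a, ha, u, hu, x, hx⟩
    have he : u = a⁻¹ := eq_inv_of_mul_eq_one_right (by rw [← hx]; group)
    have hu1 : u = 1 := Coherence.Dade.disjoint_L hD ha hu (he ▸ inv_mem (hD.subset ha))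
    rw [hu1, eq_comm, inv_eq_one] at he
    exact hD.one_not_mem (he ▸ ha)

theorem NSide.exists_images (h2 : 2 ≤ (fam N K1).card) :
    ∃ Ψ : (↥N → ℂ) → G → ℂ, Images N K1 Ψ := by
  obtain ⟨a, ha, b, hb, hab⟩ := Finset.one_lt_card.1 h2
  obtain ⟨-, τ₁, hτ₁, hag⟩ := OddChars.irr_coherent_const_degree h.irrIso ⟨a, ha, b, hb, hab⟩
    fun φ hφ φ' hφ' => by rw [h.apply_one hφ, h.apply_one hφ']
  have hm := fun φ (hφ : φ ∈ fam N K1) =>
    Coherence.mem_zspan_of_mem (S := (↑(fam N K1) : Set (N → ℂ))) hφ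
  refine ⟨τ₁, ⟨h, fun φ hφ => hτ₁.2.2.2 _ (hm φ hφ),
    fun φ hφ φ' hφ' => hτ₁.2.2.1 _ (hm φ hφ) _ (hm φ' hφ'), fun φ hφ φ' hφ' => ?_⟩⟩
  rw [← Coherence.iso_zspan_sub hτ₁ (hm φ hφ) (hm φ' hφ')]
  exact (hag _ (Coherence.mem_zspanOn_compl_one.2
    ⟨Coherence.zspan_sub (hm φ hφ) (hm φ' hφ'), by simp [h.apply_one hφ, h.apply_one hφ']⟩)).symm

end Cfsg.Agent.OddCharTwelve
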