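import Cfsg.Agent.OddCharTwelve.NBound

/-!
# Orthogonality and power maps for the images
-/

set_option autoImplicit false
set_option linter.unusedSectionVars false

namespace Cfsg.Agent.OddCharTwelve

open Subgroup Cfsg
open scoped ComplexConjugate

universe u

variable {G : Type u} [Group G] [Fintype G] {N K1 : Subgroup G} [Fintype N] [Fintype (core N)]
variable {Ψ : (↥N → ℂ) → G → ℂ} (hI : Images N K1 Ψ) {φ₀ : ↥N → ℂ}

include hI

theorem Images.sirr {φ : ↥N → ℂ} (hφ : φ ∈ fam N K1) : classInner (Ψ φ) (Ψ φ) = 1 := by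
  rw [hI.inner φ hφ φ hφ, Char.classInner_irr_self (hI.side.irr hφ)]

/-- A function with the same inner product against all members is nearly orthogonal to them. -/
theorem Images.const_bound {β : G → ℂ} {c : ℂ}
    (hc : ∀ φ ∈ fam N K1, classInner β (Ψ φ) = c) :
    ((fam N K1).card : ℝ) * ‖c‖ ^ 2 ≤ (classInner β β).re := by
  classical
  have h := (Coherence.bessel (fam N K1) Ψ
    (fun φ hφ e => by
      have := hI.sirr hφ
      rw [e, Char.classInner_zero_left] at this
      exact zero_ne_one this)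
    (fun φ hφ φ' hφ' hne => by
      rw [hI.inner φ hφ φ' hφ', Char.classInner_irr_ne (hI.side.irr hφ) (hI.side.irr hφ') hne])
    β).1
  rw [Finset.sum_congr rfl (g := fun _ => ‖c‖ ^ 2) fun φ hφ => by
    rw [hc φ hφ, hI.sirr hφ, Complex.one_re, div_one], Finset.sum_const, nsmul_eq_mul] at h
  exact h

theorem Images.orth_of_diff {β : G → ℂ} (hβ : IsGeneralizedCharacter G β)
    (hd : ∀ φ ∈ fam N K1, ∀ φ' ∈ fam N K1, classInner β (tau1Map N (φ - φ')) = 0) {n : ℕ}
    (hn : (classInner β β).re ≤ n) (hm : n < (fam N K1).card) (h₀ : φ₀ ∈ fam N K1) :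
    classInner β (Ψ φ₀) = 0 := by
  obtain ⟨z, hz⟩ := Char.classInner_generalized_int hβ (hI.gen _ h₀)
  have h := hI.const_bound (c := (z : ℂ)) fun φ hφ => by
    have := hd φ hφ φ₀ h₀
    rw [hI.diff φ hφ φ₀ h₀, Char.classInner_sub_right, hz, sub_eq_zero] at this
    exact this
  rw [hz]
  by_contra hz0
  have hz1 : (1 : ℝ) ≤ ‖(z : ℂ)‖ ^ 2 := by
    rw [Coherence.norm_intCast_sq]
    have h0 : z ≠ 0 := fun e => hz0 (by rw [e]; simp)
    exact_mod_cast (sq_pos_of_ne_zero h0 : 0 < z ^ 2)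
  have : ((fam N K1).card : ℝ) ≤ n := by nlinarith
  have : (fam N K1).card ≤ n := by exact_mod_cast this
  omega

theorem Images.eq_at {g : G} (h : g ∉ Coherence.Dade.support (typeA1 N) (supportR N))
    {φ φ' : ↥N → ℂ} (hφ : φ ∈ fam N K1) (hφ' : φ' ∈ fam N K1) : Ψ φ g = Ψ φ' g := by
  have := congrFun (hI.diff φ hφ φ' hφ') g
  rw [tau1Map, Coherence.Dade.dade_eq_zero (dade1 hI.side.minSimple hI.side.coatom) h,
    Pi.sub_apply, eq_comm, sub_eq_zero] at this
  exact this

theorem Images.eq_at_core {g : G} (hg : g ∈ K1) (hg1 : g ≠ 1)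
    {φ φ' : ↥N → ℂ} (hφ : φ ∈ fam N K1) (hφ' : φ' ∈ fam N K1) : Ψ φ g = Ψ φ' g := by
  have hs := hI.side
  have hgN : g ∈ N := OddLocal.sigmaCore_le N (hs.le_core hg)
  have := congrFun (hI.diff φ hφ φ' hφ') g
  have hcl := Char.IsGen.isClassFunction (Char.isGeneralized_sub (hs.gen hφ) (hs.gen hφ'))
  have hd := Coherence.Dade.dade_coe (dade1 hs.minSimple hs.coatom) hcl (a := ⟨g, hgN⟩)
    ((mem_typeA1 hs.minSimple hs.coatom).2 ⟨hs.le_core hg, hg1⟩)
  change tau1Map N (φ - φ') g = _ at hd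
  rw [hd, Pi.sub_apply, Pi.sub_apply] at this
  have e1 : φ ⟨g, hgN⟩ = idx N := hs.apply_cut hφ (n := ⟨⟨g, hgN⟩, hs.le_core hg⟩) hg
  have e2 : φ' ⟨g, hgN⟩ = idx N := hs.apply_cut hφ' (n := ⟨⟨g, hgN⟩, hs.le_core hg⟩) hg
  rw [e1, e2, sub_self, eq_comm, sub_eq_zero] at this
  exact this

omit hI in
theorem centralizer_pow_coprime {k : ℕ} (hk : k.Coprime (Nat.card G)) (a : G) :
    centralizer ({a ^ k} : Set G) = centralizer ({a} : Set G) := by
  ext c
  rw [mem_centralizer_singleton_iff, mem_centralizer_singleton_iff]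
  refine ⟨fun h => ?_, fun h => ((show Commute c a from h).pow_right k).eq⟩
  obtain ⟨l, hl⟩ : ∃ l, (a ^ k) ^ l = a :=
    exists_pow_eq_self_of_coprime (hk.coprime_dvd_right (orderOf_dvd_natCard a))
  conv_lhs => rw [← hl]
  conv_rhs => rw [← hl]
  exact ((show Commute c (a ^ k) from h).pow_right l).eq

omit hI in
theorem supportR_congr (M : Subgroup G) {a b : G}
    (h : centralizer ({a} : Set G) = centralizer ({b} : Set G)) :
    supportR M a = supportR M b := by
  have key : ∀ C : Subgroup G, ∀ (c : G), centralizer ({c} : Set G) = C →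
      supportR M c = (open scoped _root_.Classical in
        if h : ¬ C ≤ M ∧ ∃! L : Subgroup G, IsCoatom L ∧ C ≤ L then
          fittingHallOf (_root_.Classical.choose h.2.exists) ⊓ C else ⊥) := by
    rintro C c rfl
    rfl
  rw [key _ a h, key _ b rfl]

omit hI in
theorem isGen_comp_pow {k : ℕ} (hk : k.Coprime (Nat.card G)) {χ : G → ℂ}
    (h : IsGeneralizedCharacter G χ) : IsGeneralizedCharacter G (fun g => χ (g ^ k)) := by
  obtain ⟨σ, hσ⟩ := Char.exists_galois_pow (G := G) k hk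
  obtain ⟨a, b, ha, hb, rfl⟩ := h
  exact ⟨_, _, Char.isCharacter_map σ ha, Char.isCharacter_map σ hb,
    funext fun g => by simp [hσ ha g, hσ hb g]⟩

omit hI in
theorem inner_comp_pow {k : ℕ} (hk : k.Coprime (Nat.card G)) (χ η : G → ℂ) :
    classInner (fun g => χ (g ^ k)) (fun g => η (g ^ k)) = classInner χ η := by
  simp only [classInner]
  congr 1
  exact (powCoprime hk.symm).sum_comp (fun g => χ g * conj (η g))

/-- The support of the Dade map is closed under coprime powers. -/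
theorem Images.support_pow {g : G} {k : ℕ} (hk : k.Coprime (Nat.card G))
    (hg : g ∈ Coherence.Dade.support (typeA1 N) (supportR N)) :
    ∃ (a : ↥N) (x u : G), (a : G) ∈ typeA1 N ∧ u ∈ supportR N a ∧
      x * g * x⁻¹ = a * u ∧ (a : G) ^ k ∈ typeA1 N ∧ u ^ k ∈ supportR N ((a : G) ^ k) ∧
      x * g ^ k * x⁻¹ = (a : G) ^ k * u ^ k := by
  have hs := hI.side
  have hD := dade1 hs.minSimple hs.coatom
  obtain ⟨a, ha, u, hu, x, hx⟩ := hg
  obtain ⟨haσ, ha1⟩ := (mem_typeA1 hs.minSimple hs.coatom).1 ha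
  refine ⟨⟨a, OddLocal.sigmaCore_le N haσ⟩, x, u, ha, hu, hx, ?_, ?_, ?_⟩
  · refine (mem_typeA1 hs.minSimple hs.coatom).2 ⟨pow_mem haσ k, fun e => ha1 ?_⟩
    obtain ⟨l, hl⟩ : ∃ l, (a ^ k) ^ l = a :=
      exists_pow_eq_self_of_coprime (hk.coprime_dvd_right (orderOf_dvd_natCard a))
    rw [← hl, e, one_pow]
  · rw [supportR_congr N (centralizer_pow_coprime hk a)]
    exact pow_mem hu k
  · rw [← conj_pow, hx]
    exact (show Commute a u from Coherence.Dade.comm_of_mem hD ha hu).mul_pow k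

theorem Images.fam_pow {φ : ↥N → ℂ} (hφ : φ ∈ fam N K1) {k : ℕ}
    (hk : k.Coprime (Nat.card G)) : (fun v => φ (v ^ k)) ∈ fam N K1 := by
  classical
  obtain ⟨f, hf, hf1, rfl⟩ := mem_fam.1 hφ
  have hkN : k.Coprime (Nat.card N) := hk.coprime_dvd_right (card_subgroup_dvd_card N)
  refine mem_fam.2 ⟨f ^ k, mem_lin.2 fun n hn => by simp [mem_lin.1 hf n hn], fun e => hf1 ?_, ?_⟩
  · refine MonoidHom.ext fun v => ?_
    obtain ⟨l, hl⟩ : ∃ l, (v ^ k) ^ l = v :=
      exists_pow_eq_self_of_coprime (hk.coprime_dvd_right ((orderOf_dvd_natCard v).trans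
        ((card_subgroup_dvd_card (core N)).trans (card_subgroup_dvd_card N))))
    rw [← hl, map_pow, map_pow, ← MonoidHom.pow_apply, e]
    simp
  · funext v
    by_cases hv : v ∈ core N
    · rw [xi, xi, show v = ((⟨v, hv⟩ : core N) : N) from rfl, ← SubgroupClass.coe_pow,
        Char.indFun_apply_coe_of_normal, Char.indFun_apply_coe_of_normal]
      congr 1
      refine Finset.sum_congr rfl fun x _ => ?_
      simp only [lf, MonoidHom.pow_apply, Units.val_pow_eq_pow_val]
      rw [← Units.val_pow_eq_pow_val, ← map_pow]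
      congr 2
      exact Subtype.ext (by
        simp only [SubgroupClass.coe_pow]
        simpa using (conj_pow (a := x⁻¹) (b := v) (i := k)))
    · rw [xi_off _ hv, xi_off _ fun h => hv ?_]
      obtain ⟨l, hl⟩ : ∃ l, (v ^ k) ^ l = v :=
        exists_pow_eq_self_of_coprime (hkN.coprime_dvd_right (orderOf_dvd_natCard v))
      exact hl ▸ pow_mem h l

/-- Power maps permute the images. -/
theorem Images.apply_pow (h3 : 3 ≤ (fam N K1).card) (h₀ : φ₀ ∈ fam N K1) {k : ℕ}
    (hk : k.Coprime (Nat.card G)) (g : G) : Ψ φ₀ (g ^ k) = Ψ (fun v => φ₀ (v ^ k)) g := by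
  classical
  have hs := hI.side
  set u : (↥N → ℂ) → G → ℂ := fun φ g => Ψ φ (g ^ k) with hu
  set w : (↥N → ℂ) → G → ℂ := fun φ => Ψ (fun v => φ (v ^ k)) with hw
  set D := u φ₀ - w φ₀ with hD
  have htau : ∀ φ ∈ fam N K1, u φ - u φ₀ = w φ - w φ₀ := by
    intro φ hφ
    funext g
    simp only [hu, hw, Pi.sub_apply]
    have h1 := congrFun (hI.diff φ hφ φ₀ h₀) (g ^ k)
    have h2 := congrFun (hI.diff _ (hI.fam_pow hφ hk) _ (hI.fam_pow h₀ hk)) g
    rw [Pi.sub_apply] at h1 h2
    rw [← h1, ← h2]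
    have hDd := dade1 hs.minSimple hs.coatom
    have hc1 := Char.IsGen.isClassFunction (Char.isGeneralized_sub (hs.gen hφ) (hs.gen h₀))
    have hc2 := Char.IsGen.isClassFunction
      (Char.isGeneralized_sub (hs.gen (hI.fam_pow hφ hk)) (hs.gen (hI.fam_pow h₀ hk)))
    by_cases hg : g ∈ Coherence.Dade.support (typeA1 N) (supportR N)
    · obtain ⟨a, x, v, ha, hv, hx, hak, hvk, hxk⟩ := hI.support_pow hk hg
      simp only [tau1Map]
      rw [Coherence.Dade.dade_apply hDd hc2 ha hv hx,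
        Coherence.Dade.dade_apply hDd hc1 (a := a ^ k) (by simpa using hak)
          (by simpa using hvk) (x := x) (by simpa using hxk)]
      rfl
    · have hgk : g ^ k ∉ Coherence.Dade.support (typeA1 N) (supportR N) := by
        intro hgk
        obtain ⟨l, hl1, hl2⟩ : ∃ l : ℕ, l.Coprime (Nat.card G) ∧ (g ^ k) ^ l = g := by
          have hne : NeZero (Nat.card G) := ⟨Nat.card_pos.ne'⟩
          refine ⟨((ZMod.unitOfCoprime k hk)⁻¹ : (ZMod (Nat.card G))ˣ).val.val,
            ZMod.val_coe_unit_coprime _, ?_⟩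
          rw [← pow_mul]
          conv_rhs => rw [← pow_one g]
          refine pow_eq_pow_iff_modEq.2 (Nat.ModEq.of_dvd (orderOf_dvd_natCard g) ?_)
          rw [← ZMod.natCast_eq_natCast_iff, Nat.cast_mul, ZMod.natCast_zmod_val, Nat.cast_one,
            ← ZMod.coe_unitOfCoprime k hk, Units.mul_inv]
        obtain ⟨a, x, v, ha, hv, hx, hak, hvk, hxk⟩ := hI.support_pow hl1 hgk
        rw [hl2] at hxk
        exact hg ⟨_, hak, _, hvk, x, hxk⟩
      simp only [tau1Map]
      rw [Coherence.Dade.dade_eq_zero hDd hgk, Coherence.Dade.dade_eq_zero hDd hg]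
  have huw : ∀ φ ∈ fam N K1, u φ = w φ + D := fun φ hφ => by
    have := htau φ hφ
    rw [hD]
    rw [sub_eq_sub_iff_add_eq_add] at this
    rw [← add_sub_assoc, eq_sub_iff_add_eq]
    exact this
  have hgenD : IsGeneralizedCharacter G D :=
    Char.isGeneralized_sub (isGen_comp_pow hk (hI.gen _ h₀)) (hI.gen _ (hI.fam_pow h₀ hk))
  obtain ⟨d, hd⟩ := Char.classInner_generalized_int hgenD hgenD
  obtain ⟨r, hr⟩ := Char.classInner_generalized_int (isGen_comp_pow hk (hI.gen _ h₀))
    (hI.gen _ (hI.fam_pow h₀ hk))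
  have hwu : ∀ φ ∈ fam N K1, classInner (u φ) (u φ) = 1 ∧ classInner (w φ) (w φ) = 1 := fun φ hφ =>
    ⟨by rw [hu, inner_comp_pow hk, hI.sirr hφ], hI.sirr (hI.fam_pow hφ hk)⟩
  -- the norm of `D` is even
  have hev : (d : ℂ) = 2 - 2 * (r : ℂ) := by
    rw [← hd, hD, Char.classInner_sub_left, Char.classInner_sub_right, Char.classInner_sub_right,
      (hwu _ h₀).1, (hwu _ h₀).2, ← Char.classInner_conj_symm (u φ₀) (w φ₀),
      show classInner (u φ₀) (w φ₀) = (r : ℂ) from hr, map_intCast]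
    ring
  -- each member has inner product `-d / 2` with `D`
  have hcw : ∀ φ ∈ fam N K1, (classInner D (w φ)).re = -(d : ℝ) / 2 := by
    intro φ hφ
    have h := (hwu φ hφ).1
    rw [huw φ hφ, Char.classInner_add_left, Char.classInner_add_right, Char.classInner_add_right,
      (hwu φ hφ).2, hd, ← Char.classInner_conj_symm D (w φ)] at h
    have := congrArg Complex.re h
    simp at this
    linarith
  have hb := (Coherence.bessel (fam N K1) w
    (fun φ hφ e => by
      have := (hwu φ hφ).2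
      rw [e, Char.classInner_zero_left] at this
      exact zero_ne_one this)
    (fun φ hφ φ' hφ' hne => by
      simp only [hw]
      rw [hI.inner _ (hI.fam_pow hφ hk) _ (hI.fam_pow hφ' hk),
        Char.classInner_irr_ne (hs.irr (hI.fam_pow hφ hk)) (hs.irr (hI.fam_pow hφ' hk))]
      intro e
      refine hne (funext fun v => ?_)
      obtain ⟨y, rfl⟩ := (powCoprime ((hk.coprime_dvd_right (card_subgroup_dvd_card N)).symm)).surjective v
      exact congrFun e y)
    D).1
  rw [hd] at hb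
  have hlow : ((fam N K1).card : ℝ) * ((d : ℝ) / 2) ^ 2 ≤ (d : ℝ) := by
    refine le_trans ?_ (hb.trans (by simp))
    rw [← nsmul_eq_mul, ← Finset.sum_const]
    refine Finset.sum_le_sum fun φ hφ => ?_
    rw [(hwu φ hφ).2, Complex.one_re, div_one]
    have := Complex.abs_re_le_norm (classInner D (w φ))
    rw [hcw φ hφ] at this
    calc ((d : ℝ) / 2) ^ 2 = |-(d : ℝ) / 2| ^ 2 := by rw [sq_abs]; ring
      _ ≤ _ := pow_le_pow_left₀ (abs_nonneg _) this 2
  have hd0 : d = 0 := by
    have hev' : d = 2 - 2 * r := by exact_mod_cast hev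
    have h3' : (3 : ℝ) ≤ (fam N K1).card := by exact_mod_cast h3
    have h34 : 3 * (d : ℝ) ^ 2 ≤ 4 * d := by nlinarith [sq_nonneg ((d : ℝ) / 2)]
    have h34' : 3 * d ^ 2 ≤ 4 * d := by exact_mod_cast h34
    have : 0 ≤ d ∧ d ≤ 1 := ⟨by nlinarith, by nlinarith⟩
    omega
  rw [hd0, Int.cast_zero, Char.classInner_self_eq_zero] at hd
  exact sub_eq_zero.1 (congrFun hd g)

end Cfsg.Agent.OddCharTwelve
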