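import Cfsg.Agent.OddCharTwelve.NStruct
import Cfsg.Agent.OddCharTwelve.NFamily

/-!
# The family on `N` for `K₁ = N_σ'`
-/

set_option autoImplicit false
set_option linter.unusedSectionVars false
set_option linter.style.haveILetI false

namespace Cfsg.Agent.OddCharTwelve

open Subgroup Cfsg
open scoped commutatorElement

universe u

variable {G : Type u} [Group G] [Finite G] {M N E A W : Subgroup G} {p : ℕ} [hp : Fact p.Prime]
  {x a : G} (S : Setting M N E A p x a)

omit hp in
theorem idx_eq_card_compl {W : Subgroup G} (hW : IsComplIn W (sigmaCore N) N) :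
    idx N = Nat.card W := by
  rw [← OddLocal.compl_relIndex hW]
  rfl

include S

theorem Setting.coprime_W (hW : IsComplIn W (sigmaCore N) N) :
    (Nat.card W).Coprime (Nat.card (sigmaCore N)) :=
  OddLocal.compl_coprime S.minSimple S.coatomN hW

theorem Setting.nside (hW : IsComplIn W (sigmaCore N) N)
    (hfix : ∀ w ∈ W, w ≠ 1 → sigmaCore N ⊓ centralizer ({w} : Set G) ≤ derK N) :
    NSide N (derK N) := by
  have hG := S.minSimple
  have hN := S.coatomN
  refine ⟨hG, hN, derK_le N, derK_normal N, le_rfl, S.derK_lt, fun w hw hwn v hv hwv => ?_⟩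
  obtain ⟨e, he, b, hb, rfl⟩ := hW.2.2.2 w hw
  have he1 : e ≠ 1 := fun h => hwn (by rw [h, one_mul]; exact hb)
  have heN : e ∈ N := hW.1 he
  have hbN : b ∈ N := OddLocal.sigmaCore_le N hb
  have hvN : v ∈ N := OddLocal.sigmaCore_le N hv
  have hnorm : ∀ n ∈ N, ∀ z, z ∈ derK N → n * z * n⁻¹ ∈ derK N :=
    fun n hn z hz => (mem_normalizer_iff.1 (derK_normal N hn) z).1 hz
  have h1 : e * v * e⁻¹ * v⁻¹ ∈ derK N := by
    have hbv : ⁅b, v⁆ ∈ derK N := commutator_mem_commutator hb hv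
    have e1 : e * v * e⁻¹ * v⁻¹ = (e * ⁅b, v⁆⁻¹ * e⁻¹) * ⁅e * b, v⁆ := by
      simp only [commutatorElement_def]; group
    rw [e1]
    exact mul_mem (hnorm e heN _ (inv_mem hbv)) hwv
  have h2 : v⁻¹ * (e * v * e⁻¹) ∈ derK N := by
    have := hnorm v⁻¹ (inv_mem hvN) _ h1
    simpa [mul_assoc] using this
  have hpow : ∀ i : ℕ, v⁻¹ * (e ^ i * v * (e ^ i)⁻¹) ∈ derK N := by
    intro i
    induction i with
    | zero => simp
    | succ i ih =>
      have e2 : v⁻¹ * (e ^ (i + 1) * v * (e ^ (i + 1))⁻¹) =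
          (v⁻¹ * (e * v * e⁻¹)) * (e * (v⁻¹ * (e ^ i * v * (e ^ i)⁻¹)) * e⁻¹) := by
        rw [pow_succ']; group
      rw [e2]
      exact mul_mem h2 (hnorm e heN _ ih)
  obtain ⟨n, hn, hc⟩ := Coprime.exists_fixed_mem_leftCoset (A := zpowers e) (N := derK N)
    ((zpowers_le.2 heN).trans (derK_normal N))
    ((S.coprime_W hW).coprime_dvd_left (card_dvd_of_le (zpowers_le.2 he))
      |>.coprime_dvd_right (card_dvd_of_le (derK_le N)))
    (Or.inl inferInstance) (k := v) fun z hz => by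
      obtain ⟨i, rfl⟩ := (isOfFinOrder_of_finite e).mem_powers_iff_mem_zpowers.2 hz
      exact hpow i
  rw [OddLocal.centralizer_zpowers] at hc
  have h3 : v * n ∈ derK N := hfix e he he1 ⟨(sigmaCore N).mul_mem hv (derK_le N hn), hc⟩
  simpa using (derK N).mul_mem h3 ((derK N).inv_mem hn)

theorem Setting.idx_three_le (hW : IsComplIn W (sigmaCore N) N) : 3 ≤ idx N ∧ Odd (idx N) := by
  have hG := S.minSimple
  have hN := S.coatomN
  have hodd : Odd (idx N) := by
    rw [idx_eq_card_compl hW]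
    exact Odd.of_dvd_nat hG.1 (card_subgroup_dvd_card W)
  have h1 : idx N ≠ 1 := by
    rw [idx_eq_card_compl hW]
    intro h
    have hle : N ≤ sigmaCore N := fun n hn => by
      obtain ⟨u, hu, b, hb, rfl⟩ := hW.2.2.2 n hn
      rw [Subgroup.card_eq_one.1 h] at hu
      rw [mem_bot.1 hu, one_mul]
      exact hb
    exact (OddLocal.derived_lt hG hN).not_ge (hle.trans (OddLocal.sigmaCore_le_derived hG hN))
  obtain ⟨k, hk⟩ := hodd
  exact ⟨by omega, k, hk⟩

end Cfsg.Agent.OddCharTwelve
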