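import Cfsg.Agent.OddCharTwelve.Setup
import Cfsg.Agent.OddLocal.KappaTwo
import Cfsg.Agent.OddLocal.KappaDerived
import Cfsg.Agent.OddLocal.NonTIKappa
import Cfsg.Agent.OddLocal.FittingCore
import Cfsg.Agent.OddLocal.SigmaCoreAction
import Cfsg.Agent.OddLocal.TauTwoNonabelian

/-!
# The second maximal subgroup of the configuration
-/

set_option autoImplicit false
set_option linter.unusedSectionVars false
set_option linter.style.haveILetI false

namespace Cfsg.Agent.OddCharTwelve

open Subgroup Cfsg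
open scoped commutatorElement

universe u

variable {G : Type u} [Group G] [Finite G] {M N E A : Subgroup G} {p : ℕ} [hp : Fact p.Prime]
  {x a : G} (S : Setting M N E A p x a)

/-- The derived subgroup of `N_σ`. -/
abbrev derK (N : Subgroup G) : Subgroup G := ⁅sigmaCore N, sigmaCore N⁆

omit hp in
theorem derK_le (N : Subgroup G) : derK N ≤ sigmaCore N := commutator_le_self _

omit hp in
theorem derK_normal (N : Subgroup G) : N ≤ normalizer (derK N : Set G) :=
  OddLocal.le_normalizer_sigmaCore N |>.trans fun n hn => by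
    have h : (derK N).map (MulAut.conj n).toMonoidHom = derK N := by
      rw [derK, map_commutator, OddLocal.map_conj_eq_self_of_mem hn]
    exact OddLocal.mem_normalizer_of_map_conj h

include S

theorem Setting.p_odd : p ≠ 2 := fun e => S.minSimple.1.not_two_dvd_nat (by
  rw [← e, ← orderOf_eq_prime S.pair.pow S.pair.ne]
  exact _root_.orderOf_dvd_natCard x)

/-- Every element of prime order of `E` fixes a point of `A#`. -/
theorem Setting.exists_fixed_A {s : G} (hs : s ∈ E) (hsp : (orderOf s).Prime) :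
    ∃ b ∈ A, b ≠ 1 ∧ Commute s b := by
  have hG := S.minSimple
  have hM := S.coatomM
  have hE := S.pair.compl.compl
  by_contra hno
  push Not at hno
  set r := orderOf s with hr
  haveI := Fact.mk hsp
  have hsr : s ^ r = 1 := pow_orderOf_eq_one s
  have hs1 : s ≠ 1 := fun e => hsp.ne_one (by rw [hr, e, orderOf_one])
  have hrM : r ∣ Nat.card M := orderOf_dvd_natCard _ (hE.1 hs)
  have hrσ : r ∉ sigma M := OddLocal.compl_prime_not_sigma hG hM hE hsp
    (orderOf_dvd_natCard _ hs)
  by_cases hrp : r = p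
  · have hsA : s ∈ A := S.tauPair.mem_of_mem_compl hG hM hE S.leE hs (by rw [← hrp]; exact hsr)
    exact hno x S.mem_A S.pair.ne
      (congrArg Subtype.val (S.tauPair.elem.1.is_comm.comm ⟨s, hsA⟩ ⟨x, S.mem_A⟩))
  rcases OddLocal.tau_of_not_sigma hG hM hrσ hrM with h13 | h2
  · have h0 : sigmaCore M ⊓ centralizer ({s} : Set G) = ⊥ := by
      refine (free_outside_tau2 hG hM S.kappaM hE) s hs hs1 fun q hq hqd => ?_
      rw [(Nat.prime_dvd_prime_iff_eq hq hsp).1 hqd]
      exact h13
    have hfree : A ⊓ centralizer ({s} : Set G) = ⊥ := eq_bot_iff.2 fun b ⟨hb, hb'⟩ => by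
      by_contra h
      exact hno b hb (fun e => h (mem_bot.2 e)) (mem_centralizer_singleton_iff.1 hb').symm
    have hA := OddLocal.fpf_centralizes hG hM hE hs hsp h0 S.leE (S.normA hs) hfree
    have hbot := S.tauPair.fixed_eq_bot hG hM
    rw [inf_eq_left.2 (le_centralizer_iff.1 hA)] at hbot
    exact OddLocal.sigmaCore_ne_bot hG hM hbot
  · obtain ⟨B, hBE, hB⟩ := OddLocal.exists_plane_in_compl hG hM hE h2
    have hsB : s ∈ B := hB.mem_of_mem_compl hG hM hE hBE hs hsr
    have := OddLocal.le_centralizer_of_pair hG hM (p := p) (q := r) hrp hE S.tauPair hB S.leE hBE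
      hsB
    exact hno x S.mem_A S.pair.ne ((mem_centralizer_iff.1 this x S.mem_A).symm)

theorem Setting.not_P2 {K U : Subgroup G} (h : IsSigmaDecomposition N K U) : K = ⊥ ∨ U = ⊥ := by
  by_contra hh
  push Not at hh
  exact S.not_cent (OddLocal.centralizer_le_of_P2 S.minSimple S.coatomN h hh.1 hh.2
    (S.A_le S.mem_A) S.pair.ne)

theorem Setting.tau2N_empty (hκ : Cfsg.kappa N = ∅) : Cfsg.tau2 N = ∅ := by
  have hG := S.minSimple
  have hN := S.coatomN
  rw [Set.eq_empty_iff_forall_notMem]
  intro r hr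
  haveI := Fact.mk hr.1
  obtain ⟨E₁, hE₁⟩ := OddLocal.exists_compl_sigmaCore' hG hN
  obtain ⟨B, -, hB⟩ := OddLocal.exists_plane_in_compl hG hN hE₁ hr
  have h1 : r < p := OddLocal.lt_of_fpf_beta hG hN hB hr.2.1 S.sigmaN S.not_betaN
  exact absurd (S.small N r hN hκ hr) (not_le.2 h1)

theorem Setting.isZGroup_compl {W : Subgroup G} (hW : IsComplIn W (sigmaCore N) N)
    (h2 : ∀ r, r ∈ Cfsg.tau2 N → r ∣ Nat.card W → False) : IsZGroup W := by
  refine ⟨fun r hr R => ?_⟩
  haveI := Fact.mk hr
  by_cases hd : r ∣ Nat.card W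
  · rcases OddLocal.tau_of_not_sigma S.minSimple S.coatomN
      (OddLocal.compl_prime_not_sigma S.minSimple S.coatomN hW hr hd)
      (hd.trans (card_dvd_of_le hW.1)) with h13 | h
    · exact OddLocal.compl_isCyclic_sylow S.minSimple S.coatomN hW
        (h13.elim (·.2.2.2.2) (·.2.2.2)) R
    · exact (h2 r h hd).elim
  · have hb : (R : Subgroup W) = ⊥ := by
      obtain ⟨j, hj⟩ := IsPGroup.iff_card.1 R.2
      rcases j with _ | j
      · exact Subgroup.card_eq_one.1 (by rw [hj, pow_zero])
      · exact absurd (((dvd_pow_self r j.succ_ne_zero).trans hj.symm.dvd).trans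
          (card_subgroup_dvd_card _)) hd
    rw [hb]
    infer_instance

/-- A complement of `N_σ` fixing only points of the derived subgroup. -/
theorem Setting.exists_W : ∃ W : Subgroup G, IsComplIn W (sigmaCore N) N ∧ IsZGroup W ∧
    (∀ w ∈ W, w ≠ 1 → sigmaCore N ⊓ centralizer ({w} : Set G) ≤ derK N) ∧
    ((Group.IsNilpotent (sigmaCore N) ∧
      ∀ w ∈ W, w ≠ 1 → sigmaCore N ⊓ centralizer ({w} : Set G) = ⊥) ∨
      (W ≠ ⊥ ∧ IsPiHallOf (Cfsg.kappa N) W N ∧ IsSigmaDecomposition N W ⊥ ∧
        (Group.IsNilpotent (sigmaCore N) ∨ OddLocal.CoreData N W))) := by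
  have hG := S.minSimple
  have hN := S.coatomN
  obtain ⟨K, U, h⟩ := OddLocal.exists_decomposition hG hN
  rcases S.not_P2 h with hK | hU
  · -- `κ(N) = ∅`
    have hκ : Cfsg.kappa N = ∅ := Set.eq_empty_iff_forall_notMem.2 fun s hs =>
      h.hall.2.2 s hs.1 hs (by rw [hK, relIndex_bot_left]; exact hs.2.1)
    have hτ := S.tau2N_empty hκ
    obtain ⟨hW, -⟩ := OddLocal.sigmaDecomposition_compl hG hN h
    rw [hK, sup_bot_eq] at hW
    have hfree : ∀ w ∈ U, w ≠ 1 → sigmaCore N ⊓ centralizer ({w} : Set G) = ⊥ := by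
      intro w hw hw1
      refine free_outside_tau2 hG hN hκ hW w hw hw1 fun q hq hqd => ?_
      haveI := Fact.mk hq
      rcases OddLocal.tau_of_not_sigma hG hN
        (OddLocal.compl_prime_not_sigma hG hN hW hq (hqd.trans (orderOf_dvd_natCard _ hw)))
        (hqd.trans (orderOf_dvd_natCard _ (hW.1 hw))) with h13 | h2
      · exact h13
      · rw [hτ] at h2; exact h2.elim
    refine ⟨U, hW, S.isZGroup_compl hW (fun r h _ => by rw [hτ] at h; exact h), fun w hw hw1 => by rw [hfree w hw hw1]; exact bot_le, Or.inl ⟨?_, hfree⟩⟩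
    by_contra hnn
    exact (OddLocal.coreData_of_not_nilpotent hG hN h hnn).2.ne_bot hK
  · by_cases hK : K = ⊥
    · exfalso
      obtain ⟨hW, -⟩ := OddLocal.sigmaDecomposition_compl hG hN h
      rw [hK, hU, sup_bot_eq] at hW
      have hle : sigmaCore N = N := le_antisymm (OddLocal.sigmaCore_le N) fun n hn => by
        obtain ⟨u, hu, b, hb, rfl⟩ := hW.2.2.2 n hn
        rw [mem_bot.1 hu, one_mul]
        exact hb
      exact (OddLocal.derived_lt hG hN).not_ge (hle.symm.le.trans
        (OddLocal.sigmaCore_le_derived hG hN))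
    subst hU
    obtain ⟨hW, -⟩ := OddLocal.sigmaDecomposition_compl hG hN h
    rw [bot_sup_eq] at hW
    have hder : OddLocal.kStar N K ≤ derK N := by
      have h1 := OddLocal.kStar_le_derived hG hN h hK
      rw [OddLocal.derived_eq hG hN h hK, bot_sup_eq] at h1
      exact h1
    refine ⟨K, hW, (by haveI := h.cyclic; infer_instance), fun w hw hw1 => (OddLocal.fixed_le_kStar hG hN h.hall hK hw hw1).trans hder,
      Or.inr ⟨hK, h.hall, h, ?_⟩⟩
    by_cases hn : Group.IsNilpotent (sigmaCore N)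
    · exact Or.inl hn
    · exact Or.inr (OddLocal.coreData_of_not_nilpotent hG hN h hn).2

/-- Centralisers of elements of the derived subgroup stay inside `N`. -/
theorem Setting.cent_derK {u : G} (hu : u ∈ derK N) (hu1 : u ≠ 1) :
    centralizer ({u} : Set G) ≤ N := by
  have hG := S.minSimple
  have hN := S.coatomN
  obtain ⟨q, hq, hqd⟩ := Nat.exists_prime_and_dvd (mt orderOf_eq_one_iff.mp hu1)
  haveI := Fact.mk hq
  set v := u ^ (orderOf u / q) with hv
  have hvo : orderOf v = q := orderOf_pow_orderOf_div (orderOf_pos u).ne' hqd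
  have hvd : v ∈ derK N := pow_mem hu _
  obtain ⟨P⟩ : Nonempty (Sylow q ↥(sigmaCore N)) := inferInstance
  have h := (S1423.result hG N hN q (OddLocal.prime_mem_sigma_of_mem hG hN (derK_le N hu) hq hqd)
    (zpowers v) (zpowers_le.2 (OddLocal.sigmaCore_le N (derK_le N hvd)))
    (by rw [Nat.card_zpowers, hvo]) P (Or.inr (zpowers_le.2 hvd))).1.1
  rw [OddLocal.centralizer_zpowers] at h
  exact le_trans (fun c hc => mem_centralizer_singleton_iff.2
    ((show Commute c u from mem_centralizer_singleton_iff.1 hc).pow_right _).eq) h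

theorem Setting.x_not_derK : x ∉ derK N := fun h => S.not_cent (S.cent_derK h S.pair.ne)

theorem Setting.derK_lt : derK N < sigmaCore N :=
  lt_of_le_of_ne (derK_le N) fun e => S.x_not_derK (by rw [e]; exact S.A_le S.mem_A)

end Cfsg.Agent.OddCharTwelve
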