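import Cfsg.Agent.OddCharTwelve.Parts
import Cfsg.Agent.S1418

/-!
# Sylow subgroups of `N_σ`, and the two cases
-/

set_option autoImplicit false
set_option linter.unusedSectionVars false
set_option linter.style.haveILetI false

namespace Cfsg.Agent.OddCharTwelve

open Subgroup Cfsg
open scoped commutatorElement

universe u

variable {G : Type u} [Group G] [Finite G] {M N E A W P : Subgroup G} {p : ℕ} [hp : Fact p.Prime]
  {x a : G} (S : Setting M N E A p x a)

include S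

theorem Setting.solvable_core : Group.IsSolvable (sigmaCore N) :=
  Core.isSolvable_mono (OddLocal.isSolvable_coatom S.minSimple S.coatomN)
    (OddLocal.sigmaCore_le N)

theorem Setting.syl_conj {P' : Subgroup G} (hP : IsSyl N P p) (hP' : IsSyl N P' p) :
    ∃ k ∈ sigmaCore N, P.map (MulAut.conj k).toMonoidHom = P' :=
  Coprime.exists_conj_isPiHallOf S.solvable_core hP hP'

theorem Setting.exists_inv_syl (hW : IsComplIn W (sigmaCore N) N) :
    ∃ P, IsSyl N P p ∧ W ≤ normalizer (P : Set G) :=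
  Coprime.exists_invariant_hall (hW.1.trans (OddLocal.le_normalizer_sigmaCore N))
    (OddLocal.compl_coprime S.minSimple S.coatomN hW) S.solvable_core {p}

theorem Setting.fpf_syl {O : Subgroup G} (hO : IsPCompl N O p) (hP : IsSyl N P p)
    (hW : IsComplIn W (sigmaCore N) N)
    (hfix : ∀ w ∈ W, w ≠ 1 → sigmaCore N ⊓ centralizer ({w} : Set G) ≤ derK N)
    {w v : G} (hw : w ∈ W) (hw1 : w ≠ 1) (hv : v ∈ P) (h : ⁅w, v⁆ ∈ derK N) : v ∈ ⁅P, P⁆ := by
  rw [← hO.derK_inf_syl hP]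
  refine ⟨(S.nside hW hfix).fpf w (hW.1 hw) (fun hk => hw1 ?_) v (hP.1 hv) h, hv⟩
  rw [← mem_bot, ← hW.2.2.1]
  exact ⟨hw, hk⟩

/-- Elements of `N` normalising `⟨x⟩` lie in `E`. -/
theorem Setting.mem_E_of_normalizes {n : G} (hn : n ∈ N) (h : n * x * n⁻¹ ∈ zpowers x) :
    n ∈ E := by
  have hG := S.minSimple
  have hM := S.coatomM
  have hxM : x ∈ M := S.pair.compl.compl.1 S.pair.mem
  have hxo : orderOf x = p := orderOf_eq_prime S.pair.pow S.pair.ne
  obtain ⟨y, hy, hy1, hxy⟩ := S.pair.fixed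
  obtain ⟨hC, huniq⟩ := OddLocal.unique_of_tau2_elt hG hM hxM S.pair.ne
    (fun r hr hd => by
      rw [hxo] at hd
      rw [(Nat.prime_dvd_prime_iff_eq hr hp.out).mp hd]
      exact S.tau2M) ⟨hxM, y, hy, hy1, hxy⟩
  rw [S.eqE]
  refine ⟨hn, OddLocal.mem_of_map_conj_eq hG hM (huniq _ (OddLocal.isCoatom_map_conj hM n) ?_)⟩
  intro c hc
  rw [OddLocal.mem_map_conj_iff]
  refine hC (mem_centralizer_singleton_iff.2 ?_)
  obtain ⟨i, hi⟩ := mem_zpowers_iff.1 h
  have hcx : Commute c (n * x * n⁻¹) := hi ▸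
    (show Commute c x from mem_centralizer_singleton_iff.1 hc).zpow_right i
  calc n⁻¹ * c * n * x = n⁻¹ * (c * (n * x * n⁻¹)) * n := by group
    _ = n⁻¹ * (n * x * n⁻¹ * c) * n := by rw [hcx.eq]
    _ = x * (n⁻¹ * c * n) := by group

theorem Setting.exists_outside (hE : ¬ E ≤ sigmaCore N) :
    ∃ s ∈ E, (orderOf s).Prime ∧ s ∉ sigmaCore N := by
  obtain ⟨v, hv, hvn⟩ := SetLike.not_le_iff_exists.1 hE
  have hvN : v ∈ N := (S.eqE ▸ hv : v ∈ N ⊓ M).1
  set K := sigmaCore N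
  obtain ⟨W, hW, -⟩ := S.exists_W
  have hcard : Nat.card N = Nat.card W * Nat.card K := by
    have h := Coprime.card_mul_relIndex_of_le (OddLocal.sigmaCore_le N)
    rw [OddLocal.compl_relIndex hW] at h
    rw [← h, mul_comm]
  haveI : (K.subgroupOf N).Normal := core_normal N
  set f := QuotientGroup.mk' (K.subgroupOf N)
  have hkey : ∀ {u : N}, (u : G) ∈ K → f u = 1 := fun hu => (QuotientGroup.eq_one_iff _).2 hu
  set c := v ^ Nat.card K with hc
  have hcW : c ^ Nat.card W = 1 := by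
    rw [hc, ← pow_mul, mul_comm, ← hcard]
    exact congrArg Subtype.val (pow_card_eq_one' (x := (⟨v, hvN⟩ : N)))
  have hc1 : c ≠ 1 := fun e => hvn <| by
    have h1 : f ⟨v, hvN⟩ ^ Nat.card K = 1 := by
      rw [← map_pow]; exact hkey (by simp [hc ▸ e])
    have h2 : orderOf (f ⟨v, hvN⟩) ∣ Nat.card W := by
      have : (K.subgroupOf N).index = Nat.card W := OddLocal.compl_relIndex hW
      exact this ▸ orderOf_dvd_natCard _
    exact mem_subgroupOf.1 <| (QuotientGroup.eq_one_iff (⟨v, hvN⟩ : N)).1 (orderOf_eq_one_iff.1 (Nat.eq_one_of_dvd_coprimes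
      (OddLocal.compl_coprime S.minSimple S.coatomN hW) h2 (orderOf_dvd_of_pow_eq_one h1)))
  obtain ⟨r, hr, hrd⟩ := Nat.exists_prime_and_dvd (mt orderOf_eq_one_iff.mp hc1)
  have hso : orderOf (c ^ (orderOf c / r)) = r := orderOf_pow_orderOf_div (orderOf_pos c).ne' hrd
  refine ⟨_, pow_mem (pow_mem hv _) _, by rw [hso]; exact hr, fun hk => hr.ne_one ?_⟩
  exact Nat.eq_one_of_dvd_coprimes (OddLocal.compl_coprime S.minSimple S.coatomN hW)
    (hrd.trans (orderOf_dvd_of_pow_eq_one hcW))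
    (hso.symm.dvd.trans (Subgroup.orderOf_dvd_natCard _ hk))

/-- A Sylow subgroup of `N_σ` is one of `G`. -/
theorem Setting.le_syl (hP : IsSyl N P p) {Y : Subgroup G} (hY : IsPGroup p Y) :
    ∃ g : G, Y ≤ P.map (MulAut.conj g).toMonoidHom := by
  obtain ⟨S₀, hS₀⟩ := OddLocal.exists_sylow_of_sigma (p := p) S.sigmaN
  have hS₀K := OddLocal.le_sigmaCore_of_isPGroup S.minSimple S.coatomN hS₀ S₀.2 S.sigmaN
  obtain ⟨P₀, hle, hP₀⟩ := exists_syl N (S₀ : Subgroup G) S₀.2 hS₀K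
  obtain ⟨k, -, rfl⟩ := S.syl_conj hP hP₀
  obtain ⟨S₁, hS₁⟩ := hY.exists_le_sylow
  obtain ⟨g, hg⟩ := MulAction.exists_smul_eq G S₀ S₁
  refine ⟨g * k, hS₁.trans ?_⟩
  rw [← hg, Sylow.coe_subgroup_smul, Subgroup.pointwise_smul_def, ← OddLocal.map_conj_map_conj]
  exact map_mono hle

theorem Setting.sylow_comm_iff (hP : IsSyl N P p) :
    (∃ T : Sylow p G, IsMulCommutative (T : Subgroup G)) ↔ ⁅P, P⁆ = ⊥ := by
  rw [commutator_eq_bot_iff_le_centralizer, le_centralizer_iff_isMulCommutative]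
  constructor
  · rintro ⟨T, hT⟩
    obtain ⟨T', hT'⟩ := hP.isPGroup.exists_le_sylow
    obtain ⟨g, hg⟩ := MulAction.exists_smul_eq G T T'
    refine OddLocal.isMulCommutative_of_le hT' ?_
    rw [← hg, Sylow.coe_subgroup_smul, Subgroup.pointwise_smul_def]
    exact @Subgroup.map_isMulCommutative _ _ _ _ (T : Subgroup G) _ hT
  · intro hc
    obtain ⟨T⟩ : Nonempty (Sylow p G) := inferInstance
    obtain ⟨g, hg⟩ := S.le_syl hP T.2
    exact ⟨T, OddLocal.isMulCommutative_of_le hg (@Subgroup.map_isMulCommutative _ _ _ _ P _ hc)⟩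

/-- The planes of an abelian Sylow subgroup. -/
theorem Setting.exists_plane_of_comm (hP : IsSyl N P p) (hc : ⁅P, P⁆ = ⊥) :
    ∃ k ∈ sigmaCore N, A.map (MulAut.conj k).toMonoidHom ≤ P ∧
      ∀ v ∈ P, v ^ p = 1 → v ∈ A.map (MulAut.conj k).toMonoidHom := by
  obtain ⟨P₀, hAP, hP₀⟩ := exists_syl N A S.A_pgroup S.A_le
  obtain ⟨k, hk, rfl⟩ := S.syl_conj hP₀ hP
  refine ⟨k, hk, map_mono hAP, ?_⟩
  rintro _ ⟨v, hv, rfl⟩ hvp
  refine mem_map_of_mem _ ?_
  have hc₀ : ⁅P₀, P₀⁆ = ⊥ := by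
    rwa [← map_commutator, map_eq_bot_iff_of_injective _ (MulAut.conj k).injective] at hc
  have hE : IsComplIn E (sigmaCore M) M := S.pair.compl.compl
  have h18 := S1418.result S.minSimple M S.coatomM E hE p S.tau2M A
    ⟨S.leE, S.tauPair.elem, S.tauPair.card⟩
  have hvA : v ∈ centralizer (A : Set G) :=
    (commutator_eq_bot_iff_le_centralizer.1 hc₀).trans (centralizer_le hAP) hv
  have hvE : v ∈ E := h18.2.1.2.1.le (h18.2.1.1 hvA)
  replace hvp : v ^ p = 1 := (MulAut.conj k).injective (by rw [map_pow, map_one]; exact hvp)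
  exact S.tauPair.mem_of_mem_compl S.minSimple S.coatomM hE S.leE hvE hvp

/-- In the abelian case `E` lies in `N_σ` and centralises `x`. -/
theorem Setting.caseB (hP : IsSyl N P p) (hc : ⁅P, P⁆ = ⊥) {O : Subgroup G}
    (hO : IsPCompl N O p) (hW : IsComplIn W (sigmaCore N) N)
    (hfix : ∀ w ∈ W, w ≠ 1 → sigmaCore N ⊓ centralizer ({w} : Set G) ≤ derK N) :
    E ≤ sigmaCore N ∧ E ≤ centralizer ({x} : Set G) := by
  have hAK : ∀ b ∈ A, b ∈ derK N → b = 1 := by
    intro b hb hbd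
    obtain ⟨P₀, hAP, hP₀⟩ := exists_syl N A S.A_pgroup S.A_le
    have hc₀ : ⁅P₀, P₀⁆ = ⊥ := (S.sylow_comm_iff hP₀).1 ((S.sylow_comm_iff hP).2 hc)
    have : b ∈ derK N ⊓ P₀ := ⟨hbd, hAP hb⟩
    rwa [hO.derK_inf_syl hP₀, hc₀, mem_bot] at this
  have hEN : E ≤ N := fun v hv => (S.eqE ▸ hv : v ∈ N ⊓ M).1
  have hle : E ≤ sigmaCore N := by
    by_contra hE
    obtain ⟨s, hs, hsp, hsn⟩ := S.exists_outside hE
    obtain ⟨b, hb, hb1, hsb⟩ := S.exists_fixed_A hs hsp
    refine hb1 (hAK b hb ((S.nside hW hfix).fpf s (hEN hs) hsn b (S.A_le hb) ?_))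
    rw [commutatorElement_eq_one_iff_commute.2 hsb]
    exact one_mem _
  refine ⟨hle, fun v hv => mem_centralizer_singleton_iff.2 ?_⟩
  have h : ⁅v, x⁆ = 1 := hAK _
    (mul_mem ((mem_normalizer_iff.1 (S.normA hv) x).1 S.mem_A) (inv_mem S.mem_A))
    (commutator_mem_commutator (hle hv) (S.A_le S.mem_A))
  exact commutatorElement_eq_one_iff_commute.1 h

/-- In the nonabelian case `E` normalises `⟨x⟩`. -/
theorem Setting.caseA (hP : IsSyl N P p) (hc : ⁅P, P⁆ ≠ ⊥) :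
    zpowers x = A ⊓ centralizer (sigmaCore M : Set G) ∧ E ≤ normalizer (zpowers x : Set G) := by
  have hG := S.minSimple
  have hM := S.coatomM
  have hab : ∀ T : Sylow p G, ¬ IsMulCommutative (T : Subgroup G) := fun T hT =>
    hc ((S.sylow_comm_iff hP).1 ⟨T, hT⟩)
  obtain ⟨-, hother⟩ := S.tauPair.nonabelian_structure hG hM hab
  have hx : zpowers x = A ⊓ centralizer (sigmaCore M : Set G) := by
    by_contra hne
    obtain ⟨y, hy, hy1, hxy⟩ := S.pair.fixed
    have h := (hother x S.mem_A S.pair.ne hne).1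
    have : y ∈ sigmaCore M ⊓ centralizer (zpowers x : Set G) :=
      ⟨hy, OddLocal.mem_centralizer_zpowers hxy⟩
    rw [h, mem_bot] at this
    exact hy1 this
  refine ⟨hx, ?_⟩
  rw [hx]
  exact Coprime.le_normalizer_inf S.normA (Coprime.le_normalizer_centralizer
    (fun v hv => OddLocal.le_normalizer_sigmaCore M (S.eqE ▸ hv : v ∈ N ⊓ M).2))

/-- Elements of `E ∩ N_σ` centralise `x`. -/
theorem Setting.commute_of_caseA (hP : IsSyl N P p) (hc : ⁅P, P⁆ ≠ ⊥) :
    E ⊓ sigmaCore N ≤ centralizer ({x} : Set G) := by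
  rintro v ⟨hv, hvK⟩
  rw [mem_centralizer_singleton_iff]
  have h1 : ⁅v, x⁆ ∈ derK N := commutator_mem_commutator hvK (S.A_le S.mem_A)
  have h2 : ⁅v, x⁆ ∈ zpowers x :=
    mul_mem ((mem_normalizer_iff.1 ((S.caseA hP hc).2 hv) x).1 (mem_zpowers x))
      (inv_mem (mem_zpowers x))
  by_contra hne
  have hne' : ⁅v, x⁆ ≠ 1 := fun e => hne (commutatorElement_eq_one_iff_commute.1 e)
  have hz : zpowers ⁅v, x⁆ = zpowers x := eq_of_le_of_card_ge (zpowers_le.2 h2) (by
    rw [Nat.card_zpowers, Nat.card_zpowers, orderOf_eq_prime S.pair.pow S.pair.ne]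
    have hd := Subgroup.orderOf_dvd_natCard _ h2
    rw [Nat.card_zpowers, orderOf_eq_prime S.pair.pow S.pair.ne] at hd
    rcases (Nat.dvd_prime hp.out).1 hd with h | h
    · exact absurd (orderOf_eq_one_iff.1 h) hne'
    · exact h.ge)
  exact S.x_not_derK (zpowers_le.2 h1 (hz ▸ mem_zpowers x))

theorem Setting.syl_not_le_M (hP : IsSyl N P p) (hc : ⁅P, P⁆ ≠ ⊥) (g : G) :
    ¬ P.map (MulAut.conj g).toMonoidHom ≤ M := by
  intro h
  have hcm := OddLocal.comm_of_not_sigma S.minSimple S.coatomM S.tauPair.not_sigma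
    (hP.isPGroup.map _) h
  refine hc ?_
  rw [← map_eq_bot_iff_of_injective _ (f := (MulAut.conj g).toMonoidHom) (MulAut.conj g).injective,
    map_commutator,
    commutator_eq_bot_iff_le_centralizer, le_centralizer_iff_isMulCommutative]
  exact hcm

end Cfsg.Agent.OddCharTwelve
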