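import Cfsg.Agent.OddCharTwelve.Excess
import Cfsg.Agent.OddCharTwelve.Sylows

/-!
# The reduced inequality and lower bounds for its terms
-/

set_option autoImplicit false
set_option linter.unusedSectionVars false
set_option linter.style.haveILetI false

namespace Cfsg.Agent.OddCharTwelve

open Subgroup Cfsg

universe u

/-- The distance of an integer to the multiples of `p`. -/
def pdist (p : ℕ) (z : ℤ) : ℕ := ((z : ZMod p).valMinAbs).natAbs

section

variable {p : ℕ} [hp : Fact p.Prime]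

theorem pdist_le {z w : ℤ} (h : (p : ℤ) ∣ w - z) : pdist p z ≤ w.natAbs := by
  have e : (z : ZMod p) = w := (ZMod.intCast_eq_intCast_iff_dvd_sub z w p).2 h
  rw [pdist, e]
  rcases le_or_gt w.natAbs (p / 2) with h' | h'
  · obtain ⟨n, rfl | rfl⟩ := Int.eq_nat_or_neg w
    · rw [Int.natAbs_natCast] at h' ⊢
      push_cast
      rw [ZMod.valMinAbs_natCast_of_le_half h']
      simp
    · rw [Int.natAbs_neg, Int.natAbs_natCast] at h' ⊢
      push_cast
      rw [ZMod.natAbs_valMinAbs_neg, ZMod.valMinAbs_natCast_of_le_half h']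
      simp
  · exact (ZMod.natAbs_valMinAbs_le _).trans h'.le

theorem pdist_congr {z w : ℤ} (h : (p : ℤ) ∣ w - z) : pdist p z = pdist p w := by
  rw [pdist, pdist, (ZMod.intCast_eq_intCast_iff_dvd_sub z w p).2 h]

theorem pdist_sq_le {z w : ℤ} (h : (p : ℤ) ∣ w - z) : (pdist p z : ℝ) ^ 2 ≤ (w : ℝ) ^ 2 := by
  have h1 : ((pdist p z : ℤ)) ≤ |w| := by
    rw [Int.abs_eq_natAbs]
    exact_mod_cast pdist_le h
  have h2 : (pdist p z : ℝ) ≤ |(w : ℝ)| := by exact_mod_cast h1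
  calc (pdist p z : ℝ) ^ 2 ≤ |(w : ℝ)| ^ 2 := pow_le_pow_left₀ (Nat.cast_nonneg _) h2 2
    _ = _ := sq_abs _

theorem pdist_nat {n : ℕ} (h : 2 * n ≤ p) : pdist p (n : ℤ) = n := by
  rw [pdist]
  push_cast
  rw [ZMod.valMinAbs_natCast_of_le_half (by omega)]
  simp

/-- A number near half of `p`. -/
theorem pred_le_pdist {n : ℕ} (h : 2 * n ≤ p + 1) : n - 1 ≤ pdist p (n : ℤ) := by
  rcases Nat.lt_or_ge p (2 * n) with h1 | h1
  · rw [pdist]
    push_cast
    rw [ZMod.valMinAbs_natCast_of_half_lt (by omega) (by have := hp.out.two_le; omega)]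
    omega
  · rw [pdist_nat h1]
    omega

theorem le_pdist_add {n : ℕ} (h : 2 * n ≤ p) (z : ℤ) : n ≤ pdist p z + pdist p (z - n) := by
  have h1 := ZMod.natAbs_valMinAbs_add_le (n := p) (z : ZMod p) (-((z - n : ℤ) : ZMod p))
  rw [show (z : ZMod p) + -((z - n : ℤ) : ZMod p) = ((n : ℤ) : ZMod p) by push_cast; ring] at h1
  have h2 := pdist_nat (p := p) h
  rw [pdist] at h2
  rw [h2] at h1
  refine h1.trans ((Int.natAbs_add_le _ _).trans ?_)
  rw [ZMod.natAbs_valMinAbs_neg]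
  exact le_rfl

end

/-- `a + b ≥ n` and `M ≥ 2 n - 1` give `a ² + M b ² ≥ n ²`. -/
theorem sq_add_le {a b n : ℕ} {R : ℝ} (h : n ≤ a + b) (hR : 2 * (n : ℝ) - 1 ≤ R) (hR1 : 1 ≤ R) :
    (n : ℝ) ^ 2 ≤ (a : ℝ) ^ 2 + R * (b : ℝ) ^ 2 := by
  rcases Nat.eq_zero_or_pos b with rfl | hb
  · have : (n : ℝ) ≤ a := by exact_mod_cast h
    simp only [Nat.cast_zero]
    nlinarith [Nat.cast_nonneg (α := ℝ) n]
  rcases le_or_gt n b with hnb | hnb
  · have : (n : ℝ) ≤ b := by exact_mod_cast hnb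
    nlinarith [Nat.cast_nonneg (α := ℝ) n, sq_nonneg (a : ℝ)]
  have h1 : (n : ℝ) - b ≤ a := by
    have : (n : ℝ) ≤ a + b := by exact_mod_cast h
    linarith
  have h2 : (0 : ℝ) ≤ (n : ℝ) - b := by
    have : (b : ℝ) ≤ n := by exact_mod_cast hnb.le
    linarith
  have h3 : (1 : ℝ) ≤ b := by exact_mod_cast hb
  have h4 : ((n : ℝ) - b) ^ 2 ≤ (a : ℝ) ^ 2 := pow_le_pow_left₀ h2 h1 2
  have h5 : (R + 1) * 1 ≤ (R + 1) * (b : ℝ) := mul_le_mul_of_nonneg_left h3 (by linarith)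
  have h6 : 0 ≤ (b : ℝ) * ((R + 1) * b - 2 * n) := mul_nonneg (by linarith) (by linarith)
  nlinarith

variable {G : Type u} [Group G] [Fintype G] {M N E A : Subgroup G} {p : ℕ} [hp : Fact p.Prime]
  {x a : G} [Fintype N] [Fintype (core N)]
  {Ψ : (↥N → ℂ) → G → ℂ} {φ₀ : ↥N → ℂ} {F : core N → ℤ}

/-- An element of `N_σ` as one of `core N`. -/
def toCore (N : Subgroup G) : ↥(sigmaCore N) →* core N :=
  (Subgroup.subgroupOfEquivOfLe (OddLocal.sigmaCore_le N)).symm.toMonoidHom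

theorem coe_toCore {N : Subgroup G} (v : sigmaCore N) : ((toCore N v : N) : G) = (v : G) := rfl

open scoped _root_.Classical in
/-- The sum `X`. -/
noncomputable def offSum (N : Subgroup G) [Fintype N] (Ψ : (↥N → ℂ) → G → ℂ) (φ₀ : ↥N → ℂ) : ℝ :=
  ∑ v ∈ Finset.univ.filter (fun v : N => v ∈ core N ∧ (v : G) ∉ derK N),
    ‖excess (derK N) Ψ φ₀ v‖ ^ 2

theorem sum_le_offSum {ι : Type*} (s : Finset ι) (g : ι → core N) (hinj : Set.InjOn g s)
    (hoff : ∀ i ∈ s, ((g i : N) : G) ∉ derK N) :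
    ∑ i ∈ s, ‖excess (derK N) Ψ φ₀ (g i : N)‖ ^ 2 ≤ offSum N Ψ φ₀ := by
  classical
  rw [offSum, ← Finset.sum_image (f := fun v : N => ‖excess (derK N) Ψ φ₀ v‖ ^ 2)
    (g := fun i => (g i : N)) fun i hi j hj e => hinj hi hj (Subtype.ext e)]
  refine Finset.sum_le_sum_of_subset_of_nonneg (fun v hv => ?_) fun v _ _ => sq_nonneg _
  obtain ⟨i, hi, rfl⟩ := Finset.mem_image.1 hv
  exact Finset.mem_filter.2 ⟨Finset.mem_univ _, (g i).2, hoff i hi⟩

theorem offSum_nonneg : 0 ≤ offSum N Ψ φ₀ := Finset.sum_nonneg fun v _ => sq_nonneg _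

variable (V : Vals N p Ψ φ₀ F)

/-- The integer `ψ` on `K₁`. -/
noncomputable def hval (F : core N → ℤ) (v : core N) : ℤ := (idx N : ℤ) + F v

include V

theorem Vals.hval_one : Ψ φ₀ 1 = (hval F 1 : ℂ) := by
  have := V.val_cut (v := 1) (by simp)
  simpa [hval] using this

theorem Vals.sum_le_psiZero (S : Setting M N E A p x a) {ι : Type*} (s : Finset ι)
    (g : ι → core N) (hinj : Set.InjOn g s) (hon : ∀ i ∈ s, ((g i : N) : G) ∈ derK N ∧ g i ≠ 1) :
    ∑ i ∈ s, (hval F (g i) : ℝ) ^ 2 ≤ psiZero N (derK N) (Ψ φ₀) := by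
  classical
  rw [S.psiZero_eq V, ← Finset.sum_image (f := fun v : core N => (hval F v : ℝ) ^ 2)
    (g := g) hinj]
  refine Finset.sum_le_sum_of_subset_of_nonneg (fun v hv => ?_) fun v _ _ => sq_nonneg _
  obtain ⟨i, hi, rfl⟩ := Finset.mem_image.1 hv
  exact Finset.mem_filter.2 ⟨Finset.mem_univ _, hon i hi⟩

theorem Vals.hval_cong {v : core N} {k : ℕ} : (p : ℤ) ∣ hval F (v ^ p ^ k) - hval F v := by
  have := V.cong v k
  simpa [hval] using this

/-- Invariance of `F` under coprime powers on `K₁`. -/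
theorem Vals.hval_pow {v : core N} (hv : ((v : N) : G) ∈ derK N) {j : ℕ}
    (hj : j.Coprime (orderOf v)) : hval F (v ^ j) = hval F v := by
  classical
  obtain ⟨k, hk, hkv⟩ := exists_coprime_modEq ((v : N) : G)
    (show j.Coprime (orderOf ((v : N) : G)) by rw [orderOf_coe, orderOf_coe]; exact hj)
  obtain ⟨σ, hσ⟩ := Char.exists_galois_pow (G := G) k hk
  obtain ⟨c, d, hc, hd, hcd⟩ := V.images.gen _ V.mem
  have h1 : σ (Ψ φ₀ ((v : N) : G)) = Ψ φ₀ (((v : N) : G) ^ k) := by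
    rw [hcd, Pi.sub_apply, Pi.sub_apply, map_sub, hσ hc, hσ hd]
  have hvj : (((v ^ j : core N) : N) : G) ∈ derK N := by simpa using (derK N).pow_mem hv j
  have e1 := V.val_cut hv
  have e2 := V.val_cut hvj
  rw [show (((v ^ j : core N) : N) : G) = ((v : N) : G) ^ k by simp [hkv]] at e2
  rw [e1, e2, map_intCast] at h1
  exact (Int.cast_inj.1 h1).symm

/-- The character at `x` modulo `p`. -/
theorem Setting.cong_x (S : Setting M N E A p x a) :
    Cong p (rho N (Ψ φ₀) x) (hval F 1 : ℂ) := by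
  have hxσ : x ∈ sigmaCore N := S.A_le S.mem_A
  set v : core N := toCore N ⟨x, hxσ⟩ with hv
  have h1 := S.rho_pElt V hxσ S.pair.ne (k := 1) (by rw [pow_one]; exact S.pair.pow)
  have h2 : Ψ φ₀ x = φ₀ (v : N) + (F v : ℂ) := V.val v
  have hvp : v ^ p = 1 := by
    rw [hv, ← map_pow, show (⟨x, hxσ⟩ : sigmaCore N) ^ p = 1 from Subtype.ext S.pair.pow, map_one]
  have h3 : Cong p (φ₀ (v : N)) ((idx N : ℤ) : ℂ) := by
    have hN := V.images.side
    have h := cong_mul (hN.gen V.mem) (x := (v : N)) (y := 1)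
      (orderOf_eq_prime (by rw [← SubgroupClass.coe_pow, hvp]; rfl)
        fun e => S.pair.ne (congrArg (fun u : N => (u : G)) e)) (by simp)
    rw [mul_one, hN.apply_one V.mem] at h
    simpa using h
  have h4 : Cong p ((F v : ℤ) : ℂ) ((F 1 : ℤ) : ℂ) := by
    refine cong_of_dvd ?_
    have := V.cong v 1
    rw [pow_one, hvp] at this
    rw [show F v - F 1 = -(F 1 - F v) by ring]
    exact dvd_neg.2 this
  refine h1.trans ((cong_of_eq h2).trans ?_)
  simp only [hval, Int.cast_add]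
  exact h3.add h4

omit V in
theorem Setting.exists_vals (S : Setting M N E A p x a) {W O P : Subgroup G}
    (hW : IsComplIn W (sigmaCore N) N)
    (hfix : ∀ w ∈ W, w ≠ 1 → sigmaCore N ⊓ centralizer ({w} : Set G) ≤ derK N)
    (hO : IsPCompl N O p) (hP : IsSyl N P p) (he : 2 * Nat.card W ≤ p + 1) :
    ∃ (Ψ : (↥N → ℂ) → G → ℂ) (φ₀ : ↥N → ℂ) (F : core N → ℤ), Vals N p Ψ φ₀ F := by
  have hs := S.nside hW hfix
  have hq := S.sq_le_quo hO hP
  have hc := hs.card_fam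
  rw [idx_eq_card_compl hW] at hc
  have hp3 : 3 ≤ p := by
    have := hp.out.two_le
    rcases Nat.lt_or_ge p 3 with h | h
    · exact absurd (by omega) S.p_odd
    · exact h
  have h3 : 3 ≤ (fam N (derK N)).card := by
    by_contra h
    have h2 : Nat.card W * (fam N (derK N)).card ≤ Nat.card W * 2 :=
      Nat.mul_le_mul_left _ (by omega)
    have h9 : 3 * p ≤ p ^ 2 := by rw [pow_two]; exact Nat.mul_le_mul_right p hp3
    omega
  obtain ⟨Ψ, hI⟩ := hs.exists_images (by omega)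
  obtain ⟨φ₀, h₀⟩ := Finset.card_pos.1 (show 0 < (fam N (derK N)).card by omega)
  obtain ⟨F, hF, hFc⟩ := hI.exists_fval h₀ h3
  exact ⟨Ψ, φ₀, F, hI, h₀, h3, hF, hFc hp.out⟩

/-- The inequality to refute. -/
theorem Setting.reduced [Fintype M] [Fintype (core M)] (S : Setting M N E A p x a) {W O P : Subgroup G}
    (hW : IsComplIn W (sigmaCore N) N) (hO : IsPCompl N O p) (hP : IsSyl N P p)
    (he : 2 * Nat.card W ≤ p + 1) {r : ℕ}
    (hr : r * (centralizer ({x} : Set G)).relIndex (sigmaCore N) * Nat.card E ≤ Nat.card N) :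
    V.images.IsA φ₀ 0 ∧ psiZero N (derK N) (Ψ φ₀) + offSum N Ψ φ₀ +
        gainConst p * (pdist p (hval F 1) : ℝ) ^ 2 *
          ((r : ℝ) * (centralizer ({x} : Set G)).relIndex (sigmaCore N)) <
      Nat.card (derK N) * (Nat.card W : ℝ) ^ 2 := by
  classical
  obtain ⟨hx, f₀, hf₀, hxf₀⟩ := S.fixedChar
  obtain ⟨α, ha⟩ := V.images.exists_a V.mem
  have hcx := S.cong_x V
  have h := S.pair.main_ineq V.images S.nconj V.mem V.three S.supp S.p_odd hf₀ hxf₀ ha
    (μ := (pdist p (hval F 1) : ℝ)) (Nat.cast_nonneg _) fun z hz => by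
      have hd : (p : ℤ) ∣ z - hval F 1 := dvd_of_cong (hz.symm.trans hcx)
      have := pdist_le hd
      calc (pdist p (hval F 1) : ℝ) ≤ (z.natAbs : ℝ) := by exact_mod_cast this
        _ = |(z : ℝ)| := by rw [Nat.cast_natAbs, Int.cast_abs]
  have hidx : idx N = Nat.card W := idx_eq_card_compl hW
  have hidxM : idx M = Nat.card E := idx_eq_card_compl S.pair.compl.compl
  rw [hidx, hidxM] at h
  set k : ℝ := (Nat.card (derK N) : ℝ) with hk
  set e : ℝ := (Nat.card W : ℝ) with hedef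
  have hk0 : 0 < k := Nat.cast_pos.2 Nat.card_pos
  have hg0 : 0 ≤ gainConst p := by unfold gainConst; positivity
  have hterm : 0 ≤ gainConst p * (pdist p (hval F 1) : ℝ) ^ 2 * (Nat.card N) / (Nat.card E) := by
    positivity
  have hlow := V.images.lower V.mem ha
  rw [V.images.split_norm V.mem ha, hidx] at hlow
  have hp2 : (3 : ℝ) ≤ p := by
    have := hp.out.two_le
    rcases Nat.lt_or_ge p 3 with h' | h'
    · exact absurd (by omega) S.p_odd
    · exact_mod_cast h'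
  have hq : (p : ℝ) ^ 2 ≤ quo N (derK N) := by exact_mod_cast S.sq_le_quo hO hP
  have hX : offSum N Ψ φ₀ = ∑ v ∈ Finset.univ.filter (fun v : N => v ∈ core N ∧ (v : G) ∉ derK N),
      ‖excess (derK N) Ψ φ₀ v‖ ^ 2 := rfl
  rw [← hX] at h hlow
  have hα : α = 0 := by
    by_contra hα0
    have h1 : (1 : ℝ) ≤ |(α : ℝ)| := by exact_mod_cast Int.one_le_abs hα0
    have hψ : 0 ≤ psiZero N (derK N) (Ψ φ₀) := Finset.sum_nonneg fun v _ => sq_nonneg _
    have he' : 2 * e ≤ p + 1 := by rw [hedef]; exact_mod_cast he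
    have he0 : 0 ≤ e := Nat.cast_nonneg _
    have ha2 : (α : ℝ) ^ 2 = |(α : ℝ)| ^ 2 := (sq_abs _).symm
    have hXl : ((quo N (derK N) : ℝ) - 1) * k * |(α : ℝ)| ^ 2 ≤ offSum N Ψ φ₀ := by
      rw [← ha2]; linarith
    have hcross : 2 * e * k * (α : ℝ) ≤ 2 * e * k * |(α : ℝ)| :=
      mul_le_mul_of_nonneg_left (le_abs_self _) (by positivity)
    have hbig : e ^ 2 + 2 * e ≤ (quo N (derK N) : ℝ) - 1 := by nlinarith
    have h5 : k * e ^ 2 + 2 * e * k * |(α : ℝ)| ≤ k * (e ^ 2 + 2 * e) * |(α : ℝ)| ^ 2 := by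
      have h6 : (1 : ℝ) ≤ |(α : ℝ)| ^ 2 := one_le_pow₀ h1
      have h7 : |(α : ℝ)| ≤ |(α : ℝ)| ^ 2 := by nlinarith
      nlinarith [mul_nonneg hk0.le (mul_nonneg he0 he0),
        mul_le_mul_of_nonneg_left h7 (by positivity : 0 ≤ 2 * e * k)]
    have h8 : k * (e ^ 2 + 2 * e) * |(α : ℝ)| ^ 2 ≤
        ((quo N (derK N) : ℝ) - 1) * k * |(α : ℝ)| ^ 2 := by
      rw [mul_comm k]
      exact mul_le_mul_of_nonneg_right (mul_le_mul_of_nonneg_right hbig hk0.le) (sq_nonneg _)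
    linarith
  subst hα
  have hE0 : (0 : ℝ) < Nat.card E := Nat.cast_pos.2 Nat.card_pos
  have hr' : (r : ℝ) * ((centralizer ({x} : Set G)).relIndex (sigmaCore N) : ℝ) ≤
      (Nat.card N : ℝ) / Nat.card E := by
    rw [le_div_iff₀ hE0]
    exact_mod_cast hr
  have h9 := mul_le_mul_of_nonneg_left hr'
    (mul_nonneg hg0 (sq_nonneg (pdist p (hval F 1) : ℝ)))
  rw [mul_div_assoc'] at h9
  refine ⟨ha, ?_⟩
  simp only [Int.cast_zero, mul_zero, sub_zero] at h
  linarith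

end Cfsg.Agent.OddCharTwelve
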