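import Cfsg.Agent.OddCharTwelve.NSideInst
import Cfsg.Agent.OddLocal.TauTwoNonabelian
import Cfsg.Agent.MaxClass.OddP
import Cfsg.Agent.S1414

/-!
# The parts of `N_σ` for the prime `p`
-/

set_option autoImplicit false
set_option linter.unusedSectionVars false
set_option linter.style.haveILetI false

namespace Cfsg.Agent.OddCharTwelve

open Subgroup Cfsg
open scoped commutatorElement

universe u

variable {G : Type u} [Group G] [Finite G] {M N E A : Subgroup G} {p : ℕ} [hp : Fact p.Prime]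
  {x a : G}

/-- The normal `p`-complement of `N_σ`. -/
structure IsPCompl (N O : Subgroup G) (p : ℕ) : Prop where
  le : O ≤ sigmaCore N
  not_dvd : ¬ p ∣ Nat.card O
  mem : ∀ v ∈ sigmaCore N, (orderOf v).Coprime p → v ∈ O
  normal : N ≤ normalizer (O : Set G)

/-- A Sylow `p`-subgroup of `N_σ`. -/
abbrev IsSyl (N P : Subgroup G) (p : ℕ) : Prop := IsPiHallOf ({p} : Set ℕ) P (sigmaCore N)

theorem IsSyl.isPGroup {P : Subgroup G} (h : IsSyl N P p) : IsPGroup p P :=
  OddLocal.isPGroup_of_singleton fun r hr hd => h.2.1 r hr hd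

variable {O P : Subgroup G} (hO : IsPCompl N O p) (hP : IsSyl N P p)

include hO hP

theorem IsPCompl.inf_syl : O ⊓ P = ⊥ := by
  refine Coprime.inf_eq_bot_of_coprime ?_
  obtain ⟨j, hj⟩ := IsPGroup.iff_card.1 hP.isPGroup
  rw [hj]
  exact ((hp.out.coprime_iff_not_dvd.2 hO.not_dvd).pow_left j).symm

theorem IsPCompl.le_norm : P ≤ normalizer (O : Set G) :=
  hP.1.trans ((OddLocal.sigmaCore_le N).trans hO.normal)

theorem IsPCompl.sup_eq : O ⊔ P = sigmaCore N := by
  refine le_antisymm (sup_le hO.le hP.1) (relIndex_eq_one.1 ?_)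
  by_contra hne
  obtain ⟨r, hr, hd⟩ := Nat.exists_prime_and_dvd hne
  haveI := Fact.mk hr
  by_cases hrp : r = p
  · exact hP.2.2 r hr (by simpa using hrp) (hd.trans (relIndex_dvd_of_le_left _ le_sup_right))
  obtain ⟨R⟩ : Nonempty (Sylow r ↥(sigmaCore N)) := inferInstance
  have hRO : (R : Subgroup ↥(sigmaCore N)) ≤ (O ⊔ P).subgroupOf (sigmaCore N) := fun v hv => by
    refine mem_sup_left (hO.mem _ v.2 ?_)
    obtain ⟨i, hi⟩ := R.2.exists_orderOf_eq_pow ⟨v, hv⟩
    rw [Subgroup.orderOf_mk] at hi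
    rw [show orderOf ((sigmaCore N).subtype v) = orderOf v from orderOf_coe v, hi]
    exact ((Nat.coprime_primes hr hp.out).2 hrp).pow_left i
  exact R.not_dvd_index (hd.trans (Subgroup.index_dvd_of_le hRO))

theorem IsPCompl.exists_mul {v : G} (hv : v ∈ sigmaCore N) : ∃ o ∈ O, ∃ y ∈ P, o * y = v := by
  rw [← hO.sup_eq hP] at hv
  exact (Coprime.mem_sup_of_le_normalizer (hO.le_norm hP)).1 hv

theorem IsPCompl.derK_le : derK N ≤ O ⊔ ⁅P, P⁆ := by
  rw [derK, commutator_le]
  intro u hu v hv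
  obtain ⟨o, ho, y, hy, rfl⟩ := hO.exists_mul hP hu
  obtain ⟨o', ho', y', hy', rfl⟩ := hO.exists_mul hP hv
  have hn : ∀ w ∈ P, ∀ z ∈ O, w * z * w⁻¹ ∈ O := fun w hw z hz =>
    (mem_normalizer_iff.1 (hO.le_norm hP hw) z).1 hz
  have e : ⁅o * y, o' * y'⁆ = o * (y * o' * y⁻¹) * ⁅y, y'⁆ * (y' * o⁻¹ * y'⁻¹) * o'⁻¹ := by
    simp only [commutatorElement_def]; group
  rw [e]
  refine mul_mem (mul_mem (mul_mem (mul_mem ?_ ?_) ?_) ?_) ?_
  · exact mem_sup_left ho
  · exact mem_sup_left (hn y hy o' ho')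
  · exact mem_sup_right (commutator_mem_commutator hy hy')
  · exact mem_sup_left (hn y' hy' _ (O.inv_mem ho))
  · exact mem_sup_left (O.inv_mem ho')

theorem IsPCompl.derK_inf_syl : derK N ⊓ P = ⁅P, P⁆ := by
  refine le_antisymm ?_ (le_inf (commutator_mono hP.1 hP.1) (commutator_le_self P))
  rintro v ⟨hv, hvP⟩
  obtain ⟨o, ho, c, hc, rfl⟩ := (Coprime.mem_sup_of_le_normalizer
    ((commutator_le_self P).trans (hO.le_norm hP))).1 (hO.derK_le hP hv)
  have hoP : o ∈ P := by simpa using P.mul_mem hvP (P.inv_mem (commutator_le_self P hc))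
  have : o ∈ O ⊓ P := ⟨ho, hoP⟩
  rw [hO.inf_syl hP, mem_bot] at this
  rwa [this, one_mul]

theorem IsPCompl.derK_eq : derK N = (O ⊓ derK N) ⊔ ⁅P, P⁆ := by
  refine le_antisymm (fun v hv => ?_) (sup_le inf_le_right (commutator_mono hP.1 hP.1))
  obtain ⟨o, ho, c, hc, rfl⟩ := (Coprime.mem_sup_of_le_normalizer
    ((commutator_le_self P).trans (hO.le_norm hP))).1 (hO.derK_le hP hv)
  have hc' : c ∈ derK N := commutator_mono hP.1 hP.1 hc
  exact mul_mem_sup ⟨ho, by simpa using mul_mem hv (inv_mem hc')⟩ hc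

omit hO hP

theorem exists_syl (N : Subgroup G) (A : Subgroup G) (hA : IsPGroup p A) (hAN : A ≤ sigmaCore N) :
    ∃ P, A ≤ P ∧ IsSyl N P p := by
  obtain ⟨R, hR⟩ := (hA.comap_of_injective (sigmaCore N).subtype
    (sigmaCore N).subtype_injective).exists_le_sylow
  refine ⟨(R : Subgroup ↥(sigmaCore N)).map (sigmaCore N).subtype, fun v hv => ⟨⟨v, hAN hv⟩, hR hv, rfl⟩,
    map_subtype_le _, fun r hr hd => ?_, fun r hr hrp hd => ?_⟩
  · obtain ⟨j, hj⟩ := IsPGroup.iff_card.1 (R.2.map (sigmaCore N).subtype)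
    rw [hj] at hd
    simpa using (Nat.prime_dvd_prime_iff_eq hr hp.out).1 (hr.dvd_of_dvd_pow hd)
  · have hrp' : r = p := by simpa using hrp
    subst hrp'
    rw [relIndex, subgroupOf, comap_map_eq_self_of_injective (sigmaCore N).subtype_injective] at hd
    exact R.not_dvd_index hd

variable (S : Setting M N E A p x a)

include S

theorem Setting.exists_pCompl : ∃ O, IsPCompl N O p := by
  have hG := S.minSimple
  have hN := S.coatomN
  have hpN : p ∣ Nat.card N := S.sigmaN.2.1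
  obtain ⟨-, ⟨P₀, O₀, hOn, hc⟩, -⟩ :=
    (Cfsg.Agent.S1414.result hG N hN).2.2.2.2 p hp.out hpN S.not_betaN
  haveI : O₀.Normal := hOn
  let K : Subgroup G := sigmaCore N
  have hidx : O₀.index = Nat.card (P₀ : Subgroup (sigmaCore N)) := hc.symm.index_eq_card
  have hnd : ¬ p ∣ Nat.card O₀ := by
    rw [← hc.index_eq_card]
    exact P₀.not_dvd_index
  have hmem : ∀ v : K, (orderOf v).Coprime p → v ∈ O₀ := fun v hv => by
    obtain ⟨j, hj⟩ := IsPGroup.iff_card.1 P₀.2
    rw [← QuotientGroup.eq_one_iff, ← orderOf_eq_one_iff]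
    refine Nat.eq_one_of_dvd_coprimes (hv.pow_right j) (orderOf_map_dvd (QuotientGroup.mk' O₀) v) ?_
    rw [← hj, ← hidx]
    exact orderOf_dvd_natCard _
  refine ⟨O₀.map K.subtype, map_subtype_le _, ?_, fun v hv hc' => ⟨⟨v, hv⟩, hmem _ (by
    rwa [Subgroup.orderOf_mk]), rfl⟩, fun n hn => ?_⟩
  · rwa [card_map_of_injective K.subtype_injective]
  · refine OddLocal.mem_normalizer_of_map_conj (eq_of_le_of_card_ge ?_ (OddLocal.card_map_conj _ _).ge)
    rintro _ ⟨_, ⟨o, ho, rfl⟩, rfl⟩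
    have hK : n * (o : G) * n⁻¹ ∈ K :=
      (mem_normalizer_iff.1 (OddLocal.le_normalizer_sigmaCore N hn) _).1 o.2
    refine ⟨⟨_, hK⟩, hmem _ ?_, rfl⟩
    rw [Subgroup.orderOf_mk, show n * (o : G) * n⁻¹ = MulAut.conj n (o : G) from rfl,
      MulEquiv.orderOf_eq, orderOf_coe]
    exact (hp.out.coprime_iff_not_dvd.2 fun hd => hnd (hd.trans
      (Subgroup.orderOf_dvd_natCard _ ho))).symm

theorem Setting.A_pgroup : IsPGroup p A := Coprime.ea_isPGroup S.tauPair.elem

theorem Setting.syl_noncyclic (hP : IsSyl N P p) : ¬ IsCyclic P := by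
  intro hc
  obtain ⟨P', hAP, hP'⟩ := exists_syl N A S.A_pgroup S.A_le
  obtain ⟨k, -, hk⟩ := Coprime.exists_conj_isPiHallOf
    (Core.isSolvable_mono (OddLocal.isSolvable_coatom S.minSimple S.coatomN)
      (OddLocal.sigmaCore_le N)) hP hP'
  have : IsCyclic P' := by
    rw [← hk]
    exact isCyclic_of_surjective _
      (P.equivMapOfInjective (MulAut.conj k).toMonoidHom (MulAut.conj k).injective).surjective
  exact S.tauPair.not_isCyclic (Subgroup.isCyclic_of_le hAP)

theorem Setting.sq_le_relIndex (hP : IsSyl N P p) : p ^ 2 ≤ ⁅P, P⁆.relIndex P := by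
  have hidx : ⁅P, P⁆.relIndex P = (commutator P).index := by
    rw [← map_subtype_commutator P, relIndex, subgroupOf,
      comap_map_eq_self_of_injective P.subtype_injective]
  rw [hidx]
  by_cases hc : commutator P = ⊥
  · rw [hc, index_bot]
    obtain ⟨j, hj⟩ := IsPGroup.iff_card.1 hP.isPGroup
    rw [hj]
    rcases lt_or_ge j 2 with h | h
    · exfalso
      refine S.syl_noncyclic hP ?_
      interval_cases j
      · haveI : Subsingleton P := Finite.card_le_one_iff_subsingleton.1 (by rw [hj, pow_zero])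
        exact isCyclic_of_subsingleton
      · exact isCyclic_of_prime_card (by rw [hj, pow_one])
    · exact Nat.pow_le_pow_right hp.out.pos h
  · exact Nat.le_of_dvd (Nat.pos_of_ne_zero Subgroup.index_ne_zero_of_finite)
      (MaxClass.sq_dvd_index_commutator hP.isPGroup hc)

theorem Setting.sq_le_quo (hO : IsPCompl N O p) (hP : IsSyl N P p) :
    p ^ 2 ≤ quo N (derK N) := by
  have h : quo N (derK N) = (derK N).relIndex (sigmaCore N) := by
    have h1 := card_core_eq (derK_le N)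
    rw [card_core, ← Coprime.card_mul_relIndex_of_le (derK_le N), mul_comm] at h1
    exact (Nat.eq_of_mul_eq_mul_right Nat.card_pos h1).symm
  rw [h]
  refine (S.sq_le_relIndex hP).trans ?_
  rw [← hO.derK_inf_syl hP, inf_relIndex_right]
  exact relIndex_le_of_le_right hP.1 (Subgroup.index_ne_zero_of_finite)

/-- On the `p'`-part, `x` and `A` have the same fixed points, all inside `E`. -/
theorem Setting.fixed_O (hO : IsPCompl N O p) :
    O ⊓ centralizer ({x} : Set G) ≤ E ∧ O ⊓ centralizer ({x} : Set G) ≤ centralizer (A : Set G) := by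
  have h1 : O ⊓ centralizer ({x} : Set G) ≤ E := by
    rw [S.eqE]
    exact le_inf (inf_le_left.trans (hO.le.trans (OddLocal.sigmaCore_le N)))
      (inf_le_right.trans S.pair.cent)
  refine ⟨h1, fun v hv => mem_centralizer_iff.2 fun b hb => ?_⟩
  have hbN : b ∈ N := OddLocal.sigmaCore_le N (S.A_le hb)
  have h2 : v * b * v⁻¹ * b⁻¹ ∈ A ⊓ O := by
    refine ⟨A.mul_mem ((mem_normalizer_iff.1 (S.normA (h1 hv)) b).1 hb) (A.inv_mem hb), ?_⟩
    have := (mem_normalizer_iff.1 (hO.normal hbN) v⁻¹).1 (inv_mem hv.1)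
    simpa [mul_assoc] using mul_mem hv.1 this
  obtain ⟨j, hj⟩ := IsPGroup.iff_card.1 S.A_pgroup
  rw [Coprime.inf_eq_bot_of_coprime (hj ▸
    (hp.out.coprime_iff_not_dvd.2 hO.not_dvd).pow_left j), mem_bot] at h2
  exact (mul_inv_eq_iff_eq_mul.1 (mul_inv_eq_one.1 h2)).symm

end Cfsg.Agent.OddCharTwelve
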