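import Cfsg.Agent.OddLocal.AttachedSets
import Cfsg.Agent.Coherence.DadeGen
import Cfsg.Agent.OddCharTwelve.Cong
import Cfsg.Agent.S1525

/-!
# The averaged restriction to the sigma-core of a maximal subgroup
-/

set_option autoImplicit false
set_option linter.unusedSectionVars false

namespace Cfsg.Agent.OddCharTwelve

open Subgroup Cfsg
open scoped ComplexConjugate

universe u

variable {G : Type u} [Group G]

/-- The average of `χ` over the coset `g R(g)`. -/
noncomputable def rho (N : Subgroup G) (χ : G → ℂ) (g : G) : ℂ :=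
  (Nat.card (supportR N g) : ℂ)⁻¹ * ∑ᶠ u ∈ (supportR N g : Set G), χ (g * u)

/-- The Dade map on the sigma-core. -/
noncomputable def tau1Map (N : Subgroup G) (α : ↥N → ℂ) : G → ℂ :=
  dadeIsometry (typeA1 N) N (supportR N) α

theorem rho_of_le [Finite G] {N : Subgroup G} (χ : G → ℂ) {g : G}
    (h : centralizer ({g} : Set G) ≤ N) : rho N χ g = χ g := by
  rw [rho, OddLocal.supportR_eq_bot h, Subgroup.card_bot, Subgroup.coe_bot,
    finsum_mem_singleton]
  simp

variable [Fintype G] {N : Subgroup G} (hG : IsMinSimpleOddOrder G) (hN : IsCoatom N)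

include hG hN

theorem mem_typeA1 {g : G} : g ∈ typeA1 N ↔ g ∈ sigmaCore N ∧ g ≠ 1 := by
  rw [OddLocal.typeA1_eq hG hN]; rfl

theorem dade1 : DadeHypothesis (typeA1 N) N (supportR N) :=
  let h := OddLocal.attached_cases hG hN (A := typeA1 N) (Or.inl rfl)
  (OddLocal.dade_of_subset hG hN h.1 h.2.1 h.2.2).2

theorem supportR_le_cent {g : G} (hg : g ∈ sigmaCore N) (hg1 : g ≠ 1) :
    supportR N g ≤ centralizer ({g} : Set G) :=
  (dade1 hG hN).le_centralizer g ((mem_typeA1 hG hN).2 ⟨hg, hg1⟩)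

theorem rho_conj {χ : G → ℂ} (hχ : IsClassFunction G χ) {m g : G} (hm : m ∈ N)
    (hg : g ∈ sigmaCore N) : rho N χ (m * g * m⁻¹) = rho N χ g := by
  rcases eq_or_ne g 1 with rfl | hg1
  · simp
  have hR := Coherence.Dade.H_conj (dade1 hG hN) ((mem_typeA1 hG hN).2 ⟨hg, hg1⟩) hm
  have hc : Nat.card (supportR N (m * g * m⁻¹)) = Nat.card (supportR N g) := by
    rw [hR, Subgroup.card_map_of_injective (MulAut.conj m).injective]
  rw [rho, rho, hc, hR]
  congr 1
  rw [Subgroup.coe_map, MulEquiv.coe_toMonoidHom,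
    finsum_mem_image ((MulAut.conj m).injective.injOn)]
  refine finsum_mem_congr rfl fun u _ => ?_
  rw [MulAut.conj_apply,
    show m * g * m⁻¹ * (m * u * m⁻¹) = m * (g * u) * m⁻¹ by group]
  exact hχ (g * u) m

variable [Fintype N]

theorem inner_tau1 {α : ↥N → ℂ} (hα : IsClassFunction N α)
    (hsupp : ∀ v : N, (v : G) ∉ typeA1 N → α v = 0) {χ : G → ℂ} (hχ : IsClassFunction G χ) :
    classInner (tau1Map N α) χ = classInner α (fun v : N => rho N χ v) :=
  Coherence.Dade.inner_dade (dade1 hG hN) α hα hsupp χ _ hχ fun _ _ => rfl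

open scoped _root_.Classical in
theorem norm_bound {χ : G → ℂ} (hχ : IsClassFunction G χ) :
    (Nat.card N : ℝ)⁻¹ *
        ∑ v ∈ Finset.univ.filter (fun v : N => (v : G) ∈ typeA1 N), ‖rho N χ v‖ ^ 2 ≤
      (Nat.card G : ℝ)⁻¹ *
        ∑ g ∈ Finset.univ.filter (· ∈ Coherence.Dade.support (typeA1 N) (supportR N)),
          ‖χ g‖ ^ 2 := by
  have h := S1525.result (typeA1 N) N (supportR N) (dade1 hG hN) χ hχ (fun v : N => rho N χ v)
    fun _ _ => rfl
  rw [finsum_mem_eq_finite_toFinset_sum _ (Set.toFinite _),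
    finsum_mem_eq_finite_toFinset_sum _ (Set.toFinite _)] at h
  convert h using 2
  · refine Finset.sum_congr ?_ fun _ _ => rfl
    ext g
    simp
  · refine Finset.sum_congr ?_ fun _ _ => rfl
    ext g
    simp only [Finset.mem_filter, Finset.mem_univ, true_and, Set.Finite.mem_toFinset]
    exact Iff.rfl

theorem pint_rho {p : ℕ} [Fact p.Prime] {χ : G → ℂ} (hχ : IsGeneralizedCharacter G χ) {g : G}
    (h : ¬ p ∣ Nat.card (supportR N g)) : PInt p (rho N χ g) := by
  rw [rho, finsum_mem_eq_finite_toFinset_sum _ (Set.toFinite _)]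
  exact (PInt.inv_nat h).mul (PInt.sum _ _ fun _ _ => pint_gen hχ _)

/-- An element of order `p` centralising `y` and fixing no point of `R(y)`. -/
theorem rho_cong {p : ℕ} [hp : Fact p.Prime] {χ : G → ℂ} (hχ : IsGeneralizedCharacter G χ)
    {x y : G} (hxN : x ∈ N) (hxp : x ^ p = 1) (hy : y ∈ sigmaCore N) (hy1 : y ≠ 1)
    (hxy : Commute x y) (hfree : supportR N y ⊓ centralizer ({x} : Set G) = ⊥) :
    Cong p (rho N χ y) (χ y) ∧ PInt p (rho N χ y) := by
  classical
  set R := supportR N y with hR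
  have hy' := (mem_typeA1 hG hN).2 ⟨hy, hy1⟩
  have hstab : ∀ u, MulAut.conj x u ∈ R ↔ u ∈ R := by
    intro u
    have h := Coherence.Dade.H_conj (dade1 hG hN) hy' hxN
    rw [show x * y * x⁻¹ = y by rw [hxy.eq, mul_inv_cancel_right], ← hR] at h
    conv_lhs => rw [h]
    exact ⟨fun ⟨w, hw, e⟩ => (MulAut.conj x).injective e ▸ hw, fun hu => ⟨u, hu, rfl⟩⟩
  have hpow : (MulAut.conj x).toEquiv ^ p = 1 := by
    have : ∀ n : ℕ, (MulAut.conj x).toEquiv ^ n = (MulAut.conj (x ^ n)).toEquiv := by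
      intro n
      induction n with
      | zero => ext u; simp
      | succ n ih =>
        ext u
        rw [pow_succ, ih, pow_succ]
        simp [Equiv.Perm.mul_apply, MulAut.conj_apply, mul_assoc]
    rw [this, hxp]; ext u; simp
  set T := Finset.univ.filter (· ∈ R) with hT
  have hTR : (Set.toFinite (R : Set G)).toFinset = T := by ext; simp [hT]
  have hTc : T.card = Nat.card R := by
    rw [hT, ← Fintype.card_subtype, ← Nat.card_eq_fintype_card]
  have hfix : T.filter (fun u => (MulAut.conj x).toEquiv u = u) = {1} := by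
    ext u
    simp only [hT, Finset.mem_filter, Finset.mem_univ, true_and, Finset.mem_singleton]
    constructor
    · rintro ⟨hu, he⟩
      have he' : x * u * x⁻¹ = u := he
      exact mem_bot.1 (hfree ▸ mem_inf.2 ⟨hu, mem_centralizer_singleton_iff.2
        (mul_inv_eq_iff_eq_mul.1 he').symm⟩)
    · rintro rfl; exact ⟨one_mem _, by simp⟩
  have hcl := Char.IsGen.isClassFunction hχ
  have hsum := sum_fixed (p := p) T (MulAut.conj x).toEquiv (fun u => by simp [hT]; exact hstab u)
    hpow (fun u => χ (y * u)) (fun u _ => by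
      show χ (y * (x * u * x⁻¹)) = χ (y * u)
      rw [show y * (x * u * x⁻¹) = x * (y * u) * x⁻¹ by
        calc y * (x * u * x⁻¹) = (y * x) * u * x⁻¹ := by group
          _ = (x * y) * u * x⁻¹ := by rw [hxy.eq]
          _ = x * (y * u) * x⁻¹ := by group]
      exact hcl (y * u) x) fun u _ => pint_gen hχ _
  rw [hfix, Finset.sum_singleton, mul_one] at hsum
  have hone := sum_fixed (p := p) T (MulAut.conj x).toEquiv (fun u => by simp [hT]; exact hstab u)
    hpow (fun _ => (1 : ℂ)) (fun _ _ => rfl) (fun _ _ => pint_one)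
  rw [hfix, Finset.sum_singleton, Finset.sum_const, nsmul_eq_mul, mul_one, hTc] at hone
  have hnd : ¬ p ∣ Nat.card R := by
    intro hd
    have := dvd_of_cong (p := p) (m := (Nat.card R : ℤ)) (n := 1) (by simpa using hone)
    have h1 : (p : ℤ) ∣ 1 := by
      have := dvd_sub (Int.natCast_dvd_natCast.2 hd) this
      simpa using this
    exact hp.out.not_dvd_one (by exact_mod_cast h1)
  refine ⟨?_, pint_rho hG hN hχ hnd⟩
  have hρ : rho N χ y = (Nat.card R : ℂ)⁻¹ * ∑ u ∈ T, χ (y * u) := by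
    rw [rho, finsum_mem_eq_finite_toFinset_sum _ (Set.toFinite _), hTR]
  have hR0 : (Nat.card R : ℂ) ≠ 0 := Nat.cast_ne_zero.2 Nat.card_pos.ne'
  have h1 : Cong p ((Nat.card R : ℂ)⁻¹ * χ y) (χ y) := by
    have h2 := Cong.mul_left ((PInt.inv_nat hnd).mul (pint_gen hχ y)) hone.symm
    rwa [mul_one, mul_comm ((Nat.card R : ℂ)⁻¹) (χ y), mul_assoc (χ y),
      inv_mul_cancel₀ hR0, mul_one, mul_comm (χ y)] at h2
  rw [hρ]
  exact (Cong.mul_left (PInt.inv_nat hnd) hsum).trans h1

end Cfsg.Agent.OddCharTwelve
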