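import Cfsg.Agent.OddCharTwelve.MChar
import Cfsg.Agent.OddLocal.FrobeniusCriterion
import Cfsg.Agent.OddLocal.TauTwoAbelian
import Cfsg.Agent.OddLocal.SupportPrimes
import Cfsg.Agent.OddLocal.SupportKappa
import Cfsg.Agent.S1417
import Cfsg.Agent.S1418
import Cfsg.Agent.S1423

/-!
# The configuration of a smallest prime of `τ₂(M)` with `κ(M) = ∅`
-/

set_option autoImplicit false
set_option linter.unusedSectionVars false
set_option linter.style.haveILetI false

namespace Cfsg.Agent.OddCharTwelve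

open Subgroup Cfsg
open scoped commutatorElement

universe u

variable {G : Type u} [Group G] [Finite G]

/-- The configuration: `M`, a second maximal subgroup `N` over `N_G(A)`, and a pair `x, a` in `A`. -/
structure Setting (M N E A : Subgroup G) (p : ℕ) (x a : G) : Prop where
  minSimple : IsMinSimpleOddOrder G
  coatomM : IsCoatom M
  kappaM : Cfsg.kappa M = ∅
  tau2M : p ∈ Cfsg.tau2 M
  small : ∀ (L : Subgroup G) (r : ℕ), IsCoatom L → Cfsg.kappa L = ∅ → r ∈ Cfsg.tau2 L → p ≤ r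
  tauPair : OddLocal.IsTauPair p M A
  eqE : E = N ⊓ M
  leE : A ≤ E
  normA : E ≤ normalizer (A : Set G)
  mem_A : x ∈ A
  amem_A : a ∈ A
  pair : Pair M E p x a
  coatomN : IsCoatom N
  nconj : ∀ g : G, N ≠ M.map (MulAut.conj g).toMonoidHom
  sigmaN : p ∈ sigma N
  not_betaN : p ∉ beta N
  A_le : A ≤ sigmaCore N
  not_cent : ¬ centralizer ({x} : Set G) ≤ N
  supp : supportR N x = sigmaCore M ⊓ centralizer ({x} : Set G)
  fixedChar : ∃ (hx : x ∈ M) (f : core M →* ℂˣ), f ≠ 1 ∧ (⟨x, hx⟩ : M) ∈ Char.inertia (lf f)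

variable {M : Subgroup G} {p : ℕ} [hp : Fact p.Prime]

theorem free_outside_tau2 (hG : IsMinSimpleOddOrder G) (hM : IsCoatom M)
    (hκ : Cfsg.kappa M = ∅) {E : Subgroup G} (hE : IsComplIn E (sigmaCore M) M) :
    OddLocal.FreeOutsideTau2 M E := by
  intro e he he1 h
  rw [eq_bot_iff]
  rintro y ⟨hy, hy'⟩
  rw [mem_bot]
  by_contra hy1
  obtain ⟨r, hr, hrd⟩ := Nat.exists_prime_and_dvd (mt orderOf_eq_one_iff.mp he1)
  haveI := Fact.mk hr
  set v := e ^ (orderOf e / r) with hv
  have hvo : orderOf v = r := orderOf_pow_orderOf_div (orderOf_pos e).ne' hrd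
  have := OddLocal.kappa_of_fixed hG hM (h r hr hrd) (P := zpowers v)
    (by rw [Nat.card_zpowers, hvo]) (zpowers_le.2 (pow_mem (hE.1 he) _)) fun hbot =>
      hy1 (mem_bot.1 (hbot ▸ mem_inf.2 ⟨hy, by
        rw [OddLocal.centralizer_zpowers]
        exact mem_centralizer_singleton_iff.2
          (((show Commute y e from mem_centralizer_singleton_iff.1 hy').pow_right _).eq)⟩))
  rw [hκ] at this
  exact this

/-- Some element of `A#` fixes a nontrivial linear character of `M_σ`. -/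
theorem exists_fixed_char (hd : MData M) {A : Subgroup G} (hA : OddLocal.IsTauPair p M A) :
    ∃ x ∈ A, x ≠ 1 ∧ (∃ y ∈ sigmaCore M, y ≠ 1 ∧ Commute x y) ∧
      ∃ (hx : x ∈ M) (f : core M →* ℂˣ), f ≠ 1 ∧ (⟨x, hx⟩ : M) ∈ Char.inertia (lf f) := by
  classical
  have := Fintype.ofFinite G
  have := Fintype.ofFinite (core M)
  haveI := hd.nilp
  haveI : Group.IsNilpotent (core M) := Group.nilpotent_of_mulEquiv
    (Subgroup.subgroupOfEquivOfLe (OddLocal.sigmaCore_le M)).symm
  haveI : Group.IsSolvable (core M) := inferInstance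
  have hne : core M ≠ ⊥ := by
    intro e
    refine OddLocal.sigmaCore_ne_bot hd.minSimple hd.coatom (eq_bot_iff.2 fun y hy => ?_)
    have : (⟨y, OddLocal.sigmaCore_le M hy⟩ : M) ∈ (⊥ : Subgroup M) := e ▸ hy
    exact congrArg Subtype.val (mem_bot.1 this)
  haveI : Nontrivial (core M) := (Subgroup.nontrivial_iff_ne_bot _).2 hne
  have hlt : commutator (core M) ≠ ⊤ := (IsSolvable.commutator_lt_top_of_nontrivial _).ne
  set W : Subgroup G := (commutator (core M)).map ((M.subtype).comp (core M).subtype)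
  have hpH : ¬ p ∣ Nat.card (sigmaCore M) := fun h => hA.not_sigma
    ((OddLocal.isPiHallOf_sigmaCore hd.minSimple hd.coatom).2.1 p hp.out h)
  have hgen : ∃ b ∈ A, b ≠ 1 ∧ ¬ sigmaCore M ⊓ centralizer {b} ≤ W := by
    by_contra h
    push Not at h
    have hle := Coprime.ea_le_of_centralizers_le hA.elem (le_of_eq hA.card.symm) hpH
      (hA.le.trans (OddLocal.le_normalizer_sigmaCore M)) h
    refine hlt (eq_top_iff.2 fun v _ => ?_)
    obtain ⟨w, hw, hwe⟩ := hle (show ((v : M) : G) ∈ sigmaCore M from v.2)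
    rwa [← show w = v from Subtype.ext (Subtype.ext hwe)]
  obtain ⟨b, hbA, hb1, hbW⟩ := hgen
  obtain ⟨c, hc, hcW⟩ := SetLike.not_le_iff_exists.1 hbW
  have hcb : Commute b c := (mem_centralizer_singleton_iff.1 hc.2).symm
  have hc1 : c ≠ 1 := fun e => hcW (e ▸ one_mem W)
  have hbM : b ∈ M := hA.le hbA
  set bm : M := ⟨b, hbM⟩ with hbm
  set cm : core M := ⟨⟨c, OddLocal.sigmaCore_le M hc.1⟩, hc.1⟩ with hcm
  have hcn : cm ∉ commutator (core M) := fun h => hcW ⟨cm, h, rfl⟩
  obtain ⟨f₀, -, hf₀⟩ := exists_ne_one (N := commutator (core M))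
    (fun u v => commutator_mem_commutator (mem_top u) (mem_top v)) hcn
  set σ : core M →* core M := (MulAut.conjNormal (H := core M) bm).toMonoidHom with hσ
  have hbp : bm ^ p = 1 := Subtype.ext (hA.elem.2 b hbA)
  set fi : ℕ → (core M →* ℂˣ) := fun i =>
    f₀.comp (MulAut.conjNormal (H := core M) (bm ^ i)).toMonoidHom with hfi
  set f : core M →* ℂˣ := ∏ i ∈ Finset.range p, fi i with hf
  have hf_apply : ∀ v, f v = ∏ i ∈ Finset.range p, fi i v := fun v => by
    rw [hf, MonoidHom.finset_prod_apply]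
  have hfc : f cm = f₀ cm ^ p := by
    rw [hf_apply, Finset.prod_congr rfl (g := fun _ => f₀ cm) fun i _ => ?_, Finset.prod_const,
      Finset.card_range]
    simp only [hfi, MonoidHom.comp_apply]
    congr 1
    refine Subtype.ext (Subtype.ext ?_)
    simp only [MulEquiv.coe_toMonoidHom, MulAut.conjNormal_apply, Subgroup.coe_mul,
      Subgroup.coe_inv, SubgroupClass.coe_pow, hbm, hcm]
    rw [(hcb.pow_left i).eq, mul_inv_cancel_right]
  refine ⟨b, hbA, hb1, ⟨c, hc.1, hc1, hcb⟩, hbM, f, fun e => hf₀ ?_, ?_⟩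
  · have h1 : f₀ cm ^ p = 1 := by rw [← hfc, e]; rfl
    have h2 : f₀ cm ^ Nat.card (core M) = 1 := by rw [← map_pow, pow_card_eq_one', map_one]
    have hcop : p.Coprime (Nat.card (core M)) := by
      rw [card_core]; exact hp.out.coprime_iff_not_dvd.2 hpH
    exact orderOf_eq_one_iff.1 (Nat.eq_one_of_dvd_coprimes hcop (orderOf_dvd_of_pow_eq_one h1)
      (orderOf_dvd_of_pow_eq_one h2))
  · rw [Char.mem_inertia]
    funext v
    rw [Char.conjFun_apply]
    simp only [lf]
    refine congrArg Units.val ?_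
    rw [hf_apply, hf_apply]
    set w : core M := v
    have hstep : ∀ i, fi i ⟨bm * (v : M) * bm⁻¹, (core_normal M).conj_mem _ v.2 bm⟩ =
        fi (i + 1) v := by
      intro i
      simp only [hfi, MonoidHom.comp_apply]
      congr 1
      refine Subtype.ext ?_
      simp only [MulEquiv.coe_toMonoidHom, MulAut.conjNormal_apply]
      rw [pow_succ]; group
    rw [Finset.prod_congr rfl fun i _ => hstep i]
    have hp0 : fi p v = fi 0 v := by simp only [hfi, hbp, pow_zero]
    have h1 := Finset.prod_range_succ' (fun i => fi i v) p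
    rw [Finset.prod_range_succ, hp0, mul_left_inj] at h1
    exact h1.symm

theorem exists_setting (hG : IsMinSimpleOddOrder G) (hM : IsCoatom M)
    (hκ : Cfsg.kappa M = ∅) (hτ : p ∈ Cfsg.tau2 M)
    (hmin : ∀ (L : Subgroup G) (r : ℕ), IsCoatom L → Cfsg.kappa L = ∅ → r ∈ Cfsg.tau2 L → p ≤ r) :
    ∃ (N E A : Subgroup G) (x a : G), Setting M N E A p x a := by
  classical
  obtain ⟨E₀, hE₀⟩ := OddLocal.exists_compl_sigmaCore' hG hM
  obtain ⟨A, hAE₀, hA⟩ := OddLocal.exists_plane_in_compl hG hM hE₀ hτ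
  have hd : MData M := ⟨hG, hM, hκ, (S1417.result hG M hM p hτ A ⟨hA.le, hA.elem, hA.card⟩).1⟩
  have h18 := S1418.result hG M hM E₀ hE₀ p hτ A ⟨hAE₀, hA.elem, hA.card⟩
  have hA1 : A ≠ ⊥ := fun e => by
    have := hA.card
    rw [e, card_bot] at this
    exact (one_lt_pow₀ hp.out.one_lt two_ne_zero).ne this
  obtain ⟨N, hN, hNA⟩ := OddLocal.exists_coatom_ge_normalizer hG hM hA.le hA1
  have hAN : A ≤ N := Subgroup.le_normalizer.trans hNA
  have hne : N ≠ M := fun e => h18.2.1.2.2 (e ▸ hNA)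
  have hσN : p ∈ sigma N := by
    by_contra hσ
    have h2 : p ∈ Cfsg.tau2 N := by
      have hpN : p ∣ Nat.card N :=
        ((dvd_pow_self p two_ne_zero).trans hA.card.symm.dvd).trans (card_dvd_of_le hAN)
      rcases OddLocal.tau_of_not_sigma hG hN hσ hpN with h13 | h
      · exact absurd (h13.elim (·.2.2.2.2) (·.2.2.2))
          (OddLocal.not_pRankLE_one_of_plane hAN hA.elem hA.card)
      · exact h
    obtain ⟨E₁, hE₁, hAE₁⟩ :=
      OddLocal.exists_compl_ge hG hN (Coprime.ea_isPGroup hA.elem) hAN hσ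
    exact (S1418.result hG N hN E₁ hE₁ p h2 A ⟨hAE₁, hA.elem, hA.card⟩).2.1.2.2 hNA
  have hnc : ∀ g : G, N ≠ M.map (MulAut.conj g).toMonoidHom := fun g e => hA.not_sigma (by
    rw [e, OddLocal.sigma_map_conj] at hσN; exact hσN)
  have hAσ : A ≤ sigmaCore N :=
    OddLocal.le_sigmaCore_of_isPGroup hG hN hAN (Coprime.ea_isPGroup hA.elem) hσN
  obtain ⟨x, hxA, hx1, ⟨y, hy, hy1, hxy⟩, hxM, hf⟩ := exists_fixed_char hd hA
  have hxp : x ^ p = 1 := hA.elem.2 x hxA
  have hxo : orderOf x = p := orderOf_eq_prime hxp hx1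
  obtain ⟨hCx, huniq⟩ := OddLocal.unique_of_tau2_elt hG hM hxM hx1
    (fun r hr hd' => by
      rw [hxo] at hd'
      rw [(Nat.prime_dvd_prime_iff_eq hr hp.out).mp hd']
      exact hτ) ⟨hxM, y, hy, hy1, hxy⟩
  have hnot : ¬ centralizer ({x} : Set G) ≤ N := fun h => hne (huniq N hN h)
  obtain ⟨L, hL, -, hCL, -, -, hcompl, -, -⟩ :=
    OddLocal.exists_support hG hN (hAσ hxA) hx1 hnot
  obtain rfl : L = M := huniq L hL hCL
  set E := N ⊓ L with hE
  have hAE : A ≤ E := le_inf hAN hA.le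
  have hEn : E ≤ normalizer (A : Set G) :=
    (hA.isExceptional hG hM).le_normalizer_of_compl hG hM hcompl hAE
  obtain ⟨a, haA, hax⟩ : ∃ a ∈ A, a ∉ zpowers x := by
    refine SetLike.not_le_iff_exists.1 fun h => ?_
    have := Nat.le_of_dvd Nat.card_pos (card_dvd_of_le h)
    rw [hA.card, Nat.card_zpowers, hxo] at this
    nlinarith [hp.out.two_le]
  have hxa : Commute a x := congrArg Subtype.val (hA.elem.1.is_comm.comm ⟨a, haA⟩ ⟨x, hxA⟩)
  obtain ⟨A₀, hA₀E, -, hA₀c, hA₀⟩ := OddLocal.exists_abelian_stabilizer hG hM hcompl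
    (free_outside_tau2 hG hM hκ hcompl)
  have hR : supportR N x = sigmaCore L ⊓ centralizer ({x} : Set G) := by
    have hex : ¬ centralizer ({x} : Set G) ≤ N ∧
        ∃! L' : Subgroup G, IsCoatom L' ∧ centralizer ({x} : Set G) ≤ L' :=
      ⟨hnot, L, ⟨hM, hCx⟩, fun L' hL' => huniq L' hL'.1 hL'.2⟩
    rw [supportR, dif_pos hex,
      huniq _ (Classical.choose_spec hex.2.exists).1 (Classical.choose_spec hex.2.exists).2,
      OddLocal.fittingHallOf_eq_of_nilpotent hG hM hd.nilp]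
  refine ⟨N, E, A, x, a, ?_⟩
  exact
    { minSimple := hG, coatomM := hM, kappaM := hκ, tau2M := hτ, small := hmin, tauPair := hA
      eqE := rfl, leE := hAE, normA := hEn, mem_A := hxA, amem_A := haA
      pair :=
        { compl := ⟨hd, hcompl, fun u hu v hv ⟨yu, hyu, hyu1, hcu⟩ ⟨yv, hyv, hyv1, hcv⟩ =>
            congrArg Subtype.val (hA₀c.is_comm.comm
              ⟨u, hA₀ yu hyu hyu1 ⟨hu, mem_centralizer_singleton_iff.2 hcu.eq⟩⟩
              ⟨v, hA₀ yv hyv hyv1 ⟨hv, mem_centralizer_singleton_iff.2 hcv.eq⟩⟩)⟩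
          mem := hAE hxA, ne := hx1, pow := hxp, amem := hA.le haA, apow := hA.elem.2 a haA
          comm := hxa
          free := fun z hz hxz haz => mem_bot.1 (hA.fixed_eq_bot hG hM ▸ mem_inf.2 ⟨hz,
            OddLocal.plane_centralized hA.elem hA.card hxA hx1 haA hax hxz.symm haz.symm⟩)
          fixed := ⟨y, hy, hy1, hxy⟩
          cent := hCx }
      coatomN := hN, nconj := hnc, sigmaN := hσN
      not_betaN := fun hb => OddLocal.not_isIdealPrime_of_not_sigma hG hM hA.not_sigma hτ.2.2.1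
        hτ.2.2.2 hb.2
      A_le := hAσ, not_cent := hnot, supp := hR, fixedChar := ⟨hxM, hf⟩ }

end Cfsg.Agent.OddCharTwelve
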