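import Cfsg.Agent.OddCharTwelve.Bounds

/-!
# The part of the sum outside the Sylow subgroup
-/

set_option autoImplicit false
set_option linter.unusedSectionVars false
set_option linter.style.haveILetI false

namespace Cfsg.Agent.OddCharTwelve

open Subgroup Cfsg
open scoped commutatorElement ComplexConjugate

universe u

variable {G : Type u} [Group G] [Fintype G] {M N E A W O P Q : Subgroup G} {p : ℕ}
  [hp : Fact p.Prime] {x a : G} [Fintype N] [Fintype (core N)]
  {Ψ : (↥N → ℂ) → G → ℂ} {φ₀ : ↥N → ℂ} {F : core N → ℤ}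

/-- The embedding of a subgroup of `N_σ`. -/
def emb (N : Subgroup G) {Y : Subgroup G} (h : Y ≤ sigmaCore N) : ↥Y →* core N :=
  (toCore N).comp (inclusion h)

theorem coe_emb {Y : Subgroup G} (h : Y ≤ sigmaCore N) (v : Y) : ((emb N h v : N) : G) = (v : G) :=
  rfl

variable (S : Setting M N E A p x a) (V : Vals N p Ψ φ₀ F) {e : ℕ} (H : Shape N O P Q p e)

include V H

/-- The coefficients of `u ↦ ψ (z u)`. -/
theorem Vals.coeff [Fintype Q] {z : core N} (hz : ((z : N) : G) ∈ derK N)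
    (hzQ : ∀ u : Q, Commute z (emb N (H.le_derK.trans (derK_le N)) u))
    (hcop : (orderOf z).Coprime (Nat.card Q)) (θ : ↥Q →* ℂˣ) :
    ∃ n : ℤ, ∑ u : Q, (hval F (z * emb N (H.le_derK.trans (derK_le N)) u) : ℂ) * conj (θ u : ℂ) =
      (Nat.card Q : ℂ) * n := by
  classical
  set ι := emb N (H.le_derK.trans (derK_le N)) with hι
  have hK : ∀ (s : zpowers z) (u : Q), ((((s : core N) * ι u : core N) : N) : G) ∈ derK N := by
    intro s u
    obtain ⟨i, hi⟩ := mem_zpowers_iff.1 s.2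
    simp only [Subgroup.coe_mul, ← hi, SubgroupClass.coe_zpow, hι, coe_emb]
    exact mul_mem (zpow_mem hz i) (H.le_derK u.2)
  have hcomm : ∀ (s : zpowers z) (u : Q), Commute ((zpowers z).subtype s) (ι u) := fun s u => by
    obtain ⟨i, hi⟩ := mem_zpowers_iff.1 s.2
    simp only [coe_subtype, ← hi]
    exact (hzQ u).zpow_left i
  let Φ : zpowers z × Q →* core N := MonoidHom.noncommCoprod (zpowers z).subtype ι hcomm
  let emG : core N →* G := N.subtype.comp (core N).subtype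
  have hgen := isGen_avg (Char.isGeneralized_mul
    (Char.isGeneralized_comp (emG.comp Φ) (V.images.gen _ V.mem))
    (Char.isGeneralized_of_isCharacter
      (Char.isCharacter_hom (θ⁻¹.comp (MonoidHom.snd (zpowers z) Q)))))
  have hval' : ∀ (s : zpowers z) (u : Q),
      Ψ φ₀ ((emG.comp Φ) (s, u)) = (hval F ((s : core N) * ι u) : ℂ) :=
    fun s u => V.val_cut (hK s u)
  set f : zpowers z → ℂ := fun s => (Nat.card Q : ℂ)⁻¹ *
    ∑ u : Q, (hval F ((s : core N) * ι u) : ℂ) * conj (θ u : ℂ) with hf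
  have hf' : IsGeneralizedCharacter (zpowers z) f := by
    convert hgen using 2 with s
    simp only [hf, Pi.mul_apply, MonoidHom.comp_apply, MonoidHom.coe_snd]
    congr 1
    refine Finset.sum_congr rfl fun u _ => ?_
    rw [conj_hom]
    exact congrArg (· * _) (hval' s u).symm
  have hinv : ∀ (s : zpowers z) (j : ℕ), j.Coprime (Nat.card (zpowers z)) → f (s ^ j) = f s := by
    intro s j hj
    have hcz : (Nat.card (zpowers z)).Coprime (Nat.card Q) := by rwa [Nat.card_zpowers]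
    obtain ⟨j', hj1, hj2⟩ := Nat.chineseRemainder hcz j 1
    simp only [hf]
    congr 1
    refine Finset.sum_congr rfl fun u _ => ?_
    have hs : (s : core N) ^ j' = (s : core N) ^ j :=
      congrArg (fun t : zpowers z => (t : core N))
        (pow_eq_pow_iff_modEq.2 (hj1.of_dvd (orderOf_dvd_natCard s)))
    have hu : ι u ^ j' = ι u := by
      rw [← map_pow]
      congr 1
      conv_rhs => rw [← pow_one u]
      exact pow_eq_pow_iff_modEq.2 (hj2.of_dvd (orderOf_dvd_natCard u))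
    have hpow : ((s : core N) * ι u) ^ j' = (s : core N) ^ j * ι u := by
      rw [(show Commute (s : core N) (ι u) from hcomm s u).mul_pow, hs, hu]
    have hco : j'.Coprime (orderOf ((s : core N) * ι u)) := by
      refine Nat.Coprime.coprime_dvd_right ((orderOf_map_dvd Φ (s, u)).trans
        ((_root_.orderOf_dvd_natCard _).trans (dvd_of_eq (Nat.card_prod _ _)))) ?_
      refine Nat.Coprime.mul_right ?_ ?_
      · rw [Nat.Coprime, hj1.gcd_eq]; exact hj
      · rw [Nat.Coprime, hj2.gcd_eq, Nat.gcd_one_left]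
    rw [SubgroupClass.coe_pow, ← hpow, V.hval_pow (hK s u) hco]
  obtain ⟨n, hn⟩ := int_of_invariant hf' hinv ⟨z, mem_zpowers z⟩
  refine ⟨n, ?_⟩
  simp only [hf] at hn
  rw [← hn, mul_inv_cancel_left₀ (Nat.cast_ne_zero.2 Nat.card_pos.ne')]

omit H in
theorem Vals.hval_mul_cong {z w : core N} (hzw : Commute z w) {k : ℕ} (hz : z ^ p ^ k = 1) :
    (p : ℤ) ∣ hval F (z * w) - hval F w := by
  have h1 := V.hval_cong (v := z * w) (k := k)
  rw [hzw.mul_pow, hz, one_mul] at h1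
  have h2 := dvd_sub (V.hval_cong (v := w) (k := k)) h1
  rwa [show hval F (w ^ p ^ k) - hval F w - (hval F (w ^ p ^ k) - hval F (z * w)) =
    hval F (z * w) - hval F w by ring] at h2

open scoped _root_.Classical in
/-- Either every row is large, or the residues on `Q#` are constant. -/
theorem Vals.dichotomy [Fintype Q] (hP : IsSyl N P p) (hQp : ¬ p ∣ Nat.card Q)
    (hpe : 2 * e ≤ p) (hreg : P ⊓ centralizer (Q : Set G) ≤ ⁅P, P⁆) :
    (∀ v : P, (v : G) ∈ ⁅P, P⁆ → (e : ℝ) ^ 2 * Nat.card Q ≤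
      ∑ u ∈ Finset.univ.filter (fun u : Q => u ≠ 1),
        (hval F (emb N hP.1 v * emb N (H.le_derK.trans (derK_le N)) u) : ℝ) ^ 2) ∨
      ∃ g₀ : ℤ, ∀ u : Q, u ≠ 1 →
        (p : ℤ) ∣ hval F (emb N (H.le_derK.trans (derK_le N)) u) - g₀ := by
  set ι := emb N (H.le_derK.trans (derK_le N)) with hι
  have hc : ∀ u v : Q, Commute u v := fun u v => Subtype.ext (H.comm u u.2 v v.2).eq
  have hzero : ∀ θ : ↥Q →* ℂˣ, ∃ n : ℤ,
      ∑ u : Q, (hval F (ι u) : ℂ) * conj (θ u : ℂ) = (Nat.card Q : ℂ) * n := fun θ => by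
    obtain ⟨n, hn⟩ := V.coeff H (z := 1) (by simp) (fun u => Commute.one_left _) (by simp) θ
    exact ⟨n, by simpa only [one_mul] using hn⟩
  choose n₁ hn₁ using hzero
  by_cases hconst : ∀ θ θ' : ↥Q →* ℂˣ, θ ≠ 1 → θ' ≠ 1 → (p : ℤ) ∣ n₁ θ - n₁ θ'
  · right
    by_cases hne : ∃ θ₀ : ↥Q →* ℂˣ, θ₀ ≠ 1
    · obtain ⟨θ₀, hθ₀⟩ := hne
      refine ⟨n₁ 1 - n₁ θ₀, fun u hu => dvd_of_cong ?_⟩
      exact cong_of_coeff hc hn₁ (c := n₁ θ₀) (fun θ hθ => hconst θ θ₀ hθ hθ₀) hu
    · push Not at hne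
      refine ⟨0, fun u hu => absurd ?_ hu⟩
      by_contra h
      obtain ⟨φ, -, hφ⟩ := exists_ne_one (N := (⊥ : Subgroup Q)) (fun s t => by
        rw [mem_bot, commutatorElement_eq_one_iff_commute]; exact hc s t) (v := u) (by simpa using h)
      exact hφ (by rw [hne φ]; rfl)
  left
  push Not at hconst
  obtain ⟨θ₀, θ₁, hθ₀, hθ₁, hne⟩ := hconst
  intro v hv
  set z : core N := emb N hP.1 v with hz
  have hvK : ((z : N) : G) ∈ derK N := commutator_mono hP.1 hP.1 hv
  have hzQ : ∀ u : Q, Commute z (ι u) := fun u =>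
    Subtype.ext (Subtype.ext ((mem_centralizer_iff.1 (H.cent hv) u u.2).symm))
  obtain ⟨k, hk⟩ := hP.isPGroup v
  have hzk : z ^ p ^ k = 1 := by rw [hz, ← map_pow, hk, map_one]
  have hcop : (orderOf z).Coprime (Nat.card Q) := by
    obtain ⟨i, -, hi⟩ := (Nat.dvd_prime_pow hp.out).1 (orderOf_dvd_of_pow_eq_one hzk)
    rw [hi]
    exact (hp.out.coprime_iff_not_dvd.2 hQp).pow_left i
  choose n hn using fun θ => V.coeff H hvK hzQ hcop θ
  have hnn : ∀ θ, (p : ℤ) ∣ n θ - n₁ θ := by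
    intro θ
    have hQi : PInt p ((Nat.card Q : ℂ)⁻¹) := PInt.inv_nat hQp
    have h1 : Cong p ((n θ : ℤ) : ℂ) ((n₁ θ : ℤ) : ℂ) := by
      have h2 : Cong p ((Nat.card Q : ℂ) * n θ) ((Nat.card Q : ℂ) * n₁ θ) := by
        rw [← hn θ, ← hn₁ θ]
        refine Cong.sum _ _ _ fun u _ => ?_
        rw [mul_comm ((hval F (z * _) : ℤ) : ℂ), mul_comm ((hval F (ι u) : ℤ) : ℂ)]
        refine Cong.mul_left ?_ (cong_of_dvd (V.hval_mul_cong (hzQ u) hzk))
        rw [conj_hom]
        exact pint_of_isIntegral (Char.IsChar.isIntegral (Char.isCharacter_hom θ⁻¹) u)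
      have h3 := Cong.mul_left hQi h2
      rwa [inv_mul_cancel_left₀ (Nat.cast_ne_zero.2 Nat.card_pos.ne'),
        inv_mul_cancel_left₀ (Nat.cast_ne_zero.2 Nat.card_pos.ne')] at h3
    exact dvd_of_cong h1
  have hinv : ∀ (m : N) (θ : ↥Q →* ℂˣ),
      n₁ (θ.comp (OddLocal.NilpotentPrimeAction.conjHom H.normal m).toMonoidHom) = n₁ θ := by
    intro m θ
    set c := OddLocal.NilpotentPrimeAction.conjHom H.normal m with hcdef
    have hh : ∀ u : Q, hval F (ι (c u)) = hval F (ι u) := fun u => by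
      have e1 := V.val_cut (v := ι (c u)) (H.le_derK (c u).2)
      have e2 := V.val_cut (v := ι u) (H.le_derK u.2)
      rw [hι, coe_emb] at e1 e2
      rw [show ((c u : Q) : G) = (m : G) * u * (m : G)⁻¹ from rfl,
        Char.IsGen.isClassFunction (V.images.gen _ V.mem) (u : G) (m : G), e2] at e1
      exact (Int.cast_inj.1 e1).symm
    have h1 := hn₁ (θ.comp c.toMonoidHom)
    have h1' : ∑ u : Q, (hval F (ι (c u)) : ℂ) * conj (θ (c u) : ℂ) =
        ∑ u : Q, (hval F (ι u) : ℂ) * conj ((θ.comp c.toMonoidHom) u : ℂ) :=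
      Finset.sum_congr rfl fun u _ => by rw [hh u]; rfl
    have h2 : ∑ u : Q, (hval F (ι (c u)) : ℂ) * conj (θ (c u) : ℂ) = (Nat.card Q : ℂ) * n₁ θ :=
      (Equiv.sum_comp c.toEquiv (fun u : Q => (hval F (ι u) : ℂ) * conj (θ u : ℂ))).trans (hn₁ θ)
    have h3 : (Nat.card Q : ℂ) * n₁ (θ.comp c.toMonoidHom) = (Nat.card Q : ℂ) * n₁ θ :=
      h1.symm.trans (h1'.symm.trans h2)
    exact Int.cast_inj.1 (mul_left_cancel₀ (Nat.cast_ne_zero.2 Nat.card_pos.ne') h3)
  obtain ⟨B₀, hB₀, hB₀'⟩ := H.orbit hreg θ₀ hθ₀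
  obtain ⟨B₁, hB₁, hB₁'⟩ := H.orbit hreg θ₁ hθ₁
  have hvar := variance hc (f := fun u : Q => (hval F (z * ι u) : ℂ)) hn (B₀ := B₀) (B₁ := B₁)
    hB₀ hB₁ fun s hs t ht he => by
      obtain ⟨m₀, e₀⟩ := hB₀' s hs
      obtain ⟨m₁, e₁⟩ := hB₁' t ht
      rw [e₀, e₁] at he
      refine hne ?_
      have h1 := hnn (θ₀.comp (OddLocal.NilpotentPrimeAction.conjHom H.normal m₀).toMonoidHom)
      have h2 := hnn (θ₁.comp (OddLocal.NilpotentPrimeAction.conjHom H.normal m₁).toMonoidHom)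
      rw [hinv] at h1 h2
      rw [he] at h1
      have h3 := dvd_sub h2 h1
      rwa [show ∀ c d₀ d₁ : ℤ, c - d₁ - (c - d₀) = d₀ - d₁ by intros; ring] at h3
  refine le_trans ?_ (hvar.trans (le_of_eq (Finset.sum_congr (by ext; simp) fun u _ => ?_)))
  · rw [Nat.cast_mul, Nat.cast_mul]
    have hpe' : 2 * (e : ℝ) ≤ p := by exact_mod_cast hpe
    have : (e : ℝ) * (2 * e) ≤ e * p := mul_le_mul_of_nonneg_left hpe' (Nat.cast_nonneg _)
    nlinarith [Nat.cast_nonneg (α := ℝ) (Nat.card Q)]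
  · rw [Coherence.norm_intCast_sq]

include S

open scoped _root_.Classical in
/-- The bound from the elements conjugate to `v l` with `l` fixed by `v`. -/
theorem Setting.excess_coset [Fintype Q] (hO : IsPCompl N O p) (hP : IsSyl N P p) {v : P}
    (hv : (v : G) ∉ ⁅P, P⁆) {g₀ : ℤ}
    (hg : ∀ u : Q, u ≠ 1 → (p : ℤ) ∣ hval F (emb N (H.le_derK.trans (derK_le N)) u) - g₀)
    {L : ℕ} (hL0 : 0 < L) (hL : L ≤ Nat.card ↥(Q ⊓ centralizer ({(v : G)} : Set G))) :
    (Nat.card Q : ℝ) * ((L : ℝ) - 1) / L * (pdist p (g₀ - idx N) : ℝ) ^ 2 ≤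
      ∑ w ∈ Finset.univ.filter (fun w : Q => w ≠ 1),
        pieceVal N P Ψ φ₀ F (emb N hP.1 v * emb N (H.le_derK.trans (derK_le N)) w) v := by
  set ι := emb N (H.le_derK.trans (derK_le N)) with hι
  set vK := emb N hP.1 v with hvKdef
  letI : CommGroup Q := { (inferInstance : Group Q) with
    mul_comm := fun s t => Subtype.ext (H.comm s s.2 t t.2).eq }
  have hQp : ¬ p ∣ Nat.card Q := fun hd => hO.not_dvd (hd.trans (card_dvd_of_le H.le_O))
  have hvN : (v : G) ∈ N := OddLocal.sigmaCore_le N (hP.1 v.2)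
  set c := OddLocal.NilpotentPrimeAction.conjHom H.normal (⟨(v : G), hvN⟩⁻¹ : N) with hc
  have hc' : ∀ u : Q, ((c u : Q) : G) = (v : G)⁻¹ * u * (v : G) := fun u => by
    rw [hc, OddLocal.NilpotentPrimeAction.conjHom_apply]; simp
  let δ : ↥Q →* ↥Q := MonoidHom.mk' (fun u => c u * u⁻¹) fun s t => by
    rw [map_mul, mul_inv, mul_mul_mul_comm]
  set C := δ.ker with hC
  have hCmem : ∀ u : Q, u ∈ C ↔ Commute (v : G) u := fun u => by
    rw [hC, MonoidHom.mem_ker]
    show c u * u⁻¹ = 1 ↔ _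
    rw [mul_inv_eq_one, Subtype.ext_iff, hc']
    constructor
    · intro h
      show (v : G) * u = u * v
      conv_lhs => rw [← h]
      group
    · intro h
      rw [mul_assoc, ← h.eq, inv_mul_cancel_left]
  have hLC : L ≤ Nat.card C := by
    refine hL.trans (le_of_eq (Nat.card_congr ?_))
    exact
      { toFun := fun u => ⟨⟨u, u.2.1⟩, (hCmem _).2 (mem_centralizer_singleton_iff.1 u.2.2).symm⟩
        invFun := fun u => ⟨(u : Q), (u : Q).2,
          mem_centralizer_singleton_iff.2 (((hCmem _).1 u.2).symm).eq⟩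
        left_inv := fun u => rfl
        right_inv := fun u => rfl }
  have hcard : Nat.card δ.range * Nat.card C = Nat.card Q := by
    rw [hC, ← Subgroup.index_ker, mul_comm]
    exact Subgroup.card_mul_index _
  obtain ⟨k, hk⟩ := hP.isPGroup v
  have hvk : vK ^ p ^ k = 1 := by rw [hvKdef, ← map_pow, hk, map_one]
  -- the product map is injective
  have hinj : ∀ d ∈ δ.range, ∀ d' ∈ δ.range, ∀ l ∈ C, ∀ l' ∈ C,
      d * l = d' * l' → d = d' ∧ l = l' := by
    rintro _ ⟨s, rfl⟩ _ ⟨t, rfl⟩ l hl l' hl' he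
    have hd : δ (s * t⁻¹) = l' * l⁻¹ := by
      rw [map_mul, map_inv]
      calc δ s * (δ t)⁻¹ = (δ s * l) * (l⁻¹ * (δ t)⁻¹) := by group
        _ = (δ t * l') * (l⁻¹ * (δ t)⁻¹) := by rw [he]
        _ = l' * l⁻¹ := by rw [mul_comm (δ t) l', mul_comm l⁻¹]; group
    set r := s * t⁻¹
    set b := l' * l⁻¹
    have hb : c b = b := by
      have := MonoidHom.mem_ker.1 (mul_mem hl' (inv_mem hl) : b ∈ δ.ker)
      exact mul_inv_eq_one.1 this
    have hr : c r = b * r := mul_inv_eq_iff_eq_mul.1 hd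
    have hit : ∀ i : ℕ, (c ^ i) r = b ^ i * r := by
      intro i
      induction i with
      | zero => simp
      | succ i ih =>
        rw [pow_succ', MulAut.mul_apply, ih, map_mul, map_pow, hb, hr, ← mul_assoc, pow_succ]
    have hck : c ^ p ^ k = 1 := by
      rw [hc, ← map_pow, inv_pow, show (⟨(v : G), hvN⟩ : N) ^ p ^ k = 1 from Subtype.ext (by
        simpa using congrArg Subtype.val hk), inv_one, map_one]
    have hbk := hit (p ^ k)
    rw [hck, MulAut.one_apply, eq_comm, mul_eq_right] at hbk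
    have hb1 : b = 1 := orderOf_eq_one_iff.1 (Nat.eq_one_of_dvd_coprimes
      ((hp.out.coprime_iff_not_dvd.2 hQp).pow_left k) (orderOf_dvd_of_pow_eq_one hbk)
      (orderOf_dvd_natCard b))
    have hll : l' = l := mul_inv_eq_one.1 hb1
    subst hll
    exact ⟨mul_right_cancel he, rfl⟩
  have hterm : ∀ d ∈ δ.range, ∀ l ∈ C, l ≠ 1 → (pdist p (g₀ - idx N) : ℝ) ^ 2 ≤
      pieceVal N P Ψ φ₀ F (vK * ι (d * l)) v := by
    rintro _ ⟨u, rfl⟩ l hl hl1
    have hvl : Commute vK (ι l) := Subtype.ext (Subtype.ext ((hCmem l).1 hl).eq)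
    have hlp : (orderOf (ι l)).Coprime p :=
      (hp.out.coprime_iff_not_dvd.2 fun hd => hQp
        (hd.trans ((orderOf_map_dvd ι l).trans (orderOf_dvd_natCard l)))).symm
    have hι1 : ι l ≠ 1 := fun e => hl1 (Subtype.ext
      (congrArg (fun t : core N => ((t : N) : G)) e))
    obtain ⟨z, hz, hzd⟩ := S.excess_mixed V vK (ι l) (fun h => hv (by
      rw [← hO.derK_inf_syl hP]; exact ⟨h, v.2⟩)) (H.le_derK l.2) hι1 hlp hvl hvk
    have hconj : ((vK * ι (δ u * l) : core N) : N) =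
        (ι u : N) * ((vK * ι l : core N) : N) * (ι u : N)⁻¹ := by
      refine Subtype.ext ?_
      simp only [Subgroup.coe_mul, Subgroup.coe_inv, hι, hvKdef, coe_emb]
      show (v : G) * (((c u : Q) : G) * (u : G)⁻¹ * l) = (u : G) * ((v : G) * l) * (u : G)⁻¹
      rw [hc', show (u : G) * ((v : G) * l) * (u : G)⁻¹ = (u : G) * v * (l * (u : G)⁻¹) by group,
        ((H.comm u u.2 l l.2).inv_left).eq.symm]
      group
    rw [pieceVal, if_neg hv, hconj, V.images.class_excess V.mem, hz, Coherence.norm_intCast_sq]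
    refine pdist_sq_le ?_
    have h2 := hg l hl1
    rw [hval] at h2
    have h3 := dvd_add hzd h2
    rwa [show ∀ (a b c d : ℤ), a - b + (c + b - d) = a - (d - c) by intros; ring] at h3
  set T := (Finset.univ.filter (fun d : Q => d ∈ δ.range)) ×ˢ
    (Finset.univ.filter (fun l : Q => l ∈ C ∧ l ≠ 1)) with hT
  have hTimg : ∀ t ∈ T, t.1 * t.2 ∈ Finset.univ.filter (fun w : Q => w ≠ 1) := by
    intro t ht
    obtain ⟨hd, hl⟩ := Finset.mem_product.1 ht
    refine Finset.mem_filter.2 ⟨Finset.mem_univ _, fun h => ?_⟩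
    exact (Finset.mem_filter.1 hl).2.2 (hinj _ (Finset.mem_filter.1 hd).2 1 (one_mem _) _
      (Finset.mem_filter.1 hl).2.1 1 (one_mem _) (by rw [h, one_mul])).2
  have hTinj : Set.InjOn (fun t : Q × Q => t.1 * t.2) T := by
    intro t ht t' ht' e
    obtain ⟨hd, hl⟩ := Finset.mem_product.1 ht
    obtain ⟨hd', hl'⟩ := Finset.mem_product.1 ht'
    obtain ⟨h1, h2⟩ := hinj _ (Finset.mem_filter.1 hd).2 _ (Finset.mem_filter.1 hd').2 _
      (Finset.mem_filter.1 hl).2.1 _ (Finset.mem_filter.1 hl').2.1 e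
    exact Prod.ext h1 h2
  refine le_trans ?_ (Finset.sum_le_sum_of_subset_of_nonneg
    (s := T.image fun t : Q × Q => t.1 * t.2) (fun w hw => by
      obtain ⟨t, ht, rfl⟩ := Finset.mem_image.1 hw
      exact hTimg t ht) fun w _ _ => by rw [pieceVal, if_neg hv]; exact sq_nonneg _)
  rw [Finset.sum_image hTinj]
  refine le_trans ?_ (Finset.sum_le_sum (f := fun _ => (pdist p (g₀ - idx N) : ℝ) ^ 2)
    fun t ht => by
      obtain ⟨hd, hl⟩ := Finset.mem_product.1 ht
      exact hterm _ (Finset.mem_filter.1 hd).2 _ (Finset.mem_filter.1 hl).2.1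
        (Finset.mem_filter.1 hl).2.2)
  rw [Finset.sum_const, nsmul_eq_mul]
  refine mul_le_mul_of_nonneg_right ?_ (sq_nonneg _)
  have h1 : (Finset.univ.filter (fun d : Q => d ∈ δ.range)).card = Nat.card δ.range := by
    rw [← Fintype.card_subtype, ← Nat.card_eq_fintype_card]
  have h2 : (Finset.univ.filter (fun l : Q => l ∈ C ∧ l ≠ 1)).card = Nat.card C - 1 := by
    rw [← Finset.filter_filter, Finset.filter_ne', Finset.card_erase_of_mem
      (Finset.mem_filter.2 ⟨Finset.mem_univ _, one_mem _⟩), ← Fintype.card_subtype,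
      ← Nat.card_eq_fintype_card]
  rw [hT, Finset.card_product, h1, h2, Nat.cast_mul, Nat.cast_sub Nat.card_pos, Nat.cast_one,
    div_le_iff₀ (Nat.cast_pos.2 hL0), ← hcard, Nat.cast_mul]
  have hL' : (L : ℝ) ≤ Nat.card C := by exact_mod_cast hLC
  have h0 : (0 : ℝ) ≤ Nat.card δ.range := Nat.cast_nonneg _
  nlinarith [mul_le_mul_of_nonneg_left hL' h0]

end Cfsg.Agent.OddCharTwelve
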